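import Cfsg.Agent.BabyU.IdentHom

/-!
# The double cover of the Baby Monster: its relations and its uniqueness

`BRels s b z`: ten elements `s 0, …, s 9` (printed `t2, …, t11`) and `b` (printed `t1`) with the Coxeter relations of
`Y₄₃₃`, the spider relation, `ev s W231 ^ 9 = 1` and `ev s W213 ^ 9 = z`.  With `z = 1` these are the relators of
`Spor.BabyMonster`.

* `exists_lifts`: the lifts through a central extension `π : M →* E` by a group `{1, z}` of order two of elements with
  `BRels e b 1` can be chosen with `BRels m b' 1` or with `BRels m b' z`.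
* `exists_nodes`: if `E = Spor.BabyMonster` and `M` is perfect, then there are lifts of the generators with
  `BRels m b z`, and they generate `M`.
* `exists_mulEquiv`: two perfect central extensions of `Spor.BabyMonster` by groups of order two are isomorphic over
  `Spor.BabyMonster`.
* `nonempty_mulEquiv`: two perfect groups with centre of order two and central quotient `Spor.BabyMonster` are
  isomorphic.

No finiteness of `Spor.BabyMonster` is used.
-/

set_option autoImplicit false

namespace Cfsg.Agent.MonsterN.CoverB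

open Cfsg Cfsg.Agent.TwoESix.Cox10 Cfsg.Agent.TwoESix.Lift Cfsg.Agent.R01.Lifts Cfsg.Agent.BabyU.IdentHom
open Cfsg.Spor Cfsg.Spor.BabyMonster
open scoped commutatorElement

/-- The relations. -/
structure BRels {G : Type*} [Group G] (s : Fin 10 → G) (b z : G) : Prop where
  lift : M10.IsLiftable s
  spider : ev s spider ^ 10 = 1
  e231 : ev s W231 ^ 9 = 1
  e213 : ev s W213 ^ 9 = z
  sqb : b * b = 1
  b0 : (b * s 0) ^ 3 = 1
  bc : ∀ i, i ≠ 0 → b * s i = s i * b

section

variable {G : Type*} [Group G] {s : Fin 10 → G} {b z : G}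

theorem BRels.map {H : Type*} [Group H] (h : BRels s b z) (f : G →* H) :
    BRels (fun i => f (s i)) (f b) (f z) := by
  refine ⟨fun i j => ?_, ?_, ?_, ?_, ?_, ?_, ?_⟩
  · show (f (s i) * f (s j)) ^ _ = 1
    rw [← map_mul, ← map_pow]
    have := h.lift i j
    rw [this, map_one]
  · rw [← ev_map, ← map_pow, h.spider, map_one]
  · rw [← ev_map, ← map_pow, h.e231, map_one]
  · rw [← ev_map, ← map_pow, h.e213]
  · rw [← map_mul, h.sqb, map_one]
  · show (f b * f (s 0)) ^ 3 = 1
    rw [← map_mul, ← map_pow, h.b0, map_one]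
  · intro i hi
    show f b * f (s i) = f (s i) * f b
    rw [← map_mul, ← map_mul, h.bc i hi]

theorem BRels.hom (h : BRels s b 1) : ∃ φ : Spor.BabyMonster →* G, φ (PresentedGroup.of .t1) = b ∧
    ∀ g : Gen, g ≠ .t1 → φ (PresentedGroup.of g) = s (idx g) :=
  exists_hom_zrels (z := ev s W321 ^ 9) ⟨h.lift, h.spider, rfl, h.e231, h.e213⟩ h.sqb h.b0 h.bc

/-! ### The central involution -/

theorem chk_sq : chk (rep 9 W213 ++ rep 9 W213) [] = true := by decide +kernel
theorem chk_c1 (i : Fin 10) (hi : (i == 1 || i == 2 || i == 3 || i == 4 || i == 7 || i == 8 || i == 9) = true) :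
    chk (rep 9 W213 ++ [i]) ([i] ++ rep 9 W213) = true := by
  revert i; decide +kernel
theorem chk_c5 : chk (rep 9 W123 ++ [5]) ([5] ++ rep 9 W123) = true := by decide +kernel

theorem BRels.zz (h : BRels s b z) : z * z = 1 := by
  have := ev_eq_ev h.lift chk_sq
  rw [ev_append, ev_rep, ev_nil, h.e213] at this
  exact this

theorem BRels.e123 (h : BRels s b z) : ev s W123 ^ 9 = z := by rw [W213_eq h.lift h.spider, h.e213]

theorem BRels.z_comm (h : BRels s b z) (i : Fin 10) : Commute (s i) z := by
  have key1 : ∀ i : Fin 10, (i == 1 || i == 2 || i == 3 || i == 4 || i == 7 || i == 8 || i == 9) = true →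
      Commute (s i) z := by
    intro i hi
    have := ev_eq_ev h.lift (chk_c1 i hi)
    rw [ev_append, ev_append, ev_rep, h.e213, ev_cons, ev_nil, mul_one] at this
    exact this.symm
  have k5 : Commute (s 5) z := by
    have := ev_eq_ev h.lift chk_c5
    rw [ev_append, ev_append, ev_rep, h.e123, ev_cons, ev_nil, mul_one] at this
    exact this.symm
  have k0 : Commute (s 0) z := by
    rw [← h.e123]
    exact (comm_word h.lift (by decide)).pow_right 9
  have k6 : Commute (s 6) z := by
    rw [← h.e213]
    exact (comm_word h.lift (by decide)).pow_right 9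
  fin_cases i
  · exact k0
  · exact key1 _ (by decide)
  · exact key1 _ (by decide)
  · exact key1 _ (by decide)
  · exact key1 _ (by decide)
  · exact k5
  · exact k6
  · exact key1 _ (by decide)
  · exact key1 _ (by decide)
  · exact key1 _ (by decide)

theorem commute_ev {x : G} {w : List (Fin 10)} (hw : ∀ j ∈ w, Commute x (s j)) : Commute x (ev s w) := by
  induction w with
  | nil => rw [ev_nil]; exact Commute.one_right _
  | cons j w ih =>
    rw [ev_cons]
    exact (hw j (by simp)).mul_right (ih fun k hk => hw k (by simp [hk]))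

theorem W213_ne : ∀ j ∈ W213, j ≠ 0 := by decide

theorem BRels.b_comm (h : BRels s b z) : Commute b z := by
  rw [← h.e213]
  exact (commute_ev fun j hj => h.bc j (W213_ne j hj)).pow_right 9

theorem BRels.z_central (h : BRels s b z) (htop : Subgroup.closure (insert b (Set.range s)) = ⊤) (g : G) :
    Commute g z := by
  have hg : g ∈ Subgroup.closure (insert b (Set.range s)) := htop ▸ Subgroup.mem_top g
  induction hg using Subgroup.closure_induction with
  | mem y hy =>
    rcases hy with rfl | ⟨k, rfl⟩
    · exact h.b_comm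
    · exact h.z_comm k
  | one => exact Commute.one_left _
  | mul a b _ _ ha hb => exact ha.mul_left hb
  | inv a _ ha => exact ha.inv_left

end

/-! ### The generators of the presented group -/

/-- the generator of the index `i` -/
def gen : Fin 10 → Gen := ![.t2, .t3, .t4, .t5, .t6, .t7, .t8, .t9, .t10, .t11]

theorem gen_ne : ∀ i, gen i ≠ .t1 := by decide

theorem idx_gen : ∀ i, idx (gen i) = i := by decide

theorem gen_idx : ∀ g : Gen, g ≠ .t1 → gen (idx g) = g := by
  intro g; cases g <;> decide

theorem mem_nodes (g : Gen) : g ∈ coxNodes edges := by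
  cases g <;> decide

/-- the elements `t2, …, t11` -/
def e0 (i : Fin 10) : Spor.BabyMonster := PresentedGroup.of (gen i)

/-- the element `t1` -/
def b1 : Spor.BabyMonster := PresentedGroup.of .t1

theorem brels_std : BRels e0 b1 1 := by
  have key : ∀ r ∈ coxRelators edges ∪ {r | r ∈ extra},
      PresentedGroup.mk (coxRelators edges ∪ {r | r ∈ extra}) r = 1 := fun r hr => PresentedGroup.one_of_mem hr
  have cox : ∀ g g' : Gen, ((PresentedGroup.of g : Spor.BabyMonster) * PresentedGroup.of g') ^ coxLabel edges g g' = 1 := by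
    intro g g'
    have := key _ (Or.inl ⟨g, mem_nodes g, g', mem_nodes g', rfl⟩)
    rw [map_pow, map_mul] at this
    exact this
  have sqt : ∀ g : Gen, (PresentedGroup.of g : Spor.BabyMonster) * PresentedGroup.of g = 1 := by
    intro g
    have := cox g g
    rwa [coxLabel, if_pos rfl, pow_one] at this
  refine ⟨fun i j => ?_, ?_, ?_, ?_, ?_, ?_, ?_⟩
  · have := cox (gen i) (gen j)
    rw [idx_label _ _ (gen_ne i) (gen_ne j), idx_gen, idx_gen] at this
    exact this
  · have := key _ (Or.inr (show _ ∈ extra from List.mem_cons_self))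
    rw [map_pow] at this
    simp only [map_mul] at this
    simp only [spider, ev, List.map_cons, List.map_nil, List.prod_cons, List.prod_nil, mul_one]
    simp only [mul_assoc] at this
    exact this
  · have := key _ (Or.inr (show _ ∈ extra from List.mem_cons_of_mem _ List.mem_cons_self))
    rw [map_pow] at this
    simp only [map_mul] at this
    simp only [W231, ev, List.map_cons, List.map_nil, List.prod_cons, List.prod_nil, mul_one]
    simp only [mul_assoc] at this
    exact this
  · have := key _ (Or.inr (show _ ∈ extra from List.mem_cons_of_mem _ (List.mem_cons_of_mem _ List.mem_cons_self)))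
    rw [map_pow] at this
    simp only [map_mul] at this
    simp only [W213, ev, List.map_cons, List.map_nil, List.prod_cons, List.prod_nil, mul_one]
    simp only [mul_assoc] at this
    exact this
  · exact sqt _
  · exact cox .t1 .t2
  · intro i hi
    have hlab : coxLabel edges .t1 (gen i) = 2 := by
      revert i; decide
    have h2 := cox .t1 (gen i)
    rw [hlab, pow_two] at h2
    have e1 : (b1)⁻¹ = b1 := inv_eq_of_mul_eq_one_left (sqt _)
    have e2 : (e0 i)⁻¹ = e0 i := inv_eq_of_mul_eq_one_left (sqt _)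
    have h3 : (b1 * e0 i) * (b1 * e0 i) = 1 := h2
    rw [eq_inv_of_mul_eq_one_left h3, mul_inv_rev, e1, e2]

theorem closure_std : Subgroup.closure (insert b1 (Set.range e0)) = ⊤ := by
  rw [eq_top_iff, ← PresentedGroup.closure_range_of, Subgroup.closure_le]
  rintro _ ⟨g, rfl⟩
  apply Subgroup.subset_closure
  by_cases hg : g = .t1
  · subst hg; exact Set.mem_insert _ _
  · refine Set.mem_insert_of_mem _ ⟨idx g, ?_⟩
    show PresentedGroup.of (gen (idx g)) = _
    rw [gen_idx g hg]

/-- Two homomorphisms from the presented group which agree on the generators. -/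
theorem hom_ext {G : Type*} [Group G] {φ ψ : Spor.BabyMonster →* G} (hb : φ b1 = ψ b1)
    (h : ∀ i, φ (e0 i) = ψ (e0 i)) : φ = ψ := by
  apply PresentedGroup.ext
  intro g
  by_cases hg : g = .t1
  · subst hg; exact hb
  · have := h (idx g)
    rw [e0, gen_idx g hg] at this
    exact this

/-- The homomorphism of a system with the relations. -/
theorem BRels.exists_hom {G : Type*} [Group G] {s : Fin 10 → G} {b : G} (h : BRels s b 1) :
    ∃ φ : Spor.BabyMonster →* G, φ b1 = b ∧ ∀ i, φ (e0 i) = s i := by
  obtain ⟨φ, h1, h2⟩ := h.hom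
  refine ⟨φ, h1, fun i => ?_⟩
  rw [e0, h2 _ (gen_ne i), idx_gen]

/-! ### Lifting -/

section Lift

variable {M E : Type*} [Group M] [Group E] {π : M →* E} {z : M}

/-- Lifts of the ten nodes with the exact Coxeter and spider relations, if the ninth power of the word `W231` is
trivial. -/
theorem exists_cox' (h : Ext π z) {e : Fin 10 → E} (hl : M10.IsLiftable e) (hsp : ev e spider ^ 10 = 1)
    (h231 : ev e W231 ^ 9 = 1) :
    ∃ m : Fin 10 → M, (∀ i, π (m i) = e i) ∧ M10.IsLiftable m ∧ ev m spider ^ 10 = 1 := by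
  obtain ⟨m, hm, hb⟩ := exists_braids h hl
  have h132 : ev e W132 ^ 9 = 1 := by rw [W231_eq hl hsp]; exact h231
  have hc := comm_lift h hl h132 hm hb
  have hsq := sq_lift h h132 hl hm hb hc
  have hl' : M10.IsLiftable m := by
    intro i j
    show (m i * m j) ^ lab i j = 1
    rcases lab_cases i j with ⟨h1, rfl⟩ | h1 | h1
    · rw [h1, pow_one]; exact hsq i
    · rw [h1, (hc i j h1).mul_pow, pow_two, pow_two, hsq, hsq, one_mul]
    · rw [h1]
      have hbb := hb i j (adj_of_lab i j h1)
      calc (m i * m j) ^ 3 = (m i * m j * m i) * (m j * m i * m j) := by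
            simp only [pow_succ, pow_zero, one_mul, mul_assoc]
        _ = (m j * m i * m j) * (m j * m i * m j) := by rw [hbb]
        _ = m j * m i * (m j * m j) * m i * m j := by group
        _ = m j * (m i * m i) * m j := by rw [hsq j]; group
        _ = 1 := by rw [hsq i, mul_one, hsq j]
  refine ⟨m, hm, hl', ?_⟩
  have hπ : π (ev m spider ^ 10) = 1 := by
    rw [map_pow, ev_map, ← hsp]
    congr 2
    funext i; exact hm i
  rcases (h.ker _).1 hπ with h1 | h1
  · exact h1
  · apply spider_eq_one hl'
    · intro g; rw [h1]; exact (h.comm g).symm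
    · rw [h1, h.zz]

/-- Transport of a commuting pair by an element commuting with the first one modulo the kernel. -/
theorem comm_conj (h : Ext π z) {x y g : M} (hxy : Commute x y) (hg : Commute (π g) (π x)) :
    Commute x (g * y * g⁻¹) := by
  have h2 : Commute (g * x * g⁻¹) (g * y * g⁻¹) := (Commute.conj_iff g).2 hxy
  rcases h.conj_of_commute hg with h3 | h3
  · rw [h3] at h2; exact h2
  · rw [h3] at h2
    have hz : Commute z (g * y * g⁻¹) := (h.comm _).symm
    have h4 : Commute (x * z * z) (g * y * g⁻¹) := h2.mul_left hz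
    rwa [h.mul_z_mul_z] at h4

theorem mul_z_mul (h : Ext π z) (x y : M) : x * z * (y * z) = x * y := by
  calc x * z * (y * z) = x * (z * y) * z := by group
    _ = x * (y * z) * z := by rw [h.comm y]
    _ = x * y * z * z := by group
    _ = x * y := h.mul_z_mul_z _

/-- **Lifts of the eleven nodes.** -/
theorem exists_lifts (h : Ext π z) {e : Fin 10 → E} {b : E} (he : BRels e b 1) :
    ∃ (m : Fin 10 → M) (b' : M), (∀ i, π (m i) = e i) ∧ π b' = b ∧ (BRels m b' 1 ∨ BRels m b' z) := by
  obtain ⟨m, hm, hl, hsp⟩ := exists_cox' h he.lift he.spider he.e231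
  have hsq := fun i => sq hl i
  have esq := fun i => sq he.lift i
  -- the lift of `b`
  have hbe : e 0 * b * e 0 = b * e 0 * b := by
    have h1 : (b * e 0 * b) * (e 0 * b * e 0) = 1 := by
      rw [← he.b0]; simp only [pow_succ, pow_zero, one_mul, mul_assoc]
    have ib : b⁻¹ = b := inv_eq_of_mul_eq_one_left he.sqb
    have ie : (e 0)⁻¹ = e 0 := inv_eq_of_mul_eq_one_left (esq 0)
    rw [eq_inv_of_mul_eq_one_right h1]
    simp only [mul_inv_rev, ib, ie, mul_assoc]
  obtain ⟨b', hb', hbb⟩ := exists_braid h hbe (m 0) (hm 0)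
  have hconj : (m 0 * b') * m 0 * (m 0 * b')⁻¹ = b' := conj_braid hbb
  have hsqb : b' * b' = 1 := by
    calc b' * b' = ((m 0 * b') * m 0 * (m 0 * b')⁻¹) * ((m 0 * b') * m 0 * (m 0 * b')⁻¹) := by rw [hconj]
      _ = (m 0 * b') * (m 0 * m 0) * (m 0 * b')⁻¹ := by group
      _ = 1 := by rw [hsq 0, mul_one, mul_inv_cancel]
  have hb0 : (b' * m 0) ^ 3 = 1 := by
    calc (b' * m 0) ^ 3 = (b' * m 0 * b') * (m 0 * b' * m 0) := by
          simp only [pow_succ, pow_zero, one_mul, mul_assoc]
      _ = (m 0 * b' * m 0) * (m 0 * b' * m 0) := by rw [hbb]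
      _ = m 0 * b' * (m 0 * m 0) * b' * m 0 := by group
      _ = m 0 * (b' * b') * m 0 := by rw [hsq 0]; group
      _ = 1 := by rw [hsqb, mul_one, hsq 0]
  have hcomm2 : ∀ i : Fin 10, i ≠ 0 → i ≠ 1 → Commute b' (m i) := by
    intro i h0 h1
    have hl2 : lab i 0 = 2 := by
      revert i; decide
    have h2 : Commute (m i) (m 0) := comm_of hl hl2
    have h3 := comm_conj h (g := m 0 * b') h2 (by
      rw [map_mul, hm, hm, hb']
      exact (comm_of he.lift hl2).symm.mul_left (he.bc i h0))
    rw [hconj] at h3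
    exact h3.symm
  have hcomm1 : Commute b' (m 1) := by
    have h3 := comm_conj h (g := m 2 * m 1) (hcomm2 2 (by decide) (by decide)) (by
      rw [map_mul, hm, hm, hb']
      exact Commute.mul_left (Commute.symm (he.bc 2 (by decide))) (Commute.symm (he.bc 1 (by decide))))
    rw [conj_braid (braid hl (i := 2) (j := 1) (by decide))] at h3
    exact h3
  have hbc : ∀ i, i ≠ 0 → b' * m i = m i * b' := by
    intro i hi
    by_cases h1 : i = 1
    · subst h1; exact hcomm1
    · exact hcomm2 i hi h1
  -- the signs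
  have hmap : ∀ w : List (Fin 10), ev e w ^ 9 = 1 → ev m w ^ 9 = 1 ∨ ev m w ^ 9 = z := by
    intro w hw
    apply (h.ker _).1
    rw [map_pow, ev_map, ← hw]
    congr 2
    funext i; exact hm i
  have l2 : W231.length = 7 := rfl
  have l3 : W213.length = 7 := rfl
  have hm' : ∀ i, π (m i * z) = e i := fun i => by rw [map_mul, h.mapz, mul_one]; exact hm i
  have hbz : π (b' * z) = b := by rw [map_mul, h.mapz, mul_one]; exact hb'
  have hl' := lift_mul_z h hl
  have hsp' := spider_mul_z h hsp
  have hsqb' : b' * z * (b' * z) = 1 := by rw [mul_z_mul h, hsqb]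
  have hb0' : (b' * z * (m 0 * z)) ^ 3 = 1 := by rw [mul_z_mul h, hb0]
  have hbc' : ∀ i, i ≠ 0 → b' * z * (m i * z) = m i * z * (b' * z) := by
    intro i hi
    rw [mul_z_mul h, mul_z_mul h, hbc i hi]
  rcases hmap W231 he.e231 with h2 | h2 <;> rcases hmap W213 he.e213 with h3 | h3
  · exact ⟨m, b', hm, hb', Or.inl ⟨hl, hsp, h2, h3, hsqb, hb0, hbc⟩⟩
  · exact ⟨m, b', hm, hb', Or.inr ⟨hl, hsp, h2, h3, hsqb, hb0, hbc⟩⟩
  · refine ⟨fun i => m i * z, b' * z, hm', hbz, Or.inr ⟨hl', hsp', ?_, ?_, hsqb', hb0', hbc'⟩⟩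
    · rw [ev7_mul_z h m l2, h2, h.zz]
    · rw [ev7_mul_z h m l3, h3, one_mul]
  · refine ⟨fun i => m i * z, b' * z, hm', hbz, Or.inl ⟨hl', hsp', ?_, ?_, hsqb', hb0', hbc'⟩⟩
    · rw [ev7_mul_z h m l2, h2, h.zz]
    · rw [ev7_mul_z h m l3, h3, h.zz]

/-- A perfect central extension by a group of order two has no section. -/
theorem no_section (h : Ext π z) (hperf : commutator M = ⊤) (σ : E →* M) (hσ : ∀ x, π (σ x) = x) : False := by
  have hcen : ∀ x y : M, y * (x * (σ (π x))⁻¹) = (x * (σ (π x))⁻¹) * y := by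
    intro x y
    have h1 : π (x * (σ (π x))⁻¹) = 1 := by rw [map_mul, map_inv, hσ, mul_inv_cancel]
    rcases (h.ker _).1 h1 with h2 | h2
    · rw [h2, one_mul, mul_one]
    · rw [h2]; exact h.comm y
  let f : M →* M :=
    { toFun := fun x => x * (σ (π x))⁻¹
      map_one' := by rw [map_one, map_one, inv_one, mul_one]
      map_mul' := fun x y => by
        show x * y * (σ (π (x * y)))⁻¹ = x * (σ (π x))⁻¹ * (y * (σ (π y))⁻¹)
        rw [map_mul, map_mul, mul_inv_rev]
        calc x * y * ((σ (π y))⁻¹ * (σ (π x))⁻¹) = x * (y * (σ (π y))⁻¹ * (σ (π x))⁻¹) := by group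
          _ = x * ((σ (π x))⁻¹ * (y * (σ (π y))⁻¹)) := by rw [hcen y ((σ (π x))⁻¹)]
          _ = _ := by group }
  have hker : commutator M ≤ f.ker := by
    rw [commutator_def, Subgroup.commutator_le]
    intro x _ y _
    rw [MonoidHom.mem_ker, map_commutatorElement, commutatorElement_eq_one_iff_mul_comm]
    exact (hcen x (f y)).symm ▸ rfl
  rw [hperf] at hker
  have h1 : f z = 1 := hker (Subgroup.mem_top z)
  have h2 : f z = z := by
    show z * (σ (π z))⁻¹ = z
    rw [h.mapz, map_one, inv_one, mul_one]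
  rw [h2] at h1
  exact h.zne h1

/-- A system generating the quotient together with `z` in its closure generates. -/
theorem closure_eq_top (h : Ext π z) {e : Fin 10 → E} {b : E}
    (hgen : Subgroup.closure (insert b (Set.range e)) = ⊤) {m : Fin 10 → M} {b' : M} (hm : ∀ i, π (m i) = e i)
    (hb : π b' = b) (hz : BRels m b' z) : Subgroup.closure (insert b' (Set.range m)) = ⊤ := by
  have hzm : z ∈ Subgroup.closure (insert b' (Set.range m)) := by
    rw [← hz.e213]
    refine Subgroup.pow_mem _ ?_ _
    rw [ev]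
    apply Subgroup.list_prod_mem
    intro x hx
    obtain ⟨i, _, rfl⟩ := List.mem_map.1 hx
    exact Subgroup.subset_closure (Set.mem_insert_of_mem _ ⟨i, rfl⟩)
  rw [eq_top_iff]
  intro c _
  have h1 : π c ∈ Subgroup.map π (Subgroup.closure (insert b' (Set.range m))) := by
    rw [MonoidHom.map_closure]
    have : insert b (Set.range e) ⊆ π '' insert b' (Set.range m) := by
      rintro x (rfl | ⟨y, rfl⟩)
      · exact ⟨b', Set.mem_insert _ _, hb⟩
      · exact ⟨m y, Set.mem_insert_of_mem _ ⟨y, rfl⟩, hm y⟩
    exact Subgroup.closure_mono this (hgen ▸ Subgroup.mem_top _)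
  obtain ⟨c', hc', hcc⟩ := h1
  rcases h.map_eq.1 hcc with h2 | h2
  · rw [← h2]; exact hc'
  · have e : c = c' * z := by rw [h2, h.mul_z_mul_z]
    rw [e]
    exact Subgroup.mul_mem _ hc' hzm

end Lift

/-! ### The double cover of the Baby Monster -/

section Cover

variable {M M' : Type*} [Group M] [Group M']

/-- **The nodes of the double cover** (`hno`: the extension does not split). -/
theorem exists_nodes' {π : M →* Spor.BabyMonster} {z : M} (h : Ext π z)
    (hno : ∀ σ : Spor.BabyMonster →* M, ¬ ∀ x, π (σ x) = x) :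
    ∃ (m : Fin 10 → M) (b : M), (∀ i, π (m i) = e0 i) ∧ π b = b1 ∧ BRels m b z ∧
      Subgroup.closure (insert b (Set.range m)) = ⊤ := by
  obtain ⟨m, b, hm, hb, hr | hr⟩ := exists_lifts h brels_std
  · exfalso
    obtain ⟨σ, hσb, hσ⟩ := hr.exists_hom
    refine hno σ fun x => ?_
    have : π.comp σ = MonoidHom.id _ := by
      apply hom_ext
      · show π (σ b1) = b1
        rw [hσb, hb]
      · intro i
        show π (σ (e0 i)) = e0 i
        rw [hσ, hm]
    exact DFunLike.congr_fun this x
  · exact ⟨m, b, hm, hb, hr, closure_eq_top h closure_std hm hb hr⟩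

/-- **The nodes of the double cover**, perfect case. -/
theorem exists_nodes {π : M →* Spor.BabyMonster} {z : M} (h : Ext π z) (hperf : commutator M = ⊤) :
    ∃ (m : Fin 10 → M) (b : M), (∀ i, π (m i) = e0 i) ∧ π b = b1 ∧ BRels m b z ∧
      Subgroup.closure (insert b (Set.range m)) = ⊤ :=
  exists_nodes' h fun σ hσ => no_section h hperf σ hσ

/-- **Uniqueness**, from the relations: two groups generated by systems with the relations `BRels` with non-trivial
central elements `z` and `z'`. -/
theorem exists_mulEquiv_of_brels {s : Fin 10 → M} {s' : Fin 10 → M'} {b z : M} {b' z' : M'}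
    (h : BRels s b z) (h' : BRels s' b' z') (htop : Subgroup.closure (insert b (Set.range s)) = ⊤)
    (htop' : Subgroup.closure (insert b' (Set.range s')) = ⊤) (hz : z ≠ 1) (hz' : z' ≠ 1)
    {π : M →* Spor.BabyMonster} {π' : M' →* Spor.BabyMonster} (hs : ∀ i, π (s i) = e0 i) (hb : π b = b1)
    (hs' : ∀ i, π' (s' i) = e0 i) (hb' : π' b' = b1) :
    ∃ α : M ≃* M', (∀ i, α (s i) = s' i) ∧ α b = b' ∧ α z = z' ∧ ∀ x, π' (α x) = π x := by
  -- the diagonal subgroup
  let S : Set (M × M') := insert (b, b') (Set.range fun x => (s x, s' x))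
  let H : Subgroup (M × M') := Subgroup.closure S
  let t : Fin 10 → H := fun x => ⟨(s x, s' x), Subgroup.subset_closure (Set.mem_insert_of_mem _ ⟨x, rfl⟩)⟩
  let tb : H := ⟨(b, b'), Subgroup.subset_closure (Set.mem_insert _ _)⟩
  have hevt : ∀ w, ((ev t w : H) : M × M') = (ev s w, ev s' w) := by
    intro w
    have h1 : ((ev t w : H) : M × M') = ev (fun i => (s i, s' i)) w := ev_map H.subtype t w
    rw [h1]
    refine Prod.ext ?_ ?_
    · exact ev_map (MonoidHom.fst M M') _ w
    · exact ev_map (MonoidHom.snd M M') _ w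
  have hzH : (z, z') ∈ H := by
    have e : (z, z') = ((ev t W213 ^ 9 : H) : M × M') := by
      rw [SubmonoidClass.coe_pow, hevt]
      refine Prod.ext ?_ ?_
      · exact h.e213.symm
      · exact h'.e213.symm
    rw [e]
    exact Subtype.property _
  let tz : H := ⟨(z, z'), hzH⟩
  have ht : BRels t tb tz := by
    refine ⟨fun x y => ?_, ?_, ?_, ?_, ?_, ?_, ?_⟩
    · apply Subtype.ext
      refine Prod.ext ?_ ?_
      · exact h.lift x y
      · exact h'.lift x y
    · apply Subtype.ext
      rw [SubmonoidClass.coe_pow, hevt]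
      refine Prod.ext ?_ ?_
      · exact h.spider
      · exact h'.spider
    · apply Subtype.ext
      rw [SubmonoidClass.coe_pow, hevt]
      refine Prod.ext ?_ ?_
      · exact h.e231
      · exact h'.e231
    · apply Subtype.ext
      rw [SubmonoidClass.coe_pow, hevt]
      refine Prod.ext ?_ ?_
      · exact h.e213
      · exact h'.e213
    · apply Subtype.ext
      refine Prod.ext ?_ ?_
      · exact h.sqb
      · exact h'.sqb
    · apply Subtype.ext
      refine Prod.ext ?_ ?_
      · exact h.b0
      · exact h'.b0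
    · intro i hi
      apply Subtype.ext
      refine Prod.ext ?_ ?_
      · exact h.bc i hi
      · exact h'.bc i hi
  have httop : Subgroup.closure (insert tb (Set.range t)) = ⊤ := by
    have h1 : Subgroup.map H.subtype (Subgroup.closure (insert tb (Set.range t))) = Subgroup.map H.subtype ⊤ := by
      rw [MonoidHom.map_closure, Set.image_insert_eq, ← Set.range_comp, ← MonoidHom.range_eq_map,
        Subgroup.range_subtype]
      rfl
    exact Subgroup.map_injective (Subgroup.subtype_injective _) h1
  -- the quotient by `tz`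
  have hcen : tz ∈ Subgroup.center H := by
    rw [Subgroup.mem_center_iff]
    intro g; exact (ht.z_central httop g).eq
  have hnorm : (Subgroup.zpowers tz).Normal := by
    refine ⟨fun n hn g => ?_⟩
    have hn' : n ∈ Subgroup.center H := (Subgroup.zpowers_le.2 hcen) hn
    rw [Subgroup.mem_center_iff] at hn'
    rw [hn' g, mul_assoc, mul_inv_cancel, mul_one]
    exact hn
  let q := QuotientGroup.mk' (Subgroup.zpowers tz)
  have hqz : q tz = 1 := (QuotientGroup.eq_one_iff _).2 (Subgroup.mem_zpowers tz)
  obtain ⟨φ, hφb, hφ⟩ := (hqz ▸ ht.map q : BRels (fun i => q (t i)) (q tb) 1).exists_hom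
  let p : H →* M := (MonoidHom.fst M M').comp H.subtype
  let p' : H →* M' := (MonoidHom.snd M M').comp H.subtype
  have hker : ∀ ρ : H →* Spor.BabyMonster, ρ tb = b1 → (∀ i, ρ (t i) = e0 i) → ∀ x, ρ x = 1 →
      x ∈ Subgroup.zpowers tz := by
    intro ρ hρb hρ x hx
    have h1 : φ.comp ρ = q := by
      refine MonoidHom.eq_of_eqOn_dense httop ?_
      rintro y (rfl | ⟨i, rfl⟩)
      · show φ (ρ tb) = q tb
        rw [hρb, hφb]
      · show φ (ρ (t i)) = q (t i)
        rw [hρ, hφ]
    have h2 : q x = 1 := by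
      rw [← h1]
      show φ (ρ x) = 1
      rw [hx, map_one]
    exact (QuotientGroup.eq_one_iff x).1 h2
  have htz2 : tz ^ (2 : ℤ) = 1 := by
    rw [zpow_ofNat, pow_two]; exact ht.zz
  have hz2 : ∀ x ∈ Subgroup.zpowers tz, x = 1 ∨ x = tz := by
    intro x hx
    obtain ⟨k, rfl⟩ := Subgroup.mem_zpowers_iff.1 hx
    rcases Int.even_or_odd' k with ⟨l, rfl | rfl⟩
    · left; rw [zpow_mul, htz2, one_zpow]
    · right; rw [zpow_add, zpow_mul, htz2, one_zpow, one_mul, zpow_one]
  have hpi : Function.Injective p := by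
    rw [injective_iff_map_eq_one]
    intro x hx
    have h1 : (π.comp p) x = 1 := by
      show π (p x) = 1
      rw [hx, map_one]
    rcases hz2 x (hker (π.comp p) hb hs x h1) with h2 | rfl
    · exact h2
    · exact absurd hx hz
  have hpi' : Function.Injective p' := by
    rw [injective_iff_map_eq_one]
    intro x hx
    have h1 : (π'.comp p') x = 1 := by
      show π' (p' x) = 1
      rw [hx, map_one]
    rcases hz2 x (hker (π'.comp p') hb' hs' x h1) with h2 | rfl
    · exact h2
    · exact absurd hx hz'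
  have hp : Function.Surjective p := by
    rw [← MonoidHom.range_eq_top, eq_top_iff, ← htop, Subgroup.closure_le]
    rintro _ (rfl | ⟨x, rfl⟩)
    · exact ⟨tb, rfl⟩
    · exact ⟨t x, rfl⟩
  have hp' : Function.Surjective p' := by
    rw [← MonoidHom.range_eq_top, eq_top_iff, ← htop', Subgroup.closure_le]
    rintro _ (rfl | ⟨x, rfl⟩)
    · exact ⟨tb, rfl⟩
    · exact ⟨t x, rfl⟩
  let e := MulEquiv.ofBijective p ⟨hpi, hp⟩
  let e' := MulEquiv.ofBijective p' ⟨hpi', hp'⟩
  have hval : ∀ y : H, (e.symm.trans e') (p y) = p' y := by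
    intro y
    have : e.symm (p y) = y := by rw [MulEquiv.symm_apply_eq]; rfl
    rw [MulEquiv.trans_apply, this]; rfl
  refine ⟨e.symm.trans e', fun x => hval (t x), hval tb, hval tz, fun x => ?_⟩
  have hcomp : π'.comp p' = π.comp p := by
    refine MonoidHom.eq_of_eqOn_dense httop ?_
    rintro y (rfl | ⟨i, rfl⟩)
    · show π' b' = π b
      rw [hb, hb']
    · show π' (s' i) = π (s i)
      rw [hs, hs']
  obtain ⟨y, rfl⟩ := hp x
  rw [hval]
  exact DFunLike.congr_fun hcomp y

/-- **Uniqueness of the double cover of the Baby Monster**, over the Baby Monster. -/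
theorem exists_mulEquiv {π : M →* Spor.BabyMonster} {π' : M' →* Spor.BabyMonster} {z : M} {z' : M'}
    (h : Ext π z) (h' : Ext π' z') (hperf : commutator M = ⊤) (hperf' : commutator M' = ⊤) :
    ∃ α : M ≃* M', α z = z' ∧ ∀ x, π' (α x) = π x := by
  obtain ⟨m, b, hm, hb, hr, htop⟩ := exists_nodes h hperf
  obtain ⟨m', b', hm', hb', hr', htop'⟩ := exists_nodes h' hperf'
  obtain ⟨α, _, _, h3, h4⟩ := exists_mulEquiv_of_brels hr hr' htop htop' h.zne h'.zne hm hb hm' hb'
  exact ⟨α, h3, h4⟩

/-- The projection of a group with centre of order two onto its central quotient. -/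
theorem exists_ext {E : Type*} [Group E] (h2 : Nat.card (Subgroup.center M) = 2)
    (f : (M ⧸ Subgroup.center M) ≃* E) :
    ∃ z : M, Ext (f.toMonoidHom.comp (QuotientGroup.mk' (Subgroup.center M))) z := by
  obtain ⟨z, hz1, hz⟩ : ∃ z : M, z ≠ 1 ∧ (Subgroup.center M : Set M) = {1, z} := by
    have hn : (Subgroup.center M : Set M).ncard = 2 := h2
    obtain ⟨a, b, hab, hs⟩ := Set.ncard_eq_two.1 hn
    have h1 : (1 : M) ∈ ({a, b} : Set M) := hs ▸ (Subgroup.center M).one_mem
    rcases h1 with rfl | h1
    · exact ⟨b, hab.symm, hs⟩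
    · have h1' : (1 : M) = b := h1
      subst h1'
      exact ⟨a, hab, by rw [hs, Set.pair_comm]⟩
  have hmem : ∀ c, c ∈ Subgroup.center M ↔ c = 1 ∨ c = z := by
    intro c
    have : c ∈ (Subgroup.center M : Set M) ↔ c ∈ ({1, z} : Set M) := by rw [hz]
    exact this
  have hzc := (hmem z).2 (Or.inr rfl)
  refine ⟨z, ?_, ?_, hz1, ?_, ?_⟩
  · exact f.surjective.comp (QuotientGroup.mk'_surjective _)
  · rcases (hmem _).1 ((Subgroup.center M).mul_mem hzc hzc) with h | h
    · exact h
    · exact absurd (mul_eq_left.1 h) hz1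
  · intro c
    show f (QuotientGroup.mk' (Subgroup.center M) c) = 1 ↔ _
    rw [← map_one f, f.injective.eq_iff, ← hmem]
    exact QuotientGroup.eq_one_iff c
  · intro c
    exact Subgroup.mem_center_iff.1 hzc c

/-- **Uniqueness**: two perfect groups with centre of order two and central quotient the Baby Monster are isomorphic;
more precisely every isomorphism of the central quotients lifts. -/
theorem exists_mulEquiv_of_center (h2 : Nat.card (Subgroup.center M) = 2) (h2' : Nat.card (Subgroup.center M') = 2)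
    (hperf : commutator M = ⊤) (hperf' : commutator M' = ⊤)
    (f : (M ⧸ Subgroup.center M) ≃* Spor.BabyMonster) (f' : (M' ⧸ Subgroup.center M') ≃* Spor.BabyMonster) :
    ∃ α : M ≃* M', ∀ x : M, f' (QuotientGroup.mk' (Subgroup.center M') (α x)) =
      f (QuotientGroup.mk' (Subgroup.center M) x) := by
  obtain ⟨z, hz⟩ := exists_ext h2 f
  obtain ⟨z', hz'⟩ := exists_ext h2' f'
  obtain ⟨α, -, h⟩ := exists_mulEquiv hz hz' hperf hperf'
  exact ⟨α, h⟩

/-- **Uniqueness**, `Nonempty` form. -/
theorem nonempty_mulEquiv (h2 : Nat.card (Subgroup.center M) = 2) (h2' : Nat.card (Subgroup.center M') = 2)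
    (hperf : commutator M = ⊤) (hperf' : commutator M' = ⊤)
    (f : Nonempty ((M ⧸ Subgroup.center M) ≃* Spor.BabyMonster))
    (f' : Nonempty ((M' ⧸ Subgroup.center M') ≃* Spor.BabyMonster)) : Nonempty (M ≃* M') := by
  obtain ⟨f⟩ := f
  obtain ⟨f'⟩ := f'
  obtain ⟨α, -⟩ := exists_mulEquiv_of_center h2 h2' hperf hperf' f f'
  exact ⟨α⟩

end Cover

end Cfsg.Agent.MonsterN.CoverB
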