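import Mathlib

/-!
# Fusion of a `2A`-involution `t` with centraliser `2.B` (step (N1) for the recognition of the Monster)

`X` is a group with a central involution `t` (for the Monster: `X = C_M(t) = 2.B`), `f₁, …, f₄` commuting
elements (transpositions of `Fi23`).  The involutions of `X` other than `t` are conjugate to
`f₁` (type A, `t f₁ ~ f₁`), `f₁f₂` (type Y), `t f₁f₂` (type Z) or `f₁f₂f₃` (type D, `t f₁f₂f₃ ~ f₁f₂f₃`).

If `φ : X → G` is an isomorphism of `X` onto `C_G(φ t)` and `φ t` is conjugate in `G` to another element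
commuting with it, then `φ t` is conjugate to `φ f₁`.
-/

set_option autoImplicit false

namespace Cfsg.Agent.MonsterN.FusionType

/-- The facts on `X = 2.B`. -/
structure Facts {X : Type*} [Group X] (t f₁ f₂ f₃ f₄ : X) : Prop where
  t_sq : t * t = 1
  t_ne : t ≠ 1
  cen : ∀ x : X, x * t = t * x
  sq₁ : f₁ * f₁ = 1
  sq₂ : f₂ * f₂ = 1
  sq₃ : f₃ * f₃ = 1
  sq₄ : f₄ * f₄ = 1
  c12 : f₁ * f₂ = f₂ * f₁
  c13 : f₁ * f₃ = f₃ * f₁
  c14 : f₁ * f₄ = f₄ * f₁
  c23 : f₂ * f₃ = f₃ * f₂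
  c24 : f₂ * f₄ = f₄ * f₂
  c34 : f₃ * f₄ = f₄ * f₃
  /-- the involutions of `X` -/
  classes : ∀ u : X, u * u = 1 → u ≠ 1 → u ≠ t →
    IsConj f₁ u ∨ IsConj (f₁ * f₂) u ∨ IsConj (t * (f₁ * f₂)) u ∨ IsConj (f₁ * f₂ * f₃) u
  a_t : IsConj f₁ (t * f₁)
  a_3 : IsConj f₁ f₃
  d_t : IsConj (f₁ * f₂ * f₃) (t * (f₁ * f₂ * f₃))
  d_124 : IsConj (f₁ * f₂ * f₃) (f₁ * f₂ * f₄)
  d_1234 : IsConj (f₁ * f₂ * f₃) (f₁ * f₂ * (f₃ * f₄))
  y_13 : IsConj (f₁ * f₂) (f₁ * f₃)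
  y_23 : IsConj (f₁ * f₂) (f₂ * f₃)
  y_14 : IsConj (f₁ * f₂) (f₁ * f₄)
  y_24 : IsConj (f₁ * f₂) (f₂ * f₄)
  y_34 : IsConj (f₁ * f₂) (f₃ * f₄)
  /-- the product of two commuting elements of type A is not of type D -/
  aa : ∀ a b : X, IsConj f₁ a → IsConj f₁ b → a * b = b * a → ¬ IsConj (f₁ * f₂ * f₃) (a * b)
  /-- no automorphism of `C_X(z)`, `z = t f₁f₂`, interchanges `t` and `z` -/
  swap : ∀ σ : X → X, (∀ x, x * (t * (f₁ * f₂)) = t * (f₁ * f₂) * x →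
      σ x * (t * (f₁ * f₂)) = t * (f₁ * f₂) * σ x) →
    (∀ x y, x * (t * (f₁ * f₂)) = t * (f₁ * f₂) * x → y * (t * (f₁ * f₂)) = t * (f₁ * f₂) * y →
      σ (x * y) = σ x * σ y) →
    (∀ y, y * (t * (f₁ * f₂)) = t * (f₁ * f₂) * y → ∃ x, x * (t * (f₁ * f₂)) = t * (f₁ * f₂) * x ∧ σ x = y) →
    σ t = t * (f₁ * f₂) → σ (t * (f₁ * f₂)) = t → False
  ne₁ : f₁ * f₂ ≠ t
  ne₂ : f₁ * f₂ ≠ 1

section

variable {X G : Type*} [Group X] [Group G] {t f₁ f₂ f₃ f₄ : X}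

theorem conj_sq {u v : X} (h : IsConj u v) (hu : u * u = 1) : v * v = 1 := by
  obtain ⟨g, rfl⟩ := isConj_iff.1 h
  calc g * u * g⁻¹ * (g * u * g⁻¹) = g * (u * u) * g⁻¹ := by group
    _ = 1 := by rw [hu]; group

theorem conj_ne {u v : X} (h : IsConj u v) (hu : u ≠ 1) : v ≠ 1 := by
  rintro rfl
  obtain ⟨g, hg⟩ := isConj_iff.1 h
  apply hu
  have : u = g⁻¹ * (g * u * g⁻¹) * g := by group
  rw [this, hg]
  group

/-- multiplication by the central element -/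
theorem conj_mul_t (cen : ∀ x : X, x * t = t * x) {u v : X} (h : IsConj u v) : IsConj (t * u) (t * v) := by
  obtain ⟨g, rfl⟩ := isConj_iff.1 h
  refine isConj_iff.2 ⟨g, ?_⟩
  rw [← mul_assoc, cen g]
  group

end

section

variable {X G : Type*} [Group X] [Group G] {t f₁ f₂ f₃ f₄ : X}

variable (F : Facts t f₁ f₂ f₃ f₄) (φ : X →* G)

/-- membership in the class `D` of `φ t` -/
def Dm (t : X) (φ : X →* G) (x : G) : Prop := IsConj (φ t) x

variable {φ}

theorem Dm_conj {u v : X} (h : IsConj u v) : Dm t φ (φ u) ↔ Dm t φ (φ v) := by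
  have h' : IsConj (φ u) (φ v) := φ.map_isConj h
  exact ⟨fun k => k.trans h', fun k => k.trans h'.symm⟩

theorem Dm_G {x : G} (g : G) : Dm t φ (g * x * g⁻¹) ↔ Dm t φ x := by
  have h : IsConj x (g * x * g⁻¹) := isConj_iff.2 ⟨g, rfl⟩
  exact ⟨fun k => k.trans h.symm, fun k => k.trans h⟩

include F

/-- The type of `x` relative to a conjugate `d` of `t`. -/
theorem rel (hφ : Function.Injective φ) (hr : ∀ x : G, x * φ t = φ t * x → ∃ u, φ u = x)
    {d x g : G} (hg : g * d * g⁻¹ = φ t) (hxd : x * d = d * x) (hx : x * x = 1)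
    (hx1 : x ≠ 1) (hxne : x ≠ d) :
    ∃ u : X, φ u = g * x * g⁻¹ ∧
      ((IsConj f₁ u ∧ (Dm t φ x ↔ Dm t φ (φ f₁)) ∧ (Dm t φ (x * d) ↔ Dm t φ (φ f₁))) ∨
       (IsConj (f₁ * f₂) u ∧ (Dm t φ x ↔ Dm t φ (φ (f₁ * f₂))) ∧
          (Dm t φ (x * d) ↔ Dm t φ (φ (t * (f₁ * f₂))))) ∨
       (IsConj (t * (f₁ * f₂)) u ∧ (Dm t φ x ↔ Dm t φ (φ (t * (f₁ * f₂)))) ∧
          (Dm t φ (x * d) ↔ Dm t φ (φ (f₁ * f₂)))) ∨
       (IsConj (f₁ * f₂ * f₃) u ∧ (Dm t φ x ↔ Dm t φ (φ (f₁ * f₂ * f₃))) ∧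
          (Dm t φ (x * d) ↔ Dm t φ (φ (f₁ * f₂ * f₃))))) := by
  have hcomm : (g * x * g⁻¹) * φ t = φ t * (g * x * g⁻¹) := by
    rw [← hg]
    calc g * x * g⁻¹ * (g * d * g⁻¹) = g * (x * d) * g⁻¹ := by group
      _ = g * (d * x) * g⁻¹ := by rw [hxd]
      _ = _ := by group
  obtain ⟨u, hu⟩ := hr _ hcomm
  refine ⟨u, hu, ?_⟩
  have hxe : x = g⁻¹ * φ u * g := by rw [hu]; group
  have huu : u * u = 1 := by
    apply hφ
    rw [map_mul, map_one, hu]
    calc g * x * g⁻¹ * (g * x * g⁻¹) = g * (x * x) * g⁻¹ := by group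
      _ = 1 := by rw [hx]; group
  have hu1 : u ≠ 1 := by
    rintro rfl
    apply hx1
    rw [hxe, map_one]
    group
  have hut : u ≠ t := by
    rintro rfl
    apply hxne
    rw [hxe, ← hg]
    group
  have hD : Dm t φ x ↔ Dm t φ (φ u) := by rw [hu, Dm_G]
  have hD2 : Dm t φ (x * d) ↔ Dm t φ (φ (t * u)) := by
    rw [← F.cen u, map_mul, hu, ← hg]
    have e : g * x * g⁻¹ * (g * d * g⁻¹) = g * (x * d) * g⁻¹ := by group
    rw [e, Dm_G]
  rw [hD, hD2]
  rcases F.classes u huu hu1 hut with h | h | h | h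
  · left
    refine ⟨h, (Dm_conj h).symm, ?_⟩
    exact ((Dm_conj (F.a_t.trans (conj_mul_t F.cen h))).symm)
  · right; left
    exact ⟨h, (Dm_conj h).symm, (Dm_conj (conj_mul_t F.cen h)).symm⟩
  · right; right; left
    refine ⟨h, (Dm_conj h).symm, ?_⟩
    have h2 := conj_mul_t F.cen h
    rw [← mul_assoc t t, F.t_sq, one_mul] at h2
    exact (Dm_conj h2).symm
  · right; right; right
    refine ⟨h, (Dm_conj h).symm, ?_⟩
    exact (Dm_conj (F.d_t.trans (conj_mul_t F.cen h))).symm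

/-- (N1): `t` is fused to `f₁`. -/
theorem fusion (hφ : Function.Injective φ) (hr : ∀ x : G, x * φ t = φ t * x → ∃ u, φ u = x)
    (hz : ∃ g : G, g * φ t * g⁻¹ ≠ φ t ∧ (g * φ t * g⁻¹) * φ t = φ t * (g * φ t * g⁻¹)) :
    IsConj (φ t) (φ f₁) := by
  by_contra hA
  have hA' : ¬ Dm t φ (φ f₁) := hA
  have htt : φ t * φ t = 1 := by rw [← map_mul, F.t_sq, map_one]
  have ht1 : φ t ≠ 1 := fun h => F.t_ne (hφ (by rw [h, map_one]))
  have hDt : Dm t φ (φ t) := IsConj.refl _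
  -- some type is fused
  have hsome : Dm t φ (φ (f₁ * f₂)) ∨ Dm t φ (φ (t * (f₁ * f₂))) ∨ Dm t φ (φ (f₁ * f₂ * f₃)) := by
    obtain ⟨g, hg1, hg2⟩ := hz
    have hx : Dm t φ (g * φ t * g⁻¹) := isConj_iff.2 ⟨g, rfl⟩
    have hxx : (g * φ t * g⁻¹) * (g * φ t * g⁻¹) = 1 := conj_sq hx htt
    have hx1 : g * φ t * g⁻¹ ≠ 1 := conj_ne hx ht1
    obtain ⟨u, -, h⟩ := rel F hφ hr (d := φ t) (g := 1) (by group) hg2 hxx hx1 hg1
    rcases h with ⟨-, h, -⟩ | ⟨-, h, -⟩ | ⟨-, h, -⟩ | ⟨-, h, -⟩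
    · exact absurd (h.1 hx) hA'
    · exact Or.inl (h.1 hx)
    · exact Or.inr (Or.inl (h.1 hx))
    · exact Or.inr (Or.inr (h.1 hx))
  -- squares and commutations
  have s12 : (f₁ * f₂) * (f₁ * f₂) = 1 := by
    rw [mul_assoc, ← mul_assoc f₂, ← F.c12, mul_assoc f₁ f₂ f₂, F.sq₂, mul_one, F.sq₁]
  have s13 : (f₁ * f₃) * (f₁ * f₃) = 1 := by
    rw [mul_assoc, ← mul_assoc f₃, ← F.c13, mul_assoc f₁ f₃ f₃, F.sq₃, mul_one, F.sq₁]
  have s34 : (f₃ * f₄) * (f₃ * f₄) = 1 := by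
    rw [mul_assoc, ← mul_assoc f₄, ← F.c34, mul_assoc f₃ f₄ f₄, F.sq₄, mul_one, F.sq₃]
  have p123 : f₁ * f₃ * (f₁ * f₂) = f₂ * f₃ := by
    rw [F.c13, mul_assoc, ← mul_assoc f₁, F.sq₁, one_mul, F.c23]
  have p124 : f₁ * f₄ * (f₁ * f₂) = f₂ * f₄ := by
    rw [F.c14, mul_assoc, ← mul_assoc f₁, F.sq₁, one_mul, F.c24]
  have c12_3 : (f₁ * f₂) * f₃ = f₃ * (f₁ * f₂) := by
    rw [mul_assoc, F.c23, ← mul_assoc, F.c13, mul_assoc]
  have c12_4 : (f₁ * f₂) * f₄ = f₄ * (f₁ * f₂) := by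
    rw [mul_assoc, F.c24, ← mul_assoc, F.c14, mul_assoc]
  have c12_34 : (f₁ * f₂) * (f₃ * f₄) = (f₃ * f₄) * (f₁ * f₂) := by
    rw [← mul_assoc, c12_3, mul_assoc, c12_4, mul_assoc]
  have s123 : (f₁ * f₂ * f₃) * (f₁ * f₂ * f₃) = 1 := by
    calc (f₁ * f₂ * f₃) * (f₁ * f₂ * f₃) = (f₁ * f₂) * (f₃ * (f₁ * f₂)) * f₃ := by group
      _ = (f₁ * f₂) * (f₁ * f₂) * (f₃ * f₃) := by rw [← c12_3]; group
      _ = 1 := by rw [s12, F.sq₃, mul_one]
  have s124 : (f₁ * f₂ * f₄) * (f₁ * f₂ * f₄) = 1 := conj_sq F.d_124 s123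
  have n123 : f₁ * f₂ * f₃ ≠ 1 := by
    intro h
    have h1 := F.d_t
    rw [h, mul_one] at h1
    exact F.t_ne (isConj_one_right.1 h1)
  have n1 : f₁ ≠ 1 := by
    intro h
    have h1 := F.a_t
    rw [h, mul_one] at h1
    exact F.t_ne (isConj_one_right.1 h1)
  have net : ∀ {u : X}, IsConj (f₁ * f₂) u → u ≠ t := by
    rintro u h rfl
    obtain ⟨g, hg⟩ := isConj_iff.1 h.symm
    apply F.ne₁
    rw [← hg, F.cen g, mul_assoc, mul_inv_cancel, mul_one]
  have neφ : ∀ {u v : X}, u ≠ v → φ u ≠ φ v := fun h k => h (hφ k)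
  have ne1 : ∀ {u : X}, u ≠ 1 → φ u ≠ 1 := fun h k => h (hφ (by rw [k, map_one]))
  have eqφ : ∀ {u v : X}, u * v = v * u → φ u * φ v = φ v * φ u := fun h => by
    rw [← map_mul, h, map_mul]
  have sqφ : ∀ {u : X}, u * u = 1 → φ u * φ u = 1 := fun h => by rw [← map_mul, h, map_one]
  have getg : ∀ {v : X}, Dm t φ (φ v) → ∃ g : G, g * φ v * g⁻¹ = φ t := fun {v} h => by
    obtain ⟨g, hg⟩ := isConj_iff.1 h
    exact ⟨g⁻¹, by rw [← hg]; group⟩
  have mulcancel : ∀ {u v w : X}, u * u = 1 → u * v = u * w → v = w := fun _ h => mul_left_cancel h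
  by_cases hY : Dm t φ (φ (f₁ * f₂))
  · -- `d = f₁f₂`
    obtain ⟨g, hg⟩ := getg hY
    by_cases hZ : Dm t φ (φ (t * (f₁ * f₂)))
    · by_cases hD : Dm t φ (φ (f₁ * f₂ * f₃))
      · -- {Y, Z, D}
        have h3 : f₃ ≠ f₁ * f₂ := by
          intro h
          apply n123
          rw [← h, F.sq₃]
        obtain ⟨u, -, h⟩ := rel F hφ hr (x := φ f₃) hg (eqφ c12_3.symm) (sqφ F.sq₃)
          (ne1 (conj_ne F.a_3 n1)) (neφ h3)
        rw [← map_mul, ← c12_3] at h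
        have hx : ¬ Dm t φ (φ f₃) := fun k => hA' ((Dm_conj F.a_3).2 k)
        rcases h with ⟨-, h, h'⟩ | ⟨-, h, h'⟩ | ⟨-, h, h'⟩ | ⟨-, h, h'⟩
        · exact hA' (h'.1 hD)
        · exact hx (h.2 hY)
        · exact hx (h.2 hZ)
        · exact hx (h.2 hD)
      · -- {Y, Z}
        have h3 : f₃ * f₄ ≠ f₁ * f₂ := by
          intro h
          apply conj_ne F.d_1234 n123
          rw [h, s12]
        obtain ⟨u, -, h⟩ := rel F hφ hr (x := φ (f₃ * f₄)) hg (eqφ c12_34.symm) (sqφ s34)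
          (ne1 (conj_ne F.y_34 F.ne₂)) (neφ h3)
        rw [← map_mul, ← c12_34] at h
        have hx : Dm t φ (φ (f₃ * f₄)) := (Dm_conj F.y_34).1 hY
        have hxd : ¬ Dm t φ (φ (f₁ * f₂ * (f₃ * f₄))) := fun k => hD ((Dm_conj F.d_1234).2 k)
        rcases h with ⟨-, h, h'⟩ | ⟨-, h, h'⟩ | ⟨-, h, h'⟩ | ⟨-, h, h'⟩
        · exact hA' (h.1 hx)
        · exact hxd (h'.2 hZ)
        · exact hxd (h'.2 hY)
        · exact hD (h.1 hx)
    · by_cases hD : Dm t φ (φ (f₁ * f₂ * f₃))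
      · -- {Y, D}
        have key : ∀ {y y' : X}, f₁ * y = y * f₁ → f₂ * y = y * f₂ → y * y = 1 →
            IsConj (f₁ * f₂) (f₁ * y) → IsConj (f₁ * f₂) (f₂ * y) →
            ∃ u : X, φ u = g * φ (t * (f₁ * y)) * g⁻¹ ∧ IsConj f₁ u := by
          intro y _ h1 h2 hy hy1 hy2
          have c : (f₁ * f₂) * (f₁ * y) = (f₁ * y) * (f₁ * f₂) := by
            calc (f₁ * f₂) * (f₁ * y) = f₁ * (f₂ * f₁) * y := by group
              _ = f₁ * (f₁ * f₂) * y := by rw [F.c12]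
              _ = f₁ * f₁ * (f₂ * y) := by group
              _ = f₁ * f₁ * (y * f₂) := by rw [h2]
              _ = f₁ * (f₁ * y) * f₂ := by group
              _ = f₁ * (y * f₁) * f₂ := by rw [h1]
              _ = _ := by group
          have e : (f₁ * y) * (f₁ * f₂) = f₂ * y := by
            calc (f₁ * y) * (f₁ * f₂) = f₁ * (y * f₁) * f₂ := by group
              _ = f₁ * (f₁ * y) * f₂ := by rw [h1]
              _ = (f₁ * f₁) * (y * f₂) := by group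
              _ = y * f₂ := by rw [F.sq₁, one_mul]
              _ = f₂ * y := h2.symm
          have sy : (f₁ * y) * (f₁ * y) = 1 := conj_sq hy1 s12
          have ct : (t * (f₁ * y)) * (f₁ * f₂) = f₁ * f₂ * (t * (f₁ * y)) := by
            rw [mul_assoc, ← c, ← mul_assoc, ← F.cen, mul_assoc]
          have st : (t * (f₁ * y)) * (t * (f₁ * y)) = 1 := by
            rw [mul_assoc, ← mul_assoc (f₁ * y), F.cen, mul_assoc t (f₁ * y), sy, mul_one, F.t_sq]
          have n1' : t * (f₁ * y) ≠ 1 := by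
            intro h
            apply net hy1
            have : t * (t * (f₁ * y)) = t * 1 := by rw [h]
            rwa [← mul_assoc, F.t_sq, one_mul, mul_one] at this
          have n2' : t * (f₁ * y) ≠ f₁ * f₂ := by
            intro h
            apply net hy2
            have h1' : t * (f₁ * y) * (f₁ * f₂) = 1 := by rw [h, s12]
            rw [mul_assoc, e] at h1'
            have : t * (t * (f₂ * y)) = t * 1 := by rw [h1']
            rwa [← mul_assoc, F.t_sq, one_mul, mul_one] at this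
          obtain ⟨u, hu, h⟩ := rel F hφ hr (x := φ (t * (f₁ * y))) hg (eqφ ct) (sqφ st)
            (ne1 n1') (neφ n2')
          refine ⟨u, hu, ?_⟩
          rw [← map_mul, mul_assoc, e] at h
          have hx : ¬ Dm t φ (φ (t * (f₁ * y))) := fun k =>
            hZ ((Dm_conj (conj_mul_t F.cen hy1)).2 k)
          have hxd : ¬ Dm t φ (φ (t * (f₂ * y))) := fun k =>
            hZ ((Dm_conj (conj_mul_t F.cen hy2)).2 k)
          rcases h with ⟨h, -, -⟩ | ⟨-, h, h'⟩ | ⟨-, h, h'⟩ | ⟨-, h, h'⟩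
          · exact h
          · exact absurd (h.2 hY) hx
          · exact absurd (h'.2 hY) hxd
          · exact absurd (h.2 hD) hx
        obtain ⟨a, ha, ha'⟩ := key (y := f₃) (y' := f₃) F.c13 F.c23 F.sq₃ F.y_13 F.y_23
        obtain ⟨b, hb, hb'⟩ := key (y := f₄) (y' := f₄) F.c14 F.c24 F.sq₄ F.y_14 F.y_24
        -- the product
        have h34 : (t * (f₁ * f₃)) * (t * (f₁ * f₄)) = f₃ * f₄ := by
          calc (t * (f₁ * f₃)) * (t * (f₁ * f₄)) = t * ((f₁ * f₃) * t) * (f₁ * f₄) := by group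
            _ = t * (t * (f₁ * f₃)) * (f₁ * f₄) := by rw [F.cen]
            _ = (t * t) * (f₁ * (f₃ * f₁) * f₄) := by group
            _ = (t * t) * ((f₁ * f₁) * (f₃ * f₄)) := by rw [← F.c13]; group
            _ = f₃ * f₄ := by rw [F.t_sq, F.sq₁, one_mul, one_mul]
        have h43 : (t * (f₁ * f₄)) * (t * (f₁ * f₃)) = f₃ * f₄ := by
          calc (t * (f₁ * f₄)) * (t * (f₁ * f₃)) = t * ((f₁ * f₄) * t) * (f₁ * f₃) := by group
            _ = t * (t * (f₁ * f₄)) * (f₁ * f₃) := by rw [F.cen]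
            _ = (t * t) * (f₁ * (f₄ * f₁) * f₃) := by group
            _ = (t * t) * ((f₁ * f₁) * (f₄ * f₃)) := by rw [← F.c14]; group
            _ = f₃ * f₄ := by rw [F.t_sq, F.sq₁, one_mul, one_mul, F.c34]
        have hab : φ (a * b) = g * φ (f₃ * f₄) * g⁻¹ := by
          rw [map_mul, ha, hb, ← h34, map_mul φ (t * (f₁ * f₃))]
          group
        have hba : φ (b * a) = g * φ (f₃ * f₄) * g⁻¹ := by
          rw [map_mul, ha, hb, ← h43, map_mul φ (t * (f₁ * f₄))]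
          group
        have hc : a * b = b * a := hφ (by rw [hab, hba])
        have h3 : f₃ * f₄ ≠ f₁ * f₂ := by
          intro h
          apply conj_ne F.d_1234 n123
          rw [h, s12]
        obtain ⟨u, hu, h⟩ := rel F hφ hr (x := φ (f₃ * f₄)) hg (eqφ c12_34.symm) (sqφ s34)
          (ne1 (conj_ne F.y_34 F.ne₂)) (neφ h3)
        have hu' : u = a * b := hφ (by rw [hu, hab])
        rw [← map_mul, ← c12_34] at h
        have hx : Dm t φ (φ (f₃ * f₄)) := (Dm_conj F.y_34).1 hY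
        have hxd : Dm t φ (φ (f₁ * f₂ * (f₃ * f₄))) := (Dm_conj F.d_1234).1 hD
        rcases h with ⟨-, h, h'⟩ | ⟨-, h, h'⟩ | ⟨-, h, h'⟩ | ⟨h, -, -⟩
        · exact hA' (h.1 hx)
        · exact hZ (h'.1 hxd)
        · exact hZ (h.1 hx)
        · exact F.aa a b ha' hb' hc (by rw [← hu']; exact h)
      · -- {Y}
        have h3 : f₁ * f₃ ≠ f₁ * f₂ := by
          intro h
          have h4 : f₃ = f₂ := mul_left_cancel h
          apply conj_ne F.y_23 F.ne₂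
          rw [h4, F.sq₂]
        have c : f₁ * f₃ * (f₁ * f₂) = f₁ * f₂ * (f₁ * f₃) := by
          rw [p123, mul_assoc, ← mul_assoc f₂, ← F.c12, mul_assoc f₁, ← mul_assoc, F.sq₁, one_mul]
        obtain ⟨u, -, h⟩ := rel F hφ hr (x := φ (f₁ * f₃)) hg (eqφ c) (sqφ s13)
          (ne1 (conj_ne F.y_13 F.ne₂)) (neφ h3)
        rw [← map_mul, p123] at h
        have hx : Dm t φ (φ (f₁ * f₃)) := (Dm_conj F.y_13).1 hY
        have hxd : Dm t φ (φ (f₂ * f₃)) := (Dm_conj F.y_23).1 hY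
        rcases h with ⟨-, h, h'⟩ | ⟨-, h, h'⟩ | ⟨-, h, h'⟩ | ⟨-, h, h'⟩
        · exact hA' (h.1 hx)
        · exact hZ (h'.1 hxd)
        · exact hZ (h.1 hx)
        · exact hD (h.1 hx)
  · by_cases hZ : Dm t φ (φ (t * (f₁ * f₂)))
    · -- {Z}, {Z, D}
      obtain ⟨g, hg⟩ := getg hZ
      have tt : ∀ x : X, t * (t * x) = x := fun x => by rw [← mul_assoc, F.t_sq, one_mul]
      have h3 : t ≠ t * (f₁ * f₂) := by
        intro h
        apply F.ne₂
        have h4 : t * 1 = t * (f₁ * f₂) := by rw [mul_one, ← h]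
        exact (mul_left_cancel h4).symm
      obtain ⟨u, hu, h⟩ := rel F hφ hr (x := φ t) hg (eqφ (F.cen _).symm) (sqφ F.t_sq)
        (ne1 F.t_ne) (neφ h3)
      rw [← map_mul, tt] at h
      have hzu : IsConj (t * (f₁ * f₂)) u := by
        rcases h with ⟨-, h, h'⟩ | ⟨-, h, h'⟩ | ⟨h, -, -⟩ | ⟨-, h, h'⟩
        · exact absurd (h.1 hDt) hA'
        · exact absurd (h.1 hDt) hY
        · exact h
        · exact absurd (h'.2 (h.1 hDt)) hY
      obtain ⟨k, hk⟩ := isConj_iff.1 hzu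
      have hswap := F.swap
      obtain ⟨z, hzdef⟩ : ∃ z : X, t * (f₁ * f₂) = z := ⟨_, rfl⟩
      simp only [hzdef] at hswap hk hg
      clear hzu h
      obtain ⟨w, hw⟩ : ∃ w : G, w = (φ k)⁻¹ * g := ⟨_, rfl⟩
      have w1 : w * φ t * w⁻¹ = φ z := by
        have e : φ z = (φ k)⁻¹ * φ u * φ k := by
          rw [← hk, map_mul, map_mul, map_inv]
          group
        rw [e, hu, hw]
        group
      have w2 : w * φ z * w⁻¹ = φ t := by
        have e : w * φ z * w⁻¹ = (φ k)⁻¹ * (g * φ z * g⁻¹) * φ k := by rw [hw]; group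
        rw [e, hg, mul_assoc, ← map_mul φ t k, ← F.cen, map_mul, ← mul_assoc, inv_mul_cancel, one_mul]
      -- the automorphism
      have ex : ∀ x : X, x * z = z * x → ∃ y, φ y = w * φ x * w⁻¹ := fun x hx => by
        obtain ⟨y, hy⟩ := hr (w * φ x * w⁻¹) (by
          rw [← w2]
          calc w * φ x * w⁻¹ * (w * φ z * w⁻¹) = w * (φ x * φ z) * w⁻¹ := by group
            _ = w * (φ z * φ x) * w⁻¹ := by rw [eqφ hx]
            _ = _ := by group)
        exact ⟨y, hy⟩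
      classical
      let σ : X → X := fun x => if hx : ∃ y, φ y = w * φ x * w⁻¹ then Classical.choose hx else 1
      have hσ : ∀ x : X, x * z = z * x → φ (σ x) = w * φ x * w⁻¹ := fun x hx => by
        simp only [σ]
        rw [dif_pos (ex x hx)]
        exact Classical.choose_spec (ex x hx)
      have ct : t * z = z * t := (F.cen z).symm
      have cz : ∀ x : X, x * z = z * x → σ x * z = z * σ x := fun x hx => by
        apply hφ
        rw [map_mul, map_mul, hσ x hx, ← w1]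
        calc w * φ x * w⁻¹ * (w * φ t * w⁻¹) = w * (φ x * φ t) * w⁻¹ := by group
          _ = w * (φ t * φ x) * w⁻¹ := by rw [eqφ (F.cen x)]
          _ = _ := by group
      refine hswap σ cz ?_ ?_ ?_ ?_
      · intro x y hx hy
        apply hφ
        have hxy : (x * y) * z = z * (x * y) := by rw [mul_assoc, hy, ← mul_assoc, hx, mul_assoc]
        rw [hσ _ hxy, map_mul, map_mul, hσ x hx, hσ y hy]
        group
      · intro y hy
        obtain ⟨x, hx⟩ := hr (w⁻¹ * φ y * w) (by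
          have e : φ t = w⁻¹ * φ z * w := by rw [← w1]; group
          rw [e]
          calc w⁻¹ * φ y * w * (w⁻¹ * φ z * w) = w⁻¹ * (φ y * φ z) * w := by group
            _ = w⁻¹ * (φ z * φ y) * w := by rw [eqφ hy]
            _ = _ := by group)
        have hxz : x * z = z * x := by
          apply hφ
          have e : φ z = w⁻¹ * φ t * w := by rw [← w2]; group
          rw [map_mul, map_mul, hx, e]
          calc w⁻¹ * φ y * w * (w⁻¹ * φ t * w) = w⁻¹ * (φ y * φ t) * w := by group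
            _ = w⁻¹ * (φ t * φ y) * w := by rw [eqφ (F.cen y)]
            _ = _ := by group
        refine ⟨x, hxz, hφ ?_⟩
        rw [hσ x hxz, hx]
        group
      · apply hφ
        rw [hσ t ct, w1]
      · apply hφ
        rw [hσ z rfl, w2]
    · -- {D}
      have hD : Dm t φ (φ (f₁ * f₂ * f₃)) := by tauto
      obtain ⟨g, hg⟩ := getg hD
      have h34 : f₁ * f₂ * f₄ * (f₁ * f₂ * f₃) = f₃ * f₄ := by
        rw [c12_4, mul_assoc, ← mul_assoc (f₁ * f₂), s12, one_mul, ← F.c34]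
      have c : f₁ * f₂ * f₄ * (f₁ * f₂ * f₃) = f₁ * f₂ * f₃ * (f₁ * f₂ * f₄) := by
        rw [h34, c12_3, mul_assoc, ← mul_assoc (f₁ * f₂), s12, one_mul]
      have h3 : f₁ * f₂ * f₄ ≠ f₁ * f₂ * f₃ := by
        intro h
        have h4 : f₄ = f₃ := mul_left_cancel h
        apply conj_ne F.y_34 F.ne₂
        rw [h4, F.sq₃]
      obtain ⟨u, -, h⟩ := rel F hφ hr (x := φ (f₁ * f₂ * f₄)) hg (eqφ c) (sqφ s124)
        (ne1 (conj_ne F.d_124 n123)) (neφ h3)
      rw [← map_mul, h34] at h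
      have hx : Dm t φ (φ (f₁ * f₂ * f₄)) := (Dm_conj F.d_124).1 hD
      have hxd : ¬ Dm t φ (φ (f₃ * f₄)) := fun k => hY ((Dm_conj F.y_34).2 k)
      rcases h with ⟨-, h, h'⟩ | ⟨-, h, h'⟩ | ⟨-, h, h'⟩ | ⟨-, h, h'⟩
      · exact hA' (h.1 hx)
      · exact hY (h.1 hx)
      · exact hZ (h.1 hx)
      · exact hxd (h'.2 hD)

end

end Cfsg.Agent.MonsterN.FusionType
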