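import Mathlib
import Cfsg.Agent.StandardComponent.Intrinsic
import Cfsg.Agent.MonsterN.FusionType

/-!
# S1737: the centraliser of a standard subgroup `L = 2.B` is `{1, t}`

`Ctx G X L K t` (`StandardComponent.Intrinsic`): `C_G(t) = L K`, `L ∩ K = {1, t}`, `K` tightly embedded.
`FactsK B τ a z δ`: the class list of involutions of `B`, facts on the centralisers of `a` and `z`, and on
the elements with square `τ`.  `K_eq`: `K = {1, t}`.  `FactsK.of_facts`: from `FusionType.Facts`.

Case A: some conjugate `s = l k ≠ t` of `t` in `C_G(t)` has `l` conjugate to `a`, `z` or `τ z`.  Then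
`P = K^h ∩ C_G(t)` and `M = C_L(l)` satisfy `[P, M] ≤ P ∩ L ≤ ⟨t, l⟩`, so `[P, M] = 1`, `P ≤ ⟨l⟩ K`, and
`4` does not divide `|K|`.
Case B: no such `s`; then the product of two different commuting conjugates of `t` is a conjugate of `t`,
and `z` or an involution of `L` is a product of two such.
-/

set_option autoImplicit false

open Subgroup

namespace Cfsg.Agent.MonsterN.KEq

open Cfsg.Agent.StandardComponent.Intrinsic

universe u v

theorem mem_cent {G : Type*} [Group G] {x y : G} :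
    y ∈ (centralizer {x} : Subgroup G) ↔ y * x = x * y := by
  rw [mem_centralizer_singleton_iff]

/-- The facts on `C_B(l)` used for `l = a` and `l = z`. -/
structure Big (B : Type v) [Group B] (τ l : B) : Prop where
  nrm : ∀ N : Subgroup B, (∀ n ∈ N, n * l = l * n) →
    (∀ m : B, m * l = l * m → ∀ n ∈ N, m * n * m⁻¹ ∈ N) → τ ∉ N →
    ∀ n ∈ N, n = 1 ∨ n = τ ∨ n = l ∨ n = τ * l
  ind : ∀ H : Subgroup B, (∀ m1 m2 : B, m1 * l = l * m1 → m2 * l = l * m2 → m1 ∉ H → m2 ∉ H →
    m1 * m2 ∈ H) → ∀ m : B, m * l = l * m → m ∈ H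
  cen : ∀ x : B, (∀ m : B, m * l = l * m → x * m = m * x) → x = 1 ∨ x = τ ∨ x = l ∨ x = τ * l

/-- The facts on the group `B = 2.B` used to prove `K = {1, t}`. -/
structure FactsK (B : Type v) [Group B] (τ a z δ : B) : Prop where
  τ_comm : ∀ x, τ * x = x * τ
  cls : ∀ x : B, x * x = 1 → x ≠ 1 → x ≠ τ →
    IsConj a x ∨ IsConj z x ∨ IsConj (τ * z) x ∨ IsConj δ x
  z_ne : z ≠ 1
  z_neτ : z ≠ τ
  δ_conj : IsConj δ (τ * δ)
  /-- a product of two commuting conjugates of `δ` is of type `z` or `τ z` -/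
  δδ : ∃ δ' : B, IsConj δ δ' ∧ δ * δ' = δ' * δ ∧ (IsConj z (δ * δ') ∨ IsConj (τ * z) (δ * δ'))
  big_a : Big B τ a
  big_z : Big B τ z
  real : ∀ l : B, l * l = τ → IsConj l (τ * l)
  com : ∀ l : B, l * l = τ → ∃ l1 : B, IsConj l l1 ∧ l * l1 = l1 * l ∧ l1 ≠ l ∧ l1 ≠ τ * l

/-- The facts of `FusionType` and the additional facts. -/
theorem FactsK.of_facts {B : Type v} [Group B] {t f₁ f₂ f₃ f₄ : B}
    (F : Cfsg.Agent.MonsterN.FusionType.Facts t f₁ f₂ f₃ f₄) (big_a : Big B t f₁)
    (big_z : Big B t (t * (f₁ * f₂))) (real : ∀ l : B, l * l = t → IsConj l (t * l))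
    (com : ∀ l : B, l * l = t → ∃ l1 : B, IsConj l l1 ∧ l * l1 = l1 * l ∧ l1 ≠ l ∧ l1 ≠ t * l) :
    FactsK B t f₁ (t * (f₁ * f₂)) (f₁ * f₂ * f₃) := by
  have htt : ∀ x : B, t * (t * x) = x := fun x => by rw [← mul_assoc, F.t_sq, one_mul]
  refine ⟨fun x => (F.cen x).symm, ?_, ?_, ?_, F.d_t, ?_, big_a, big_z, real, com⟩
  · intro x h1 h2 h3
    rcases F.classes x h1 h2 h3 with h | h | h | h
    · exact Or.inl h
    · right; right; left
      rw [htt]; exact h
    · exact Or.inr (Or.inl h)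
    · exact Or.inr (Or.inr (Or.inr h))
  · intro h
    apply F.ne₁
    have h1 := congrArg (fun y => t * y) h
    simp only [htt, mul_one] at h1
    exact h1
  · intro h
    apply F.ne₂
    have h1 := congrArg (fun y => t * y) h
    simp only [htt, F.t_sq] at h1
    exact h1
  · have c12 := F.c12
    have c13 := F.c13
    have c14 := F.c14
    have c23 := F.c23
    have c24 := F.c24
    have c34 := F.c34
    have e1 : f₁ * f₂ * f₃ * (f₁ * f₂ * f₄) = f₃ * f₄ := by
      calc f₁ * f₂ * f₃ * (f₁ * f₂ * f₄) = f₁ * (f₂ * (f₃ * f₁)) * f₂ * f₄ := by group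
        _ = f₁ * (f₂ * f₁) * f₃ * f₂ * f₄ := by rw [← c13]; group
        _ = f₁ * f₁ * (f₂ * (f₃ * f₂)) * f₄ := by rw [← c12]; group
        _ = f₁ * f₁ * (f₂ * f₂) * f₃ * f₄ := by rw [← c23]; group
        _ = f₃ * f₄ := by rw [F.sq₁, F.sq₂, one_mul, one_mul]
    have e2 : f₁ * f₂ * f₄ * (f₁ * f₂ * f₃) = f₄ * f₃ := by
      calc f₁ * f₂ * f₄ * (f₁ * f₂ * f₃) = f₁ * (f₂ * (f₄ * f₁)) * f₂ * f₃ := by group
        _ = f₁ * (f₂ * f₁) * f₄ * f₂ * f₃ := by rw [← c14]; group
        _ = f₁ * f₁ * (f₂ * (f₄ * f₂)) * f₃ := by rw [← c12]; group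
        _ = f₁ * f₁ * (f₂ * f₂) * f₄ * f₃ := by rw [← c24]; group
        _ = f₄ * f₃ := by rw [F.sq₁, F.sq₂, one_mul, one_mul]
    refine ⟨f₁ * f₂ * f₄, F.d_124, by rw [e1, e2, c34], Or.inr ?_⟩
    rw [htt, e1]
    exact F.y_34

/-- `Big` for a subgroup `L`, in terms of elements of `G`. -/
structure BigG {G : Type u} [Group G] (L : Subgroup G) (t l : G) : Prop where
  nrm : ∀ N : Subgroup G, N ≤ L → (∀ n ∈ N, n * l = l * n) →
    (∀ m ∈ L, m * l = l * m → ∀ n ∈ N, m * n * m⁻¹ ∈ N) → t ∉ N →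
    ∀ n ∈ N, n = 1 ∨ n = t ∨ n = l ∨ n = t * l
  ind : ∀ H : Subgroup G, (∀ m1 ∈ L, ∀ m2 ∈ L, m1 * l = l * m1 → m2 * l = l * m2 → m1 ∉ H → m2 ∉ H →
    m1 * m2 ∈ H) → ∀ m ∈ L, m * l = l * m → m ∈ H
  cen : ∀ x ∈ L, (∀ m ∈ L, m * l = l * m → x * m = m * x) → x = 1 ∨ x = t ∨ x = l ∨ x = t * l

theorem Big.toG {G : Type u} [Group G] {B : Type v} [Group B] {τ l : B} (h : Big B τ l)
    {L : Subgroup G} (f : L ≃* B) {t : L} (hf : f t = τ) : BigG L (t : G) (f.symm l : G) := by
  have hfτ : f.symm τ = t := by rw [← hf]; simp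
  have hval : ∀ (x : G) (hx : x ∈ L) (y : B), x = (f.symm y : G) ↔ f ⟨x, hx⟩ = y := by
    intro x hx y
    constructor
    · intro h
      have : (⟨x, hx⟩ : L) = f.symm y := Subtype.ext h
      rw [this]; simp
    · intro h
      rw [← h]; simp
  have hcom : ∀ (x : G) (hx : x ∈ L) (y : B), x * (f.symm y : G) = (f.symm y : G) * x ↔
      f ⟨x, hx⟩ * y = y * f ⟨x, hx⟩ := by
    intro x hx y
    constructor
    · intro h
      have h1 : (⟨x, hx⟩ : L) * f.symm y = f.symm y * ⟨x, hx⟩ := Subtype.ext h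
      have h2 := congrArg f h1
      simpa using h2
    · intro h
      have h2 := congrArg (fun w => (f.symm w : G)) h
      simpa using h2
  have four : ∀ (x : G) (hx : x ∈ L), (f ⟨x, hx⟩ = 1 ∨ f ⟨x, hx⟩ = τ ∨ f ⟨x, hx⟩ = l ∨
      f ⟨x, hx⟩ = τ * l) → x = 1 ∨ x = t ∨ x = (f.symm l : G) ∨ x = t * (f.symm l : G) := by
    intro x hx hh
    rcases hh with h | h | h | h
    · left
      have := (hval x hx 1).mpr h
      simpa using this
    · right; left
      rw [(hval x hx τ).mpr h, hfτ]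
    · right; right; left
      exact (hval x hx l).mpr h
    · right; right; right
      rw [(hval x hx (τ * l)).mpr h, map_mul, hfτ, Subgroup.coe_mul]
  refine ⟨?_, ?_, ?_⟩
  · intro N hNL hNl hN ht n hn
    refine four n (hNL hn) ?_
    have key := h.nrm (N.comap (L.subtype.comp f.symm.toMonoidHom)) ?_ ?_ ?_ (f ⟨n, hNL hn⟩) ?_
    · exact key
    · intro x hx
      have h1 : (f.symm x : G) ∈ N := hx
      have h2 := (hcom _ (f.symm x).2 l).mp (hNl _ h1)
      simpa using h2
    · intro m hm x hx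
      have h1 : (f.symm x : G) ∈ N := hx
      have h2 : (f.symm m : G) * (f.symm l : G) = (f.symm l : G) * (f.symm m : G) :=
        (hcom _ (f.symm m).2 l).mpr (by simpa using hm)
      have h3 := hN _ (f.symm m).2 h2 _ h1
      change (f.symm (m * x * m⁻¹) : G) ∈ N
      simpa using h3
    · intro hx
      have h1 : (f.symm τ : G) ∈ N := hx
      rw [hfτ] at h1
      exact ht h1
    · change (f.symm (f ⟨n, hNL hn⟩) : G) ∈ N
      simpa using hn
  · intro H hH m hm hml
    have key := h.ind (H.comap (L.subtype.comp f.symm.toMonoidHom)) ?_ (f ⟨m, hm⟩)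
      ((hcom m hm l).mp hml)
    · have h1 : (f.symm (f ⟨m, hm⟩) : G) ∈ H := key
      simpa using h1
    · intro m1 m2 h1 h2 h3 h4
      have h5 := hH _ (f.symm m1).2 _ (f.symm m2).2
        ((hcom _ (f.symm m1).2 l).mpr (by simpa using h1))
        ((hcom _ (f.symm m2).2 l).mpr (by simpa using h2)) h3 h4
      change (f.symm (m1 * m2) : G) ∈ H
      simpa using h5
  · intro x hx hxm
    refine four x hx (h.cen _ ?_)
    intro m hm
    have h1 := hxm _ (f.symm m).2 ((hcom _ (f.symm m).2 l).mpr (by simpa using hm))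
    have h2 := (hcom x hx m).mp h1
    exact h2

variable {G X : Type*} [Group G] [Group X] {L K : Subgroup G} {t : G}

section ctx

variable (c : Ctx G X L K t)

include c

/-- End of `Intrinsic.Ctx.K_eq`: if `4` does not divide `|K|` then `K = {1, t}`. -/
theorem eq_of_not_four [Finite G] (h4 : ¬ 4 ∣ Nat.card K) (k : G) (hk : k ∈ K) : k = 1 ∨ k = t := by
  set N : Subgroup K := Subgroup.zpowers ⟨t, c.tK⟩ with hN
  have hNt : orderOf (⟨t, c.tK⟩ : K) = 2 := by
    apply orderOf_eq_prime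
    · rw [sq]; exact Subtype.ext c.t2
    · intro h'; exact c.t1 (congrArg Subtype.val h')
  have hNcard : Nat.card N = 2 := by rw [hN, Nat.card_zpowers, hNt]
  have hcen : ∀ n ∈ N, ∀ x : K, x * n = n * x := by
    intro n hn x
    obtain ⟨i, rfl⟩ := Subgroup.mem_zpowers_iff.1 hn
    have : Commute x (⟨t, c.tK⟩ : K) := Subtype.ext (c.KC x x.2).eq
    exact (this.zpow_right i).eq
  have hNn : N.Normal := ⟨fun n hn g => by rw [hcen n hn g, mul_inv_cancel_right]; exact hn⟩
  have hindex : Nat.card K = 2 * N.index := by rw [← N.card_mul_index, hNcard]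
  have hodd : ¬ 2 ∣ N.index := by
    rintro ⟨m, hm⟩
    exact h4 ⟨m, by rw [hindex, hm]; ring⟩
  have hcop : Nat.Coprime (Nat.card N) N.index := by
    rw [hNcard]
    exact (Nat.Prime.coprime_iff_not_dvd Nat.prime_two).2 hodd
  obtain ⟨M, hM⟩ := Subgroup.exists_right_complement'_of_coprime hcop
  have hMdec : ∀ x : K, ∃ n ∈ N, ∃ m ∈ M, x = n * m := by
    intro x
    obtain ⟨⟨n, m⟩, hnm⟩ := hM.2 x
    exact ⟨n, n.2, m, m.2, hnm.symm⟩
  have hMcard : Nat.card M = N.index := by
    have h1 := hM.card_mul_card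
    rw [hNcard, hindex] at h1
    omega
  have hMbot : M.map K.subtype = ⊥ := by
    apply c.core
    · rintro _ ⟨m, _, rfl⟩; exact m.2
    · rintro k hk _ ⟨m, hm, rfl⟩
      obtain ⟨n, hn, m', hm', hkm⟩ := hMdec ⟨k, hk⟩
      refine ⟨m' * m * m'⁻¹, M.mul_mem (M.mul_mem hm' hm) (M.inv_mem hm'), ?_⟩
      have h1 : (⟨k, hk⟩ : K) * m * (⟨k, hk⟩ : K)⁻¹ = m' * m * m'⁻¹ := by
        rw [hkm]
        calc n * m' * m * (n * m')⁻¹ = n * (m' * m * m'⁻¹) * n⁻¹ := by group
          _ = _ := by rw [← hcen n hn, mul_inv_cancel_right]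
      rw [← h1]
      rfl
    · rw [Subgroup.card_map_of_injective K.subtype_injective, hMcard]
      exact Nat.not_even_iff_odd.1 (fun h => hodd h.two_dvd)
  obtain ⟨n, hn, m, hm, hkm⟩ := hMdec ⟨k, hk⟩
  have hm1 : (m : G) = 1 := by
    have : (m : G) ∈ M.map K.subtype := ⟨m, hm, rfl⟩
    rw [hMbot] at this
    exact Subgroup.mem_bot.1 this
  have hk1 : k = (n : G) := by
    have := congrArg Subtype.val hkm
    simp only [Subgroup.coe_mul] at this
    rw [this, hm1, mul_one]
  obtain ⟨i, hi⟩ := Subgroup.mem_zpowers_iff.1 hn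
  have ht : (n : G) = t ^ i := by rw [← hi]; rfl
  rw [hk1, ht]
  rcases Int.even_or_odd' i with ⟨j, rfl | rfl⟩
  · left
    rw [zpow_mul, zpow_ofNat, sq, c.t2, one_zpow]
  · right
    rw [zpow_add, zpow_mul, zpow_ofNat, sq, c.t2, one_zpow, one_mul, zpow_one]

/-- Case A. -/
theorem caseA [Finite G] {l k h : G} (hl : l ∈ L) (hB : BigG L t l) (hk : k ∈ K)
    (hs : h * t * h⁻¹ = l * k) (hcs : Commute (h * t * h⁻¹) t) (hne : h * t * h⁻¹ ≠ t) :
    ¬ 4 ∣ Nat.card K := by
  have hti : t⁻¹ = t := inv_eq_of_mul_eq_one_left c.t2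
  have hh : ¬ Commute h t := by
    intro hc
    apply hne
    rw [hc.eq, mul_inv_cancel_right]
  -- the group `P = K^h ∩ C_G(t)`
  let P : Subgroup G :=
    { carrier := {p | h⁻¹ * p * h ∈ K ∧ Commute p t}
      one_mem' := by
        refine ⟨?_, Commute.one_left t⟩
        rw [show h⁻¹ * 1 * h = 1 by group]; exact K.one_mem
      mul_mem' := by
        rintro p q ⟨hp, hpt⟩ ⟨hq, hqt⟩
        refine ⟨?_, hpt.mul_left hqt⟩
        rw [show h⁻¹ * (p * q) * h = (h⁻¹ * p * h) * (h⁻¹ * q * h) by group]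
        exact K.mul_mem hp hq
      inv_mem' := by
        rintro p ⟨hp, hpt⟩
        refine ⟨?_, hpt.inv_left⟩
        rw [show h⁻¹ * p⁻¹ * h = (h⁻¹ * p * h)⁻¹ by group]
        exact K.inv_mem hp }
  have hPmem : ∀ p, p ∈ P ↔ h⁻¹ * p * h ∈ K ∧ Commute p t := fun p => Iff.rfl
  -- `K ∩ K^h` has odd order
  have hodd : Odd (Nat.card (K ⊓ P : Subgroup G)) :=
    c.tight h hh (K ⊓ P) inf_le_left fun n hn => (hn.2 : h⁻¹ * n * h ∈ K ∧ Commute n t).1
  have hpow : ∀ x, x ∈ K → x ∈ P → x ^ 4 = 1 → x = 1 := by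
    intro x hxK hxP hx4
    have h1 : orderOf x ∣ 2 ^ 2 := orderOf_dvd_of_pow_eq_one hx4
    have h2 : orderOf x ∣ Nat.card (K ⊓ P : Subgroup G) := by
      have := orderOf_dvd_natCard (⟨x, hxK, hxP⟩ : (K ⊓ P : Subgroup G))
      rwa [← Subgroup.orderOf_coe] at this
    have h3 : Odd (orderOf x) := Odd.of_dvd_nat hodd h2
    have h4 : (orderOf x).Coprime (2 ^ 2) := Nat.Coprime.pow_right 2 (Nat.coprime_two_right.mpr h3)
    rw [← orderOf_eq_one_iff]
    exact Nat.eq_one_of_dvd_coprimes h4 dvd_rfl h1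
  have htP : t ∉ P := by
    intro htP
    exact c.t1 (hpow t c.tK htP (by
      rw [show (4 : ℕ) = 2 * 2 from rfl, pow_mul, show t ^ 2 = 1 by rw [sq, c.t2], one_pow]))
  -- `M = C_L(l)` normalises `P`
  have hM : ∀ m ∈ L, m * l = l * m → Commute (h⁻¹ * m * h) t := by
    intro m hm hml
    have h1 : m * (h * t * h⁻¹) = (h * t * h⁻¹) * m := by
      rw [hs, ← mul_assoc, hml, mul_assoc, mul_assoc, (c.comm m hm k hk).eq]
    calc h⁻¹ * m * h * t = h⁻¹ * (m * (h * t * h⁻¹)) * h := by group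
      _ = h⁻¹ * ((h * t * h⁻¹) * m) * h := by rw [h1]
      _ = t * (h⁻¹ * m * h) := by group
  have hMP : ∀ m ∈ L, m * l = l * m → ∀ p ∈ P, m * p * m⁻¹ ∈ P := by
    intro m hm hml p hp
    have hmt := c.LC m hm
    refine ⟨?_, (hmt.mul_left hp.2).mul_left hmt.inv_left⟩
    have h1 := c.Knorm _ (hM m hm hml) _ hp.1
    rw [show h⁻¹ * (m * p * m⁻¹) * h = h⁻¹ * m * h * (h⁻¹ * p * h) * (h⁻¹ * m * h)⁻¹ by group]
    exact h1
  have hPl : ∀ p ∈ P, p ∈ L → p * l = l * p := by
    intro p hp hpL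
    -- `p ∈ K^h` commutes with `h t h⁻¹ = l k`
    have h1 := (c.KC _ hp.1).eq
    have h2 : p * (h * t * h⁻¹) = (h * t * h⁻¹) * p := by
      calc p * (h * t * h⁻¹) = h * ((h⁻¹ * p * h) * t) * h⁻¹ := by group
        _ = h * (t * (h⁻¹ * p * h)) * h⁻¹ := by rw [h1]
        _ = _ := by group
    rw [hs] at h2
    have h3 := (c.comm p hpL k hk).eq
    have h4 : p * l * k = l * p * k := by
      calc p * l * k = p * (l * k) := by group
        _ = l * k * p := h2
        _ = l * (p * k) := by rw [mul_assoc, h3]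
        _ = _ := by group
    exact mul_right_cancel h4
  have hN := hB.nrm (P ⊓ L) inf_le_right (fun n hn => hPl n hn.1 hn.2)
    (fun m hm hml n hn => ⟨hMP m hm hml n hn.1, L.mul_mem (L.mul_mem hm hn.2) (L.inv_mem hm)⟩)
    (fun hx => htP hx.1)
  -- the elements of `P ∩ L` are `1` or one fixed involution
  have hll : l * l = 1 ∨ l * l = t := by
    have h1 : (l * k) * (l * k) = 1 := by
      rw [← hs]
      calc h * t * h⁻¹ * (h * t * h⁻¹) = h * (t * t) * h⁻¹ := by group
        _ = 1 := by rw [c.t2]; group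
    have h2 : (l * l) * (k * k) = 1 := by
      calc (l * l) * (k * k) = l * (l * k) * k := by group
        _ = l * (k * l) * k := by rw [(c.comm l hl k hk).eq]
        _ = (l * k) * (l * k) := by group
        _ = 1 := h1
    apply c.LK _ (L.mul_mem hl hl)
    rw [eq_inv_of_mul_eq_one_left h2]
    exact K.inv_mem (K.mul_mem hk hk)
  have hlt : l * t = t * l := (c.LC l hl).eq
  have hNmul : ∀ n ∈ P ⊓ L, ∀ n' ∈ P ⊓ L, n ≠ 1 → n' ≠ 1 → n * n' = 1 := by
    intro n hn n' hn' h1 h1'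
    have hnt : ∀ x ∈ P ⊓ L, x ≠ t := fun x hx hxt => htP (hxt ▸ hx.1)
    have hsq : ∀ x ∈ P ⊓ L, x ≠ 1 → x * x = 1 := by
      intro x hx hx1
      have hxx : x * x = l * l := by
        rcases hN x hx with h | h | h | h
        · exact absurd h hx1
        · exact absurd h (hnt x hx)
        · rw [h]
        · rw [h]
          calc t * l * (t * l) = t * (l * t) * l := by group
            _ = (t * t) * (l * l) := by rw [hlt]; group
            _ = l * l := by rw [c.t2, one_mul]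
      rcases hll with h | h
      · rw [hxx, h]
      · exfalso
        exact hnt _ ((P ⊓ L).mul_mem hx hx) (hxx.trans h)
    have hcase : ∀ x ∈ P ⊓ L, x ≠ 1 → x = l ∨ x = t * l := by
      intro x hx hx1
      rcases hN x hx with h | h | h | h
      · exact absurd h hx1
      · exact absurd h (hnt x hx)
      · exact Or.inl h
      · exact Or.inr h
    have heq : n = n' := by
      by_contra hnn
      have : n * n' = t := by
        rcases hcase n hn h1 with h | h <;> rcases hcase n' hn' h1' with h' | h'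
        · exact absurd (h.trans h'.symm) hnn
        · have h2 := hsq n hn h1
          rw [h] at h2
          rw [h, h', ← mul_assoc, hlt, mul_assoc, h2, mul_one]
        · have h2 := hsq n' hn' h1'
          rw [h'] at h2
          rw [h, h', mul_assoc, h2, mul_one]
        · exact absurd (h.trans h'.symm) hnn
      exact hnt _ ((P ⊓ L).mul_mem hn hn') this
    rw [← heq]; exact hsq n hn h1
  have hNc : ∀ n ∈ P ⊓ L, ∀ m ∈ L, m * l = l * m → m * n = n * m := by
    intro n hn m hm hml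
    rcases hN n hn with h | h | h | h
    · rw [h]; simp
    · rw [h]; exact (c.LC m hm).eq
    · rw [h]; exact hml
    · rw [h, ← mul_assoc, (c.LC m hm).eq, mul_assoc, hml, mul_assoc]
  -- `P` centralises `M`
  have hcomm : ∀ p ∈ P, ∀ m ∈ L, m * l = l * m → p * m * p⁻¹ * m⁻¹ ∈ P ⊓ L := by
    intro p hp m hm hml
    constructor
    · have h1 := hMP m hm hml _ (P.inv_mem hp)
      rw [show p * m * p⁻¹ * m⁻¹ = p * (m * p⁻¹ * m⁻¹) by group]
      exact P.mul_mem hp h1
    · exact L.mul_mem (c.Lnorm p hp.2 m hm) (L.inv_mem hm)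
  have hPM : ∀ p ∈ P, ∀ m ∈ L, m * l = l * m → m * p = p * m := by
    intro p hp
    have key := hB.ind (centralizer {p}) ?_
    · intro m hm hml
      exact mem_cent.mp (key m hm hml)
    · intro m1 hm1 m2 hm2 hm1l hm2l h1 h2
      have e : ∀ m : G, p * m * p⁻¹ * m⁻¹ = 1 → m ∈ (centralizer {p} : Subgroup G) := by
        intro m hm
        rw [mem_cent]
        have : p * m * p⁻¹ = m := by rw [← mul_inv_eq_one]; exact hm
        calc m * p = p * m * p⁻¹ * p := by rw [this]
          _ = p * m := by group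
      have n1 := hcomm p hp m1 hm1 hm1l
      have n2 := hcomm p hp m2 hm2 hm2l
      have h3 := hNmul _ n1 _ n2 (fun h => h1 (e m1 h)) (fun h => h2 (e m2 h))
      apply e
      have h4 := hNc _ n2 m1 hm1 hm1l
      calc p * (m1 * m2) * p⁻¹ * (m1 * m2)⁻¹
          = (p * m1 * p⁻¹ * m1⁻¹) * (m1 * (p * m2 * p⁻¹ * m2⁻¹)) * m1⁻¹ := by group
        _ = (p * m1 * p⁻¹ * m1⁻¹) * ((p * m2 * p⁻¹ * m2⁻¹) * m1) * m1⁻¹ := by rw [h4]
        _ = (p * m1 * p⁻¹ * m1⁻¹) * (p * m2 * p⁻¹ * m2⁻¹) := by group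
        _ = 1 := h3
  -- `P ≤ ⟨l⟩ K`
  have hPK : ∀ p ∈ P, p ∈ K ∨ l⁻¹ * p ∈ K := by
    intro p hp
    obtain ⟨l', hl', k', hk', hp'⟩ := c.dec p hp.2
    have h1 := hB.cen l' hl' (by
      intro m hm hml
      have h2 := hPM p hp m hm hml
      rw [hp'] at h2
      have h3 := (c.comm m hm k' hk').eq
      have h4 : l' * m * k' = m * l' * k' := by
        calc l' * m * k' = l' * (m * k') := by group
          _ = l' * k' * m := by rw [h3]; group
          _ = m * (l' * k') := h2.symm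
          _ = _ := by group
      exact mul_right_cancel h4)
    rcases h1 with h | h | h | h
    · left; rw [hp', h, one_mul]; exact hk'
    · left; rw [hp', h]; exact K.mul_mem c.tK hk'
    · right; rw [hp', h, inv_mul_cancel_left]; exact hk'
    · right
      rw [hp', h, ← hlt]
      rw [show l⁻¹ * (l * t * k') = t * k' by group]
      exact K.mul_mem c.tK hk'
  have hPP : ∀ p ∈ P, ∀ q ∈ P, p ∉ K → q ∉ K → p⁻¹ * q ∈ K := by
    intro p hp q hq h1 h2
    have h3 := (hPK p hp).resolve_left h1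
    have h4 := (hPK q hq).resolve_left h2
    rw [show p⁻¹ * q = (l⁻¹ * p)⁻¹ * (l⁻¹ * q) by group]
    exact K.mul_mem (K.inv_mem h3) h4
  -- two elements of `P` of order dividing four, not trivial and with `(p⁻¹ q)^4 = 1`, are equal
  have hPeq : ∀ p ∈ P, ∀ q ∈ P, p ^ 4 = 1 → q ^ 4 = 1 → (p⁻¹ * q) ^ 4 = 1 → p ≠ 1 → q ≠ 1 →
      p = q := by
    intro p hp q hq hp4 hq4 hpq4 hp1 hq1
    have h1 : p ∉ K := fun h => hp1 (hpow p h hp hp4)
    have h2 : q ∉ K := fun h => hq1 (hpow q h hq hq4)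
    have h3 := hpow _ (hPP p hp q hq h1 h2) (P.mul_mem (P.inv_mem hp) hq) hpq4
    exact inv_mul_eq_one.mp h3
  -- decompose `h⁻¹ t h`
  have hct' : Commute (h⁻¹ * t * h) t := by
    have h1 := hcs.eq
    calc h⁻¹ * t * h * t = h⁻¹ * (t * (h * t * h⁻¹)) * h := by group
      _ = h⁻¹ * ((h * t * h⁻¹) * t) * h := by rw [h1]
      _ = t * (h⁻¹ * t * h) := by group
  obtain ⟨l', hl', k', hk', ht'⟩ := c.dec _ hct'
  have hkk : k' * k' = 1 ∨ k' * k' = t := by
    have h1 : (l' * k') * (l' * k') = 1 := by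
      rw [← ht']
      calc h⁻¹ * t * h * (h⁻¹ * t * h) = h⁻¹ * (t * t) * h := by group
        _ = 1 := by rw [c.t2]; group
    have h2 : (l' * l') * (k' * k') = 1 := by
      calc (l' * l') * (k' * k') = l' * (l' * k') * k' := by group
        _ = l' * (k' * l') * k' := by rw [(c.comm l' hl' k' hk').eq]
        _ = (l' * k') * (l' * k') := by group
        _ = 1 := h1
    refine c.LK _ ?_ (K.mul_mem hk' hk')
    rw [eq_inv_of_mul_eq_one_right h2]
    exact L.inv_mem (L.mul_mem hl' hl')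
  -- elements of `K` commuting with `k'` give elements of `P`
  have hKP : ∀ x ∈ K, x * k' = k' * x → h * x * h⁻¹ ∈ P := by
    intro x hx hxk
    refine ⟨?_, ?_⟩
    · rw [show h⁻¹ * (h * x * h⁻¹) * h = x by group]; exact hx
    · have h1 : x * (h⁻¹ * t * h) = (h⁻¹ * t * h) * x := by
        rw [ht', ← mul_assoc, ← (c.comm l' hl' x hx).eq, mul_assoc, hxk, mul_assoc]
      calc h * x * h⁻¹ * t = h * (x * (h⁻¹ * t * h)) * h⁻¹ := by group
        _ = h * ((h⁻¹ * t * h) * x) * h⁻¹ := by rw [h1]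
        _ = t * (h * x * h⁻¹) := by group
  have hconj4 : ∀ x : G, x ^ 4 = 1 → (h * x * h⁻¹) ^ 4 = 1 := by
    intro x hx; rw [conj_pow, hx]; group
  have hconj1 : ∀ x : G, h * x * h⁻¹ = 1 → x = 1 := by
    intro x hx
    calc x = h⁻¹ * (h * x * h⁻¹) * h := by group
      _ = 1 := by rw [hx]; group
  have ht4 : t ^ 4 = 1 := by
    rw [show (4 : ℕ) = 2 * 2 from rfl, pow_mul, show t ^ 2 = 1 by rw [sq, c.t2], one_pow]
  have hk4 : k' ^ 4 = 1 := by
    have : k' ^ 4 = (k' * k') * (k' * k') := by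
      rw [show (4 : ℕ) = 2 + 2 from rfl, pow_add, sq]
    rw [this]
    rcases hkk with h | h
    · rw [h, one_mul]
    · rw [h, c.t2]
  -- `k' ∈ {1, t}`
  have hk't : k' = 1 ∨ k' = t := by
    by_contra hcon
    push Not at hcon
    have htk := (c.KC k' hk').eq
    have h1 := hPeq _ (hKP t c.tK htk.symm) _ (hKP k' hk' rfl) (hconj4 t ht4) (hconj4 k' hk4) (by
      rw [show (h * t * h⁻¹)⁻¹ * (h * k' * h⁻¹) = h * (t⁻¹ * k') * h⁻¹ by group]
      apply hconj4
      have hcm : Commute t⁻¹ k' := by rw [hti]; exact htk.symm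
      rw [hcm.mul_pow, hk4, hti, ht4, one_mul]) (fun h => c.t1 (hconj1 _ h))
      (fun h => hcon.1 (hconj1 _ h))
    apply hcon.2
    have h2 : t = h⁻¹ * (h * t * h⁻¹) * h := by group
    rw [h2, h1]; group
  have hall : ∀ x ∈ K, x * k' = k' * x := by
    intro x hx
    rcases hk't with h | h
    · rw [h]; simp
    · rw [h]; exact (c.KC x hx).eq
  -- the end
  intro h4
  obtain ⟨S, hS⟩ := Sylow.exists_subgroup_card_pow_prime (G := K) 2 (n := 2) (by simpa using h4)
  have hS4 : ∀ q ∈ S, (q : G) ^ 4 = 1 := by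
    intro q hq
    have hq4 := pow_card_eq_one' (G := S) (x := ⟨q, hq⟩)
    rw [hS] at hq4
    simpa using congrArg (fun y : S => (((y : K)) : G)) hq4
  have hSeq : ∀ q ∈ S, ∀ q' ∈ S, q ≠ 1 → q' ≠ 1 → q = q' := by
    intro q hq q' hq' h1 h1'
    have h2 := hPeq _ (hKP q q.2 (hall q q.2)) _ (hKP q' q'.2 (hall q' q'.2))
      (hconj4 _ (hS4 q hq)) (hconj4 _ (hS4 q' hq')) (by
        rw [show (h * (q : G) * h⁻¹)⁻¹ * (h * (q' : G) * h⁻¹) =
          h * ((q⁻¹ * q' : K) : G) * h⁻¹ by simp only [Subgroup.coe_mul, Subgroup.coe_inv]; group]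
        exact hconj4 _ (hS4 _ (S.mul_mem (S.inv_mem hq) hq')))
      (fun h => h1 (Subtype.ext (hconj1 _ h))) (fun h => h1' (Subtype.ext (hconj1 _ h)))
    apply Subtype.ext
    have h3 : (q : G) = h⁻¹ * (h * (q : G) * h⁻¹) * h := by group
    rw [h3, h2]; group
  have hle : Nat.card S ≤ 2 := by
    classical
    have hinj : Function.Injective (fun q : S => decide ((q : K) = 1)) := by
      intro a b hab
      have hab' := (decide_eq_decide.1 hab)
      by_cases ha : (a : K) = 1
      · exact Subtype.ext (ha.trans (hab'.1 ha).symm)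
      · have hb : (b : K) ≠ 1 := fun hb => ha (hab'.2 hb)
        exact Subtype.ext (hSeq a a.2 b b.2 ha hb)
    have := Nat.card_le_card_of_injective _ hinj
    simpa using this
  rw [hS] at hle
  norm_num at hle

/-- **`K = {1, t}`** for a standard subgroup `L ≅ 2.B`. -/
theorem K_eq [Finite G] {B : Type*} [Group B] {τ a z δ : B} (F : FactsK B τ a z δ)
    (f : L ≃* B) (hf : f ⟨t, c.tL⟩ = τ)
    (hfus : ∃ h : G, Commute (h * t * h⁻¹) t ∧ h * t * h⁻¹ ≠ t) :
    ∀ k ∈ K, k = 1 ∨ k = t := by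
  apply eq_of_not_four c
  intro h4
  have hfτ : (f.symm τ : G) = t := by rw [← hf]; simp
  have hτ1 : τ ≠ 1 := by
    intro h
    rw [h] at hfτ
    exact c.t1 (by rw [← hfτ]; simp)
  have hττ : τ * τ = 1 := by
    rw [← hf, ← map_mul]
    have : (⟨t, c.tL⟩ : L) * ⟨t, c.tL⟩ = 1 := Subtype.ext c.t2
    rw [this, map_one]
  have hmul : ∀ y y' : B, (f.symm (y * y') : G) = (f.symm y : G) * (f.symm y' : G) := by
    intro y y'; rw [map_mul, Subgroup.coe_mul]
  have hinj : ∀ y y' : B, (f.symm y : G) = (f.symm y' : G) → y = y' := fun y y' h =>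
    f.symm.injective (Subtype.ext h)
  have hiK : ∀ (y : B) (k : G), k ∈ K → (f.symm y : G) * k = k * (f.symm y : G) := fun y k hk =>
    (c.comm _ (f.symm y).2 k hk).eq
  -- conjugates of `t`
  have htsq : ∀ x : G, IsConj t x → x * x = 1 := by
    intro x hx
    obtain ⟨g, rfl⟩ := isConj_iff.mp hx
    calc g * t * g⁻¹ * (g * t * g⁻¹) = g * (t * t) * g⁻¹ := by group
      _ = 1 := by rw [c.t2]; group
  -- conjugation in `L`
  have hcj : ∀ (y y' : B) (k : G), k ∈ K → IsConj t ((f.symm y : G) * k) → IsConj y y' →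
      IsConj t ((f.symm y' : G) * k) := by
    intro y y' k hk h1 h2
    obtain ⟨g, rfl⟩ := isConj_iff.mp h2
    refine h1.trans (isConj_iff.mpr ⟨(f.symm g : G), ?_⟩)
    rw [hmul, hmul, map_inv, Subgroup.coe_inv]
    calc (f.symm g : G) * ((f.symm y : G) * k) * (f.symm g : G)⁻¹
        = (f.symm g : G) * (f.symm y : G) * (k * (f.symm g : G)⁻¹) := by group
      _ = (f.symm g : G) * (f.symm y : G) * ((f.symm g : G)⁻¹ * k) := by
          rw [← Subgroup.coe_inv, ← map_inv, hiK _ k hk]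
      _ = _ := by group
  have hne1 : ∀ (y : B) (k : G), k ∈ K → IsConj t ((f.symm y : G) * k) →
      (f.symm y : G) * k ≠ t → y ≠ 1 ∧ y ≠ τ := by
    intro y k hk h1 h2
    obtain ⟨h, hh⟩ := isConj_iff.mp h1
    have hc : ¬ Commute h t := by
      intro hc
      apply h2
      rw [← hh, hc.eq, mul_inv_cancel_right]
    have h3 := c.not_mem_conj hc c.tK c.t2 c.t1
    rw [hh] at h3
    constructor
    · rintro rfl
      apply h3
      simpa using hk
    · rintro rfl
      apply h3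
      rw [hfτ]
      exact K.mul_mem c.tK hk
  have hsq : ∀ (y : B) (k : G), k ∈ K → IsConj t ((f.symm y : G) * k) →
      (y * y = 1 ∧ k * k = 1) ∨ (y * y = τ ∧ k * k = t) := by
    intro y k hk h1
    have h2 := htsq _ h1
    have h3 : ((f.symm y : G) * (f.symm y : G)) * (k * k) = 1 := by
      calc ((f.symm y : G) * (f.symm y : G)) * (k * k)
          = (f.symm y : G) * ((f.symm y : G) * k) * k := by group
        _ = (f.symm y : G) * (k * (f.symm y : G)) * k := by rw [hiK y k hk]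
        _ = (f.symm y : G) * k * ((f.symm y : G) * k) := by group
        _ = 1 := h2
    have h4 : (f.symm y : G) * (f.symm y : G) = (k * k)⁻¹ := eq_inv_of_mul_eq_one_left h3
    rcases c.LK _ (L.mul_mem (f.symm y).2 (f.symm y).2) (by
      rw [h4]; exact K.inv_mem (K.mul_mem hk hk)) with h5 | h5
    · left
      constructor
      · apply hinj
        rw [hmul, h5]; simp
      · rw [h5, one_mul] at h3; exact h3
    · right
      constructor
      · apply hinj
        rw [hmul, h5, hfτ]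
      · rw [h5] at h3
        rw [eq_inv_of_mul_eq_one_right h3, inv_eq_of_mul_eq_one_left c.t2]
  -- case A does not occur
  have noA : ∀ (l : B) (k : G), Big B τ l → k ∈ K → IsConj t ((f.symm l : G) * k) →
      (f.symm l : G) * k ≠ t → False := by
    intro l k hB hk h1 h2
    obtain ⟨h, hh⟩ := isConj_iff.mp h1
    refine caseA c (f.symm l).2 (hB.toG f hf) hk hh ?_ ?_ h4
    · rw [hh]
      exact (c.LC _ (f.symm l).2).mul_left (c.KC k hk)
    · rw [hh]; exact h2
  have claim1 : ∀ (y : B) (k : G), k ∈ K → IsConj t ((f.symm y : G) * k) →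
      (f.symm y : G) * k ≠ t → IsConj δ y ∨ y * y = τ := by
    intro y k hk h1 h2
    obtain ⟨hy1, hyτ⟩ := hne1 y k hk h1 h2
    rcases hsq y k hk h1 with ⟨h3, -⟩ | ⟨h3, -⟩
    swap
    · exact Or.inr h3
    have hne : ∀ y' : B, IsConj y y' → (f.symm y' : G) * k ≠ t := by
      intro y' h h5
      apply h2
      obtain ⟨g, hg⟩ := isConj_iff.mp h.symm
      rw [← hg, hmul, hmul, map_inv, Subgroup.coe_inv]
      calc (f.symm g : G) * (f.symm y' : G) * (f.symm g : G)⁻¹ * k
          = (f.symm g : G) * (f.symm y' : G) * ((f.symm g : G)⁻¹ * k) := by group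
        _ = (f.symm g : G) * (f.symm y' : G) * (k * (f.symm g : G)⁻¹) := by
            rw [← Subgroup.coe_inv, ← map_inv, hiK _ k hk]
        _ = (f.symm g : G) * ((f.symm y' : G) * k) * (f.symm g : G)⁻¹ := by group
        _ = t := by rw [h5, (c.LC _ (f.symm g).2).eq, mul_inv_cancel_right]
    rcases F.cls y h3 hy1 hyτ with h | h | h | h
    · exact (noA a k F.big_a hk (hcj y a k hk h1 h.symm) (hne _ h.symm)).elim
    · exact (noA z k F.big_z hk (hcj y z k hk h1 h.symm) (hne _ h.symm)).elim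
    · exfalso
      have h5 := hcj y _ k hk h1 h.symm
      have h6 := hne _ h.symm
      have e : (f.symm (τ * z) : G) * k = (f.symm z : G) * (t * k) := by
        rw [F.τ_comm z, hmul, hfτ, mul_assoc]
      rw [e] at h5 h6
      exact noA z (t * k) F.big_z (K.mul_mem c.tK hk) h5 h6
    · exact Or.inl h
  -- case B
  have hδτ : ∀ y : B, IsConj δ y → IsConj y (τ * y) := by
    intro y h
    obtain ⟨g, hg⟩ := isConj_iff.mp h
    have h1 : IsConj (τ * δ) (τ * y) := by
      refine isConj_iff.mpr ⟨g, ?_⟩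
      rw [← hg, ← mul_assoc, ← F.τ_comm g]
      group
    exact h.symm.trans (F.δ_conj.trans h1)
  have claim2 : ∀ (y : B) (k : G), k ∈ K → IsConj t ((f.symm y : G) * k) →
      (f.symm y : G) * k ≠ t → IsConj t (t * ((f.symm y : G) * k)) := by
    intro y k hk h1 h2
    have h3 : IsConj y (τ * y) := by
      rcases claim1 y k hk h1 h2 with h | h
      · exact hδτ y h
      · exact F.real y h
    have h4 := hcj y _ k hk h1 h3
    rw [hmul, hfτ, mul_assoc] at h4
    exact h4
  have claim3 : ∀ d d' : G, IsConj t d → IsConj t d' → d * d' = d' * d → d ≠ d' →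
      IsConj t (d * d') := by
    intro d d' hd hd' hdd hne
    obtain ⟨g, rfl⟩ := isConj_iff.mp hd
    have hy : Commute (g⁻¹ * d' * g) t := by
      calc (g⁻¹ * d' * g) * t = g⁻¹ * (d' * (g * t * g⁻¹)) * g := by group
        _ = g⁻¹ * ((g * t * g⁻¹) * d') * g := by rw [hdd]
        _ = t * (g⁻¹ * d' * g) := by group
    obtain ⟨l, hl, k, hk, hlk⟩ := c.dec _ hy
    have hl' : (f.symm (f ⟨l, hl⟩) : G) = l := by simp
    have h1 : IsConj t ((f.symm (f ⟨l, hl⟩) : G) * k) := by
      rw [hl', ← hlk]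
      refine hd'.trans (isConj_iff.mpr ⟨g⁻¹, ?_⟩)
      group
    have h2 : (f.symm (f ⟨l, hl⟩) : G) * k ≠ t := by
      rw [hl', ← hlk]
      intro h
      apply hne
      rw [← h]; group
    have h3 := claim2 _ k hk h1 h2
    rw [hl', ← hlk] at h3
    refine h3.trans (isConj_iff.mpr ⟨g, ?_⟩)
    group
  -- `z` and `τ z` are not conjugates of `t`
  have noZ : ∀ y : B, IsConj z y ∨ IsConj (τ * z) y → ¬ IsConj t (f.symm y : G) := by
    intro y hy ht
    have h1 : IsConj t (f.symm z : G) ∨ IsConj t (f.symm (τ * z) : G) := by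
      have h2 : IsConj t ((f.symm y : G) * 1) := by rw [mul_one]; exact ht
      rcases hy with h | h
      · left
        have h3 := hcj y z 1 K.one_mem h2 h.symm
        rwa [mul_one] at h3
      · right
        have h3 := hcj y _ 1 K.one_mem h2 h.symm
        rwa [mul_one] at h3
    rcases h1 with h2 | h2
    · refine noA z 1 F.big_z K.one_mem (by rw [mul_one]; exact h2) ?_
      rw [mul_one]
      exact fun h => F.z_neτ (hinj _ _ (h.trans hfτ.symm))
    · have e : (f.symm (τ * z) : G) = (f.symm z : G) * t := by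
        rw [F.τ_comm z, hmul, hfτ]
      rw [e] at h2
      refine noA z t F.big_z c.tK h2 ?_
      intro h
      apply F.z_ne
      apply hinj
      rw [map_one, Subgroup.coe_one]
      exact mul_right_cancel (h.trans (one_mul t).symm)
  -- `δ k` is not a conjugate of `t`
  have claim5 : ∀ (y : B) (k : G), k ∈ K → IsConj t ((f.symm y : G) * k) → y * y = 1 →
      IsConj δ y → False := by
    intro y k hk h1 hyy h2
    obtain ⟨δ', hδ', hcm, hz⟩ := F.δδ
    have h3 := hcj y δ k hk h1 h2.symm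
    have h4 := hcj y δ' k hk h1 (h2.symm.trans hδ')
    have hδδ : δ * δ = 1 := by
      obtain ⟨g, hg⟩ := isConj_iff.mp h2
      have : g * (δ * δ) * g⁻¹ = 1 := by
        calc g * (δ * δ) * g⁻¹ = (g * δ * g⁻¹) * (g * δ * g⁻¹) := by group
          _ = 1 := by rw [hg, hyy]
      calc δ * δ = g⁻¹ * (g * (δ * δ) * g⁻¹) * g := by group
        _ = 1 := by rw [this]; group
    have hkk : k * k = 1 := by
      rcases hsq δ k hk h3 with ⟨-, h⟩ | ⟨h, -⟩
      · exact h
      · exact absurd (h.symm.trans hδδ) hτ1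
    have e : ∀ w w' : B, (f.symm w : G) * k * ((f.symm w' : G) * k) = (f.symm (w * w') : G) := by
      intro w w'
      calc (f.symm w : G) * k * ((f.symm w' : G) * k)
          = (f.symm w : G) * (k * (f.symm w' : G)) * k := by group
        _ = (f.symm w : G) * ((f.symm w' : G) * k) * k := by rw [hiK _ k hk]
        _ = (f.symm w : G) * (f.symm w' : G) * (k * k) := by group
        _ = _ := by rw [hkk, mul_one, ← hmul]
    have hne' : δ ≠ δ' := by
      rintro h
      rw [← h, hδδ] at hz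
      rcases hz with h6 | h6
      · exact F.z_ne (isConj_one_left.mp h6)
      · have h7 : τ * z = 1 := isConj_one_left.mp h6
        apply F.z_neτ
        exact mul_left_cancel (h7.trans hττ.symm)
    have h5 := claim3 _ _ h3 h4 (by rw [e, e, hcm]) (by
      intro h
      exact hne' (hinj _ _ (mul_right_cancel h)))
    rw [e] at h5
    exact noZ _ hz h5
  obtain ⟨h, hst, hne⟩ := hfus
  obtain ⟨l, hl, k, hk, hlk⟩ := c.dec _ hst
  set y : B := f ⟨l, hl⟩ with hy
  have hl' : (f.symm y : G) = l := by rw [hy]; simp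
  have h1 : IsConj t ((f.symm y : G) * k) := by
    rw [hl', ← hlk]; exact isConj_iff.mpr ⟨h, rfl⟩
  have h2 : (f.symm y : G) * k ≠ t := by rw [hl', ← hlk]; exact hne
  rcases hsq y k hk h1 with ⟨h3, -⟩ | ⟨h3, hkk⟩
  · rcases claim1 y k hk h1 h2 with h5 | h5
    · exact claim5 y k hk h1 h3 h5
    · exact hτ1 (h5.symm.trans h3)
  · obtain ⟨y1, hy1, hyy, hne1', hneτ⟩ := F.com y h3
    have h5 := hcj y y1 k hk h1 hy1
    have e : ∀ w w' : B, (f.symm w : G) * k * ((f.symm w' : G) * k) = (f.symm (w * w' * τ) : G) := by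
      intro w w'
      calc (f.symm w : G) * k * ((f.symm w' : G) * k)
          = (f.symm w : G) * (k * (f.symm w' : G)) * k := by group
        _ = (f.symm w : G) * ((f.symm w' : G) * k) * k := by rw [hiK _ k hk]
        _ = (f.symm w : G) * (f.symm w' : G) * (k * k) := by group
        _ = _ := by rw [hkk, ← hmul, ← hfτ, ← hmul]
    have h6 := claim3 _ _ h1 h5 (by rw [e, e, hyy]) (by
      intro h6
      exact hne1' (hinj _ _ (mul_right_cancel h6)).symm)
    rw [e] at h6
    have hy1sq : y1 * y1 = τ := by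
      obtain ⟨g, hg⟩ := isConj_iff.mp hy1
      rw [← hg]
      calc g * y * g⁻¹ * (g * y * g⁻¹) = g * (y * y) * g⁻¹ := by group
        _ = τ := by rw [h3, ← F.τ_comm g, mul_inv_cancel_right]
    have hu : (y * y1 * τ) * (y * y1 * τ) = 1 := by
      calc (y * y1 * τ) * (y * y1 * τ) = y * y1 * (τ * (y * y1)) * τ := by group
        _ = y * (y1 * y) * y1 * (τ * τ) := by rw [F.τ_comm (y * y1)]; group
        _ = (y * y) * (y1 * y1) * (τ * τ) := by rw [← hyy]; group
        _ = 1 := by rw [h3, hy1sq, hττ, one_mul]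
    have h7 : (f.symm (y * y1 * τ) : G) * 1 ≠ t := by
      rw [mul_one]
      intro h
      have h8 : y * y1 * τ = τ := hinj _ _ (h.trans hfτ.symm)
      have h9 : y * y1 = 1 := mul_right_cancel (h8.trans (one_mul τ).symm)
      apply hneτ
      have h10 : y * (τ * y) = 1 := by
        rw [← mul_assoc, ← F.τ_comm y, mul_assoc, h3, hττ]
      exact mul_left_cancel (h9.trans h10.symm)
    rw [← mul_one ((f.symm (y * y1 * τ) : G))] at h6
    rcases claim1 _ 1 K.one_mem h6 h7 with h8 | h8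
    · exact claim5 _ 1 K.one_mem h6 hu h8
    · exact hτ1 (h8.symm.trans hu)

end ctx

end Cfsg.Agent.MonsterN.KEq
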