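import Cfsg.Prelude.Def_Spor_M
import Cfsg.Agent.StandardComponent.StdCtx
import Cfsg.Agent.MonsterN.CoverB
import Cfsg.Agent.MonsterN.KEq
import Cfsg.Agent.MonsterN.FusionType

/-!
# S1737, first part: from a standard subgroup `L = 2.B` to `C_G(t) = L` and `t ~ f₁`

`Model B τ f₁ f₂ f₃ f₄`: `B` is a model of the double cover of the Baby Monster, with all the facts which are used.
`exists_phi`: for the hypotheses of S1737 there is an injective `φ : B →* G` with range `C_G(φ τ)` and `φ τ` is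
conjugate to `φ f₁`.
-/

set_option autoImplicit false

open Subgroup

namespace Cfsg.Agent.MonsterN.Asm

open Cfsg Cfsg.Agent.StandardComponent Cfsg.Agent.StandardComponent.Intrinsic

/-- A model of the double cover `2.B` of the Baby Monster with the facts used for S1737. -/
structure Model (B : Type*) [Group B] (τ f₁ f₂ f₃ f₄ : B) : Prop where
  card_center : Nat.card (center B) = 2
  perf : commutator B = ⊤
  quot : Nonempty ((B ⧸ center B) ≃* Spor.BabyMonster)
  facts : FusionType.Facts τ f₁ f₂ f₃ f₄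
  big_a : KEq.Big B τ f₁
  big_z : KEq.Big B τ (τ * (f₁ * f₂))
  real : ∀ l : B, l * l = τ → IsConj l (τ * l)
  com : ∀ l : B, l * l = τ → ∃ l1 : B, IsConj l l1 ∧ l * l1 = l1 * l ∧ l1 ≠ l ∧ l1 ≠ τ * l
  auto : ∀ α : B ≃* B, ∃ g : B, ∀ x, α x = g * x * g⁻¹

/-- The normaliser of `L` is `L C(L)` when all automorphisms of `L` are inner. -/
theorem normalizer_le {G : Type*} [Group G] {B : Type*} [Group B] {L : Subgroup G} (α : L ≃* B)
    (auto : ∀ β : B ≃* B, ∃ g : B, ∀ x, β x = g * x * g⁻¹) :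
    normalizer (L : Set G) ≤ L ⊔ centralizer (L : Set G) := by
  intro n hn
  have hmem : ∀ x, x ∈ L ↔ n * x * n⁻¹ ∈ L := fun x => Subgroup.mem_normalizer_iff.1 hn x
  let β : L ≃* L :=
    { toFun := fun x => ⟨n * x * n⁻¹, (hmem x).1 x.2⟩
      invFun := fun x => ⟨n⁻¹ * x * n, by
        rw [hmem]
        rw [show n * (n⁻¹ * (x : G) * n) * n⁻¹ = x by group]
        exact x.2⟩
      left_inv := fun x => Subtype.ext (by simp [mul_assoc])
      right_inv := fun x => Subtype.ext (by simp [mul_assoc])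
      map_mul' := fun x y => Subtype.ext (by simp [mul_assoc]) }
  obtain ⟨g, hg⟩ := auto ((α.symm.trans β).trans α)
  have hβ : ∀ x : L, β x = α.symm g * x * (α.symm g)⁻¹ := by
    intro x
    have h1 := hg (α x)
    simp only [MulEquiv.trans_apply, MulEquiv.symm_apply_apply] at h1
    apply α.injective
    rw [h1]; simp
  have hc : ((α.symm g : L) : G)⁻¹ * n ∈ centralizer (L : Set G) := by
    rw [mem_centralizer_iff]
    intro x hx
    have h1 := congrArg (fun y : L => (y : G)) (hβ ⟨x, hx⟩)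
    have h2 : n * x * n⁻¹ = ((α.symm g : L) : G) * x * ((α.symm g : L) : G)⁻¹ := h1
    calc x * (((α.symm g : L) : G)⁻¹ * n)
        = ((α.symm g : L) : G)⁻¹ * (((α.symm g : L) : G) * x * ((α.symm g : L) : G)⁻¹) * n := by group
      _ = ((α.symm g : L) : G)⁻¹ * (n * x * n⁻¹) * n := by rw [h2]
      _ = ((α.symm g : L) : G)⁻¹ * n * x := by group
  have : n = ((α.symm g : L) : G) * (((α.symm g : L) : G)⁻¹ * n) := by group
  rw [this]
  exact mul_mem (mem_sup_left (α.symm g).2) (mem_sup_right hc)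

variable {B : Type*} [Group B] {τ f₁ f₂ f₃ f₄ : B}

/-- **S1737, first part**. -/
theorem exists_phi (hM : Model B τ f₁ f₂ f₃ f₄) {G : Type*} [Group G] [Finite G] [IsSimpleGroup G]
    (hG : ¬ IsMulCommutative G)
    (hbal : ∀ t : G, orderOf t = 2 → Cfsg.centralizerPPrimeCore 2 t = ⊥)
    (L : Subgroup G) (hL : Cfsg.IsStandardSubgroup L)
    (hLX : (Nat.card ↥(Subgroup.center ↥L) = 2 ∧
      Nonempty (↥L ⧸ Subgroup.center ↥L ≃* Cfsg.Spor.BabyMonster))) :
    ∃ φ : B →* G, Function.Injective φ ∧ (∀ x : G, x ∈ φ.range ↔ x * φ τ = φ τ * x) ∧ φ.range = L ∧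
      IsConj (φ τ) (φ f₁) := by
  obtain ⟨hZ, hX⟩ := hLX
  have hperf : commutator L = ⊤ := hL.1.1.commutator_eq_top
  obtain ⟨α⟩ := CoverB.nonempty_mulEquiv hZ hM.card_center hperf hM.perf hX hM.quot
  obtain ⟨t, ht1, ht2, htL, htK, hLK⟩ := StdCtx.exists_inv hZ
  -- `α t = τ`
  have hατ : α ⟨t, htL⟩ = τ := by
    have h1 : ∀ x ∈ center B, x = 1 ∨ x = τ := by
      intro x hx
      obtain ⟨y, hy, huniq⟩ := (Nat.card_eq_two_iff' (1 : center B)).1 hM.card_center
      by_cases hx1 : x = 1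
      · exact Or.inl hx1
      · right
        have hτ : (⟨τ, mem_center_iff.2 fun g => hM.facts.cen g⟩ : center B) = y := huniq _ (fun h =>
          hM.facts.t_ne (congrArg Subtype.val h))
        have hx' : (⟨x, hx⟩ : center B) = y := huniq _ (fun h => hx1 (congrArg Subtype.val h))
        exact congrArg Subtype.val (hx'.trans hτ.symm)
    have h2 : α ⟨t, htL⟩ ∈ center B := by
      rw [mem_center_iff]
      intro g
      obtain ⟨l, rfl⟩ := α.surjective g
      rw [← map_mul, ← map_mul]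
      congr 1
      apply Subtype.ext
      exact mem_centralizer_iff.1 htK l l.2
    rcases h1 _ h2 with h | h
    · exfalso
      apply ht1
      have h3 : (⟨t, htL⟩ : L) = 1 := by
        apply α.injective
        rw [h, map_one]
      exact congrArg Subtype.val h3
    · exact h
  have hN := normalizer_le α hM.auto
  obtain ⟨e⟩ := hX
  obtain ⟨c⟩ := StdCtx.exists_ctx hL e hN hbal ht1 ht2 htL htK hLK
  have hfus := StdCtx.fusion hG (StdCtx.orderOf_two ht1 ht2)
  have hK := KEq.K_eq c (KEq.FactsK.of_facts hM.facts hM.big_a hM.big_z hM.real hM.com) α hατ hfus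
  have hCL : ∀ x : G, x * t = t * x → x ∈ L := by
    intro x hx
    obtain ⟨l, hl, k, hk, rfl⟩ := c.dec x hx
    rcases hK k hk with rfl | rfl
    · rw [mul_one]; exact hl
    · exact L.mul_mem hl htL
  let φ : B →* G := L.subtype.comp α.symm.toMonoidHom
  have hφτ : φ τ = t := by
    change ((α.symm τ : L) : G) = t
    rw [← hατ, MulEquiv.symm_apply_apply]
  have hφinj : Function.Injective φ := by
    intro x y h
    exact α.symm.injective (Subtype.ext h)
  have hrL : φ.range = L := by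
    apply le_antisymm
    · rintro _ ⟨x, rfl⟩
      exact (α.symm x).2
    · intro x hx
      exact ⟨α ⟨x, hx⟩, by change ((α.symm (α ⟨x, hx⟩) : L) : G) = x; rw [MulEquiv.symm_apply_apply]⟩
  have hr : ∀ x : G, x ∈ φ.range ↔ x * φ τ = φ τ * x := by
    intro x
    rw [hφτ, hrL]
    exact ⟨fun hx => (c.LC x hx).eq, hCL x⟩
  refine ⟨φ, hφinj, hr, hrL, ?_⟩
  obtain ⟨h, hh1, hh2⟩ := hfus
  exact FusionType.fusion hM.facts hφinj (fun x hx => (hr x).2 hx) ⟨h, by rw [hφτ]; exact ⟨hh2, hh1⟩⟩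

/-- **S1737** from the node part (`S`: the subgroup generated by the nodes, it contains `C_G(φ τ)` and is a
Monster) and the closing theorem. -/
theorem isoM_of [Finite B] (h43 : ¬ 2 ^ 43 ∣ Nat.card B) (hM : Model B τ f₁ f₂ f₃ f₄)
    {G : Type*} [Group G] [Finite G] [IsSimpleGroup G]
    (hG : ¬ IsMulCommutative G)
    (hbal : ∀ t : G, orderOf t = 2 → Cfsg.centralizerPPrimeCore 2 t = ⊥)
    (L : Subgroup G) (hL : Cfsg.IsStandardSubgroup L)
    (hLX : (Nat.card ↥(Subgroup.center ↥L) = 2 ∧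
      Nonempty (↥L ⧸ Subgroup.center ↥L ≃* Cfsg.Spor.BabyMonster)))
    (node : ∀ φ : B →* G, Function.Injective φ → (∀ x : G, x ∈ φ.range ↔ x * φ τ = φ τ * x) →
      IsConj (φ τ) (φ f₁) → ∃ S : Subgroup G, φ.range ≤ S ∧ Nonempty (S ≃* Spor.Monster))
    (close : ∀ (S : Subgroup G) (_ : S ≃* Spor.Monster) (t : G), t ∈ S → t * t = 1 → t ≠ 1 →
      ¬ 2 ^ 43 ∣ Nat.card (centralizer ({t} : Set G)) → (∀ g : G, g * t = t * g → g ∈ S) → S = ⊤) :
    Cfsg.Spor.IsoM G := by
  obtain ⟨φ, hφ, hr, -, hconj⟩ := exists_phi hM hG hbal L hL hLX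
  obtain ⟨S, hS, ⟨e⟩⟩ := node φ hφ hr hconj
  have hrange : centralizer ({φ τ} : Set G) = φ.range := by
    ext x
    rw [hr, mem_centralizer_singleton_iff]
  have hcard : Nat.card (centralizer ({φ τ} : Set G)) = Nat.card B := by
    rw [hrange]
    exact (Nat.card_congr (MonoidHom.ofInjective hφ).toEquiv).symm
  have htop := close S e (φ τ) (hS ⟨τ, rfl⟩) (by rw [← map_mul, hM.facts.t_sq, map_one])
    (fun h => hM.facts.t_ne (hφ (by rw [h, map_one]))) (by rw [hcard]; exact h43)
    (fun g hg => hS ((hr g).2 hg))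
  subst htop
  exact ⟨Subgroup.topEquiv.symm.trans e⟩

end Cfsg.Agent.MonsterN.Asm
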