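import Cfsg.Agent.MonsterN.TriSimple
import Cfsg.Agent.MonsterN.KEq
import Cfsg.Agent.MonsterU.TwoQ
import Mathlib.GroupTheory.FixedPointFree

/-!
# The centraliser of two axes in the Monster: the structure `KEq.Big`

`M : KS G V P W` with `Lift M θ`, `Γ` the Monster.  `x₁`, `x₂` short elements of `P` over the classes of
`4 e_p - 4 e_q`, `4 e_q - 4 e_k` (a 2A-pure four-group); `X = C_Γ(ι x₁, ι x₂)`.

* `cen` : an element of `Γ` commuting with `X` is in `⟨ι x₁, ι x₂⟩`.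
-/

set_option autoImplicit false

namespace Cfsg.Agent.MonsterN.BigA

open Cfsg Cfsg.Spor Cfsg.Agent.LeechMat.Core Cfsg.Agent.MonsterX.KSide Cfsg.Agent.MonsterX.KLift
open Cfsg.Agent.MonsterX.FrameKS Cfsg.Agent.MonsterU.TwoCls Cfsg.Agent.MonsterU.InvTwo
open Cfsg.Agent.MonsterU.Lam2 (L2 cl cl_surjective bf qf add_self neg_eq IsType bf_cl_eq_zero bf_comm)
open Cfsg.Agent.MonsterU.TwoQ (aut ind_exists Ind_conj Ind_mk_eq Ind_of_mk Ind_eq_ι Ind_mem_iff z_comm z_comm_ι)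
open Cfsg.Agent.MonsterN.TriLat Cfsg.Agent.MonsterN.TriSimple

/-! ### Inversion modulo a central subgroup -/

/-- An involution acting without fixed points on `N / E` inverts it. -/
theorem inverts {G : Type*} [Group G] {N E : Subgroup G} (hN : Finite N) (hEN : ∀ e ∈ E, ∀ n ∈ N, e * n = n * e)
    {z : G} (hz : z * z = 1) (hzN : ∀ n ∈ N, z * n * z⁻¹ ∈ N) (hzE : ∀ e ∈ E, z * e * z⁻¹ ∈ E)
    (hfix : ∀ n ∈ N, z * n * z⁻¹ * n⁻¹ ∈ E → n ∈ E) : ∀ n ∈ N, z * n * z⁻¹ * n ∈ E := by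
  let E' : Subgroup N := E.subgroupOf N
  have hn : E'.Normal := ⟨fun e he n => by
    have h1 : (e : G) ∈ E := he
    show ((n * e * n⁻¹ : N) : G) ∈ E
    rw [Subgroup.coe_mul, Subgroup.coe_mul, Subgroup.coe_inv, ← hEN _ h1 n n.2, mul_inv_cancel_right]
    exact h1⟩
  let φ : N →* N :=
    { toFun := fun n => ⟨z * n * z⁻¹, hzN n n.2⟩
      map_one' := Subtype.ext (by simp)
      map_mul' := fun a b => Subtype.ext (by
        show z * (a * b : G) * z⁻¹ = z * a * z⁻¹ * (z * b * z⁻¹)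
        group) }
  have hφE : E' ≤ E'.comap φ := fun e he => hzE e he
  let ψ : N ⧸ E' →* N ⧸ E' := QuotientGroup.map E' E' φ hφE
  have hψ : ∀ n : N, ψ (n : N ⧸ E') = (φ n : N ⧸ E') := fun n => rfl
  have hfpf : MonoidHom.FixedPointFree ψ := by
    intro x hx
    obtain ⟨n, rfl⟩ := QuotientGroup.mk_surjective x
    have h1 : (φ n : N ⧸ E') = (n : N ⧸ E') := hx
    have h2 : (φ n * n⁻¹ : N) ∈ E' := by
      rw [← QuotientGroup.eq_one_iff, QuotientGroup.mk_mul, h1, QuotientGroup.mk_inv, mul_inv_cancel]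
    exact (QuotientGroup.eq_one_iff n).2 (hfix n n.2 h2)
  have hinv : Function.Involutive ψ := by
    intro x
    obtain ⟨n, rfl⟩ := QuotientGroup.mk_surjective x
    have h1 : φ (φ n) = n := by
      apply Subtype.ext
      show z * (z * n * z⁻¹) * z⁻¹ = n
      rw [show z * (z * n * z⁻¹) * z⁻¹ = (z * z) * n * (z * z)⁻¹ by group, hz]
      simp
    show ψ (ψ (n : N ⧸ E')) = n
    rw [hψ, hψ, h1]
  have h3 := hfpf.coe_eq_inv_of_involutive hinv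
  intro n hn'
  have h4 : ψ ((⟨n, hn'⟩ : N) : N ⧸ E') = ((⟨n, hn'⟩ : N) : N ⧸ E')⁻¹ := congrFun h3 _
  have h5 : (φ ⟨n, hn'⟩ * ⟨n, hn'⟩ : N) ∈ E' := by
    rw [← QuotientGroup.eq_one_iff, QuotientGroup.mk_mul, ← hψ, h4, inv_mul_cancel]
  exact h5

variable {G V P W : Type*} [Group G] [AddCommGroup V] [Module ℚ V]
  [DistribMulAction G V] [SMulCommClass G ℚ V] [Group P] [AddCommGroup W] [Module ℚ W]
  {M : KS G V P W} {θ : leechLattice → P} {Γ : Subgroup G} {p q k : GolayPt} {x₁ x₂ : P}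

/-- What is used of the group `Γ`. -/
structure Hyp (M : KS G V P W) (Γ : Subgroup G) : Prop where
  K_le : M.K ≤ Γ
  cent : ∀ g ∈ Γ, g * M.z = M.z * g → g ∈ M.K
  fin : Finite Γ
  nconj : ∀ g ∈ Γ, ∀ t ∈ M.Sh, g * M.z * g⁻¹ ≠ M.ι t

/-- The two short elements. -/
structure Pair (L : Lift M θ) (p q k : GolayPt) (x₁ x₂ : P) : Prop where
  pq : p ≠ q
  qk : q ≠ k
  pk : p ≠ k
  h₁ : clP L x₁ = cl (dd p q)
  h₂ : clP L x₂ = cl (dd q k)

/-- The centraliser of the two axes. -/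
def X (M : KS G V P W) (Γ : Subgroup G) (x₁ x₂ : P) : Subgroup G :=
  Γ ⊓ Subgroup.centralizer {M.ι x₁} ⊓ Subgroup.centralizer {M.ι x₂}

theorem mem_X {g : G} : g ∈ X M Γ x₁ x₂ ↔ g ∈ Γ ∧ g * M.ι x₁ = M.ι x₁ * g ∧ g * M.ι x₂ = M.ι x₂ * g := by
  rw [X, Subgroup.mem_inf, Subgroup.mem_inf, Subgroup.mem_centralizer_singleton_iff,
    Subgroup.mem_centralizer_singleton_iff, and_assoc]

/-- Some element of `X` moves `z` inside `ι P`. -/
def Fus (M : KS G V P W) (Γ : Subgroup G) (x₁ x₂ : P) : Prop :=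
  ∃ g ∈ X M Γ x₁ x₂, (∃ c, g * M.z * g⁻¹ = M.ι c) ∧ g * M.z * g⁻¹ ≠ M.z

/-- `⟨x₁, x₂⟩` -/
def E4 (x₁ x₂ u : P) : Prop := u = 1 ∨ u = x₁ ∨ u = x₂ ∨ u = x₁ * x₂

section

variable {L : Lift M θ} (hP : Pair L p q k x₁ x₂)

include hP

theorem perp_four {a : GolayPt → ℤ} {x : leechLattice} (h : ∀ i, (x : GolayPt → ℤ) i = 4 * a i) :
    Pp p q k (cl x) := by
  rw [pp_cl hP.pq hP.qk]
  constructor
  · rw [h, h]; unfold Int.ModEq; omega
  · rw [h, h]; unfold Int.ModEq; omega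

theorem sh₁ : x₁ ∈ M.Sh := (mem_Sh_iff L x₁).2 ⟨dd p q, by rw [sqNorm_dd hP.pq]; norm_num, hP.h₁.symm⟩

theorem sh₂ : x₂ ∈ M.Sh := (mem_Sh_iff L x₂).2 ⟨dd q k, by rw [sqNorm_dd hP.qk]; norm_num, hP.h₂.symm⟩

theorem sh₁₂ : x₁ * x₂ ∈ M.Sh := (mem_Sh_iff L _).2 ⟨dd p k, by rw [sqNorm_dd hP.pk]; norm_num, by
  rw [clP_mul, hP.h₁, hP.h₂, ← map_add, dd_add]⟩

theorem sq₁ : x₁ * x₁ = 1 := L.sh_sq _ (sh₁ hP)

theorem sq₂ : x₂ * x₂ = 1 := L.sh_sq _ (sh₂ hP)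

theorem comm₁₂ : x₂ * x₁ = x₁ * x₂ := by
  rw [comm_iff_bf L, hP.h₁, hP.h₂]
  exact (perp_four hP (dd_coe q k)).1

theorem ι_mem_X (H : Hyp M Γ) {c : P} : M.ι c ∈ X M Γ x₁ x₂ ↔ Pp p q k (clP L c) := by
  have hinj := ι_inj L
  rw [mem_X, ← map_mul, ← map_mul, hinj.eq_iff, ← map_mul, ← map_mul, hinj.eq_iff, comm_iff_bf L,
    comm_iff_bf L, hP.h₁, hP.h₂]
  exact ⟨fun h => h.2, fun h => ⟨H.K_le (M.ι_mem c), h⟩⟩

theorem z_mem_X (H : Hyp M Γ) : M.z ∈ X M Γ x₁ x₂ :=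
  (ι_mem_X hP H).2 ⟨by rw [clP_zc]; exact Cfsg.Agent.MonsterU.Lam2.bf_zero_left _, by rw [clP_zc]; exact Cfsg.Agent.MonsterU.Lam2.bf_zero_left _⟩

theorem E4_sh {u : P} (hu : E4 x₁ x₂ u) : u = 1 ∨ u ∈ M.Sh := by
  rcases hu with h | rfl | rfl | rfl
  · exact Or.inl h
  · exact Or.inr (sh₁ hP)
  · exact Or.inr (sh₂ hP)
  · exact Or.inr (sh₁₂ hP)

theorem exists_E4 {c : P} (h : InE p q k (clP L c)) : ∃ u, E4 x₁ x₂ u ∧ (c = u ∨ c = M.zc * u) := by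
  rcases h with h | h | h | h
  · refine ⟨1, Or.inl rfl, ?_⟩
    rw [mul_one]; exact (clP_eq_zero L).1 h
  · rw [← hP.h₁] at h
    exact ⟨x₁, Or.inr (Or.inl rfl), (clP_eq' L).1 h⟩
  · rw [← hP.h₂] at h
    exact ⟨x₂, Or.inr (Or.inr (Or.inl rfl)), (clP_eq' L).1 h⟩
  · rw [← hP.h₁, ← hP.h₂, ← clP_mul] at h
    exact ⟨x₁ * x₂, Or.inr (Or.inr (Or.inr rfl)), (clP_eq' L).1 h⟩

theorem inE_of_E4 {u : P} (hu : E4 x₁ x₂ u) : InE p q k (clP L u) := by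
  rcases hu with rfl | rfl | rfl | rfl
  · left; exact clP_one L
  · right; left; exact hP.h₁
  · right; right; left; exact hP.h₂
  · right; right; right; rw [clP_mul, hP.h₁, hP.h₂]

/-- `⟨x₁, x₂⟩` as a subgroup. -/
def EP : Subgroup P where
  carrier := {u | E4 x₁ x₂ u}
  one_mem' := Or.inl rfl
  mul_mem' := by
    have h1 := sq₁ hP
    have h2 := sq₂ hP
    have h3 := comm₁₂ hP
    have h1' : ∀ y : P, x₁ * (x₁ * y) = y := fun y => by rw [← mul_assoc, h1, one_mul]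
    have h3' : ∀ y : P, x₂ * (x₁ * y) = x₁ * (x₂ * y) := fun y => by rw [← mul_assoc, h3, mul_assoc]
    rintro a b (rfl | rfl | rfl | rfl) (rfl | rfl | rfl | rfl) <;>
      simp only [Set.mem_ofPred_eq, E4, mul_assoc, one_mul, mul_one, h1, h2, h3, h1', h3', true_or, or_true]
  inv_mem' := by
    have h1 : x₁⁻¹ = x₁ := inv_eq_of_mul_eq_one_left (sq₁ hP)
    have h2 : x₂⁻¹ = x₂ := inv_eq_of_mul_eq_one_left (sq₂ hP)
    have h3 := comm₁₂ hP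
    rintro a (rfl | rfl | rfl | rfl) <;>
      simp only [Set.mem_ofPred_eq, E4, inv_one, mul_inv_rev, h1, h2, h3, true_or, or_true]

theorem mem_EP {u : P} : u ∈ EP hP ↔ E4 x₁ x₂ u := Iff.rfl

/-- The elements of `⟨ι x₁, ι x₂⟩` commute with `X`. -/
theorem comm_E4 {u : P} (hu : E4 x₁ x₂ u) {g : G} (hg : g ∈ X M Γ x₁ x₂) : g * M.ι u = M.ι u * g := by
  obtain ⟨_, h1, h2⟩ := mem_X.1 hg
  rcases hu with rfl | rfl | rfl | rfl
  · rw [map_one, mul_one, one_mul]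
  · exact h1
  · exact h2
  · rw [map_mul, ← mul_assoc, h1, mul_assoc, h2, mul_assoc]

theorem E4_mem_X (H : Hyp M Γ) {u : P} (hu : E4 x₁ x₂ u) : M.ι u ∈ X M Γ x₁ x₂ := by
  rw [ι_mem_X hP H]
  rcases inE_of_E4 hP hu with h | h | h | h <;> rw [h]
  · exact ⟨Cfsg.Agent.MonsterU.Lam2.bf_zero_left _, Cfsg.Agent.MonsterU.Lam2.bf_zero_left _⟩
  · exact perp_four hP (dd_coe p q)
  · exact perp_four hP (dd_coe q k)
  · exact (perp_four hP (dd_coe p q)).add (perp_four hP (dd_coe q k))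

/-- A conjugate of `z` in `z ⟨ι x₁, ι x₂⟩` is `z`. -/
theorem eq_z_of (H : Hyp M Γ) {g : G} (hg : g ∈ Γ) {u : P} (hu : E4 x₁ x₂ u)
    (h : g * M.z * g⁻¹ = M.ι u ∨ g * M.z * g⁻¹ = M.z * M.ι u) : g * M.z * g⁻¹ = M.z := by
  rcases E4_sh hP hu with rfl | hs
  · rcases h with h | h
    · exfalso
      rw [map_one] at h
      exact Cfsg.Agent.MonsterU.TwoQ.z_ne_one L (conj_eq_one_iff.1 h)
    · rw [h, map_one, mul_one]
  · exfalso
    rcases h with h | h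
    · exact H.nconj g hg u hs h
    · refine H.nconj g hg _ (M.Sh_z u hs) ?_
      rw [h, map_mul]; rfl

/-- An element of `K` in `X` induces an element fixing `r`, `s`. -/
theorem fix_of_mem {g : G} {A : Co0} (hgK : g ∈ M.K) (hA : Ind M g A) (hg : g ∈ X M Γ x₁ x₂) :
    A • cl (dd p q) = cl (dd p q) ∧ A • cl (dd q k) = cl (dd q k) := by
  obtain ⟨α, h1, h2⟩ := aut L hgK hA
  obtain ⟨_, e1, e2⟩ := mem_X.1 hg
  have hinj := ι_inj L
  have a1 : α x₁ = x₁ := by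
    apply hinj
    rw [h1] at e1
    exact mul_right_cancel e1
  have a2 : α x₂ = x₂ := by
    apply hinj
    rw [h1] at e2
    exact mul_right_cancel e2
  constructor
  · rw [← hP.h₁, ← h2, a1]
  · rw [← hP.h₂, ← h2, a2]

/-- The elements of `Fix` lift to `X ∩ K`. -/
theorem exists_lift (H : Hyp M Γ) {A : Co0} (h1 : A • cl (dd p q) = cl (dd p q))
    (h2 : A • cl (dd q k) = cl (dd q k)) : ∃ g ∈ M.K, Ind M g A ∧ g ∈ X M Γ x₁ x₂ := by
  obtain ⟨g, hgK, hg⟩ := M.onto A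
  obtain ⟨α, ha, hα⟩ := aut L hgK hg
  -- the signs
  have hs : ∀ x : P, A • clP L x = clP L x → ∃ a : ZMod 2, ∀ c : P, bf (clP L c) (clP L x) = a →
      c * α x * c⁻¹ = x := by
    intro x hx
    have e : clP L (α x) = clP L x := by rw [hα, hx]
    rcases (clP_eq' L).1 e with e | e
    · refine ⟨0, fun c hc => ?_⟩
      rw [e, (comm_iff_bf L c x).2 hc, mul_inv_cancel_right]
    · refine ⟨1, fun c hc => ?_⟩
      have hne : ¬ c * x = x * c := by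
        rw [comm_iff_bf L, hc]; exact one_ne_zero
      rcases M.comm_or c x with h | h
      · exact absurd (mul_inv_eq_iff_eq_mul.1 h) hne
      · rw [e, show c * (M.zc * x) * c⁻¹ = (c * M.zc) * x * c⁻¹ by group, ← M.zc_comm c,
          show M.zc * c * x * c⁻¹ = M.zc * (c * x * c⁻¹) by group, h, M.zc_zc]
  obtain ⟨a, ha1⟩ := hs x₁ (by rw [hP.h₁, h1])
  obtain ⟨b, hb1⟩ := hs x₂ (by rw [hP.h₂, h2])
  obtain ⟨y, hy1, hy2⟩ := exists_sep hP.pq hP.qk hP.pk a b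
  obtain ⟨c, rfl⟩ := clP_surjective L y
  have k1 := ha1 c (by rw [hP.h₁]; exact hy1)
  have k2 := hb1 c (by rw [hP.h₂]; exact hy2)
  have key : ∀ x : P, c * α x * c⁻¹ = x → M.ι c * g * M.ι x = M.ι x * (M.ι c * g) := by
    intro x hx
    rw [mul_assoc, ha, ← mul_assoc, ← map_mul, ← mul_assoc, ← map_mul]
    congr 2
    exact mul_inv_eq_iff_eq_mul.1 hx
  refine ⟨M.ι c * g, M.K.mul_mem (M.ι_mem c) hgK, ?_, mem_X.2 ⟨H.K_le (M.K.mul_mem (M.ι_mem c) hgK),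
    key x₁ k1, key x₂ k2⟩⟩
  have := (Cfsg.Agent.MonsterU.TwoQ.ind_ι (M := M) c).mul hg
  rwa [one_mul] at this

/-- Two elements of `ι P ∩ X` with commutator `z`. -/
theorem exists_ncomm (H : Hyp M Γ) {y : L2} (hy : ¬ InE p q k y) {c : P} (hc : clP L c = y) :
    ∃ d, M.ι d ∈ X M Γ x₁ x₂ ∧ d * c * d⁻¹ = M.zc * c := by
  by_contra hcon
  push Not at hcon
  apply hy
  apply perp_perp hP.pq hP.qk hP.pk
  intro w hw
  obtain ⟨d, rfl⟩ := clP_surjective L w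
  have h1 := hcon d ((ι_mem_X hP H).2 hw)
  rcases M.comm_or d c with h | h
  · rw [← hc, ← comm_iff_bf L]
    exact mul_inv_eq_iff_eq_mul.1 h
  · exact absurd h h1

/-- **The elements commuting with `ι P ∩ X`.** -/
theorem cenR (H : Hyp M Γ) {y : G} (hy : y ∈ Γ) (h : ∀ c, Pp p q k (clP L c) → y * M.ι c = M.ι c * y) :
    ∃ u, E4 x₁ x₂ u ∧ (y = M.ι u ∨ y = M.z * M.ι u) := by
  have hz : y * M.z = M.z * y := h M.zc (by
    rw [clP_zc]; exact ⟨Cfsg.Agent.MonsterU.Lam2.bf_zero_left _, Cfsg.Agent.MonsterU.Lam2.bf_zero_left _⟩)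
  have hyK := H.cent y hy hz
  obtain ⟨A, hA⟩ := ind_exists hyK
  obtain ⟨α, h1, h2⟩ := aut L hyK hA
  have hα : ∀ c, Pp p q k (clP L c) → A • clP L c = clP L c := by
    intro c hc
    have h3 := h c hc
    rw [h1] at h3
    have h4 : α c = c := ι_inj L (mul_right_cancel h3)
    rw [← h2, h4]
  have hyX : y ∈ X M Γ x₁ x₂ := mem_X.2 ⟨hy,
    h x₁ (by rw [hP.h₁]; exact perp_four hP (dd_coe p q)),
    h x₂ (by rw [hP.h₂]; exact perp_four hP (dd_coe q k))⟩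
  obtain ⟨a1, a2⟩ := fix_of_mem hP hyK hA hyX
  have hmk := mk_eq_one hP.pq hP.qk hP.pk a1 a2 (fun x hx => by
    obtain ⟨c, rfl⟩ := clP_surjective L x
    rw [hα c hx, add_self]; exact Or.inl rfl)
  obtain ⟨c, rfl⟩ := (Ind_mem_iff hyK hA).2 hmk
  have hc : InE p q k (clP L c) := by
    apply perp_perp hP.pq hP.qk hP.pk
    intro w hw
    obtain ⟨d, rfl⟩ := clP_surjective L w
    have h3 := h d hw
    rw [← map_mul, ← map_mul] at h3
    rw [← comm_iff_bf L]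
    exact (ι_inj L h3).symm
  obtain ⟨u, hu, e | e⟩ := exists_E4 hP hc
  · exact ⟨u, hu, Or.inl (by rw [e])⟩
  · exact ⟨u, hu, Or.inr (by rw [e, map_mul]; rfl)⟩

/-- **cen** -/
theorem cen (H : Hyp M Γ) (hF : Fus M Γ x₁ x₂) {y : G} (hy : y ∈ Γ)
    (h : ∀ m ∈ X M Γ x₁ x₂, y * m = m * y) : ∃ u, E4 x₁ x₂ u ∧ y = M.ι u := by
  obtain ⟨u, hu, e | e⟩ := cenR hP H hy (fun c hc => h _ ((ι_mem_X hP H).2 hc))
  · exact ⟨u, hu, e⟩
  · exfalso
    obtain ⟨g, hg, _, hgz⟩ := hF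
    apply hgz
    have h1 := h g hg
    have h2 := comm_E4 hP hu hg
    rw [e] at h1
    have h3 : M.z * M.ι u * g = M.z * g * M.ι u := by rw [mul_assoc, ← h2, mul_assoc]
    rw [h3, ← mul_assoc] at h1
    have h4 := mul_right_cancel h1
    rw [← h4, mul_inv_cancel_right]

end

end Cfsg.Agent.MonsterN.BigA
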