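import Cfsg.Agent.MonsterN.FusPair
import Cfsg.Agent.MonsterU.InvTwoLat
import Cfsg.Agent.MonsterU.CloseFacts

/-!
# A frame-like configuration of short vectors

`Quad o b₁ b₂ b₃ b₄`: five short vectors with all inner products `16`, and the class of
`o + (b₁ - b₂ + (b₃ - b₄))` modulo `2Λ` is of type `4`.  It exists for every short vector `o`.
-/

set_option autoImplicit false

namespace Cfsg.Agent.MonsterN.FusQuad

open Cfsg Cfsg.Agent.LeechMat.Core Cfsg.Agent.MonsterX.KSide Cfsg.Agent.MonsterX.KLift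
open Cfsg.Agent.MonsterU.Lam2 Cfsg.Agent.MonsterU.TwoCls
open Cfsg.Agent.MonsterU.InvTwoLat
open Cfsg.Agent.Leech.Code
open Cfsg.Agent.Leech.Basic (chi chi_mem chi_not_mem sum_chi)

/-- The configuration. -/
structure Quad (o b₁ b₂ b₃ b₄ : leechLattice) : Prop where
  no : nrm o = 32
  n₁ : nrm b₁ = 32
  n₂ : nrm b₂ = 32
  n₃ : nrm b₃ = 32
  n₄ : nrm b₄ = 32
  o₁ : dot o b₁ = 16
  o₂ : dot o b₂ = 16
  o₃ : dot o b₃ = 16
  o₄ : dot o b₄ = 16
  e12 : dot b₁ b₂ = 16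
  e13 : dot b₁ b₃ = 16
  e14 : dot b₁ b₄ = 16
  e23 : dot b₂ b₃ = 16
  e24 : dot b₂ b₄ = 16
  e34 : dot b₃ b₄ = 16
  ty : IsType 4 (cl (o + (b₁ - b₂ + (b₃ - b₄))))

theorem dot_smul' (g : Co0) (v w : leechLattice) : dot (g • v) (g • w) = dot v w :=
  Cfsg.Agent.MonsterX.Lat.dot_smul g v w

theorem nrm_smul' (g : Co0) (v : leechLattice) : nrm (g • v) = nrm v :=
  Cfsg.Agent.MonsterX.Lat.nrm_smul g v

theorem Quad.smul {o b₁ b₂ b₃ b₄ : leechLattice} (h : Quad o b₁ b₂ b₃ b₄) (g : Co0) :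
    Quad (g • o) (g • b₁) (g • b₂) (g • b₃) (g • b₄) where
  no := by rw [nrm_smul', h.no]
  n₁ := by rw [nrm_smul', h.n₁]
  n₂ := by rw [nrm_smul', h.n₂]
  n₃ := by rw [nrm_smul', h.n₃]
  n₄ := by rw [nrm_smul', h.n₄]
  o₁ := by rw [dot_smul', h.o₁]
  o₂ := by rw [dot_smul', h.o₂]
  o₃ := by rw [dot_smul', h.o₃]
  o₄ := by rw [dot_smul', h.o₄]
  e12 := by rw [dot_smul', h.e12]
  e13 := by rw [dot_smul', h.e13]
  e14 := by rw [dot_smul', h.e14]
  e23 := by rw [dot_smul', h.e23]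
  e24 := by rw [dot_smul', h.e24]
  e34 := by rw [dot_smul', h.e34]
  ty := by
    have h1 := h.ty.smul g
    rw [smul_cl, co0_smul_add, co0_smul_add, Cfsg.Agent.SporadicStructure.Co0Base.co0_smul_sub,
      Cfsg.Agent.SporadicStructure.Co0Base.co0_smul_sub] at h1
    exact h1

/-! ### Coordinates -/

theorem dot_pr {i j : GolayPt} (hij : i ≠ j) (x : leechLattice) :
    dot (pr i j) x = 4 * ((x : GolayPt → ℤ) i + (x : GolayPt → ℤ) j) := by
  show dotInt _ _ = _
  unfold dotInt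
  have h : ∀ k, ((pr i j : leechLattice) : GolayPt → ℤ) k * (x : GolayPt → ℤ) k =
      (if k = i then 4 * (x : GolayPt → ℤ) k else 0) + (if k = j then 4 * (x : GolayPt → ℤ) k else 0) := by
    intro k
    rw [pr_coe]
    by_cases h1 : k = i
    · have h2 : ¬ k = j := fun e => hij (h1 ▸ e)
      rw [if_pos h1, if_pos h1, if_neg h2, if_neg h2]; ring
    · by_cases h2 : k = j
      · rw [if_neg h1, if_neg h1, if_pos h2, if_pos h2]; ring
      · rw [if_neg h1, if_neg h1, if_neg h2, if_neg h2]; ring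
  rw [Finset.sum_congr rfl fun k _ => h k, Finset.sum_add_distrib, Finset.sum_ite_eq', Finset.sum_ite_eq']
  simp only [Finset.mem_univ, if_true]
  ring

theorem pr_left (i j : GolayPt) (hij : i ≠ j) : ((pr i j : leechLattice) : GolayPt → ℤ) i = 4 := by
  rw [pr_coe, if_pos rfl, if_neg hij]; norm_num

theorem pr_right (i j : GolayPt) (hij : i ≠ j) : ((pr i j : leechLattice) : GolayPt → ℤ) j = 4 := by
  rw [pr_coe, if_neg (Ne.symm hij), if_pos rfl]; norm_num

theorem pr_out {i j k : GolayPt} (h1 : k ≠ i) (h2 : k ≠ j) : ((pr i j : leechLattice) : GolayPt → ℤ) k = 0 := by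
  rw [pr_coe, if_neg h1, if_neg h2]; norm_num

theorem dot_pr_pr {p i j : GolayPt} (hpi : p ≠ i) (hpj : p ≠ j) (hij : i ≠ j) :
    dot (pr p i) (pr p j) = 16 := by
  rw [dot_pr hpi, pr_left p j hpj, pr_out hpi.symm hij]; norm_num

theorem nrm_pr {i j : GolayPt} (hij : i ≠ j) : nrm (pr i j) = 32 := by
  rw [← KS.dot_self, dot_pr hij, pr_left i j hij, pr_right i j hij]; norm_num

theorem exists_base : ∃ o b₁ b₂ b₃ b₄, Quad o b₁ b₂ b₃ b₄ := by
  -- an octad
  obtain ⟨O, hO⟩ : ∃ O, O ∈ octads := by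
    have h := steiner
    obtain ⟨S, hS⟩ : ∃ S : Finset GolayPt, S.card = 5 := by
      obtain ⟨S, _, hS⟩ := Finset.exists_subset_card_eq
        (s := (Finset.univ : Finset GolayPt)) (n := 5) (by rw [Finset.card_univ, card_golayPt]; norm_num)
      exact ⟨S, hS⟩
    obtain ⟨o, ho, -⟩ := h.2 S hS
    exact ⟨o, ho.1⟩
  classical
  have hO8 : O.card = 8 := hO.2
  have hOW : O ∈ Words := hO.1
  let e : Fin 8 → GolayPt := fun k => ((Finset.equivFinOfCardEq hO8).symm k : GolayPt)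
  have einj : Function.Injective e := fun k l h =>
    (Finset.equivFinOfCardEq hO8).symm.injective (Subtype.ext h)
  have emem : ∀ k, e k ∈ O := fun k => ((Finset.equivFinOfCardEq hO8).symm k).2
  have esurj : ∀ i ∈ O, ∃ k, i = e k := fun i hi =>
    ⟨Finset.equivFinOfCardEq hO8 ⟨i, hi⟩, by
      show i = (((Finset.equivFinOfCardEq hO8).symm (Finset.equivFinOfCardEq hO8 ⟨i, hi⟩) : O) : GolayPt)
      rw [Equiv.symm_apply_apply]⟩
  obtain ⟨r, hr⟩ := Cfsg.Agent.Leech.Trans.exists_notMem O (by rw [hO8]; norm_num)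
  have hre : ∀ k, r ≠ e k := fun k h => hr (h ▸ emem k)
  have her : ∀ k, e k ≠ r := fun k h => hr (h ▸ emem k)
  have ne : ∀ {k l : Fin 8}, k ≠ l → e k ≠ e l := fun h h' => h (einj h')
  have n01 : e 0 ≠ e 1 := ne (by decide)
  have n02 : e 0 ≠ e 2 := ne (by decide)
  have n03 : e 0 ≠ e 3 := ne (by decide)
  have n04 : e 0 ≠ e 4 := ne (by decide)
  have n12 : e 1 ≠ e 2 := ne (by decide)
  have n13 : e 1 ≠ e 3 := ne (by decide)
  have n14 : e 1 ≠ e 4 := ne (by decide)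
  have n23 : e 2 ≠ e 3 := ne (by decide)
  have n24 : e 2 ≠ e 4 := ne (by decide)
  have n34 : e 3 ≠ e 4 := ne (by decide)
  refine ⟨pr (e 0) (e 1), pr (e 0) (e 2), pr (e 0) (e 3), pr (e 0) (e 4), pr (e 0) r,
    nrm_pr n01, nrm_pr n02, nrm_pr n03, nrm_pr n04, nrm_pr (her 0),
    dot_pr_pr n01 n02 n12, dot_pr_pr n01 n03 n13, dot_pr_pr n01 n04 n14, dot_pr_pr n01 (her 0) (her 1),
    dot_pr_pr n02 n03 n23, dot_pr_pr n02 n04 n24, dot_pr_pr n02 (her 0) (her 2),
    dot_pr_pr n03 n04 n34, dot_pr_pr n03 (her 0) (her 3), dot_pr_pr n04 (her 0) (her 4), ?_⟩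
  -- the vector `2χ_O` with two signs changed
  let f : GolayPt → ℤ := fun i => -(if i = e 3 then 1 else 0) - (if i = e 5 then 1 else 0)
  have hf : (2 : ℤ) ∣ ∑ i, f i := by
    simp only [f, Finset.sum_sub_distrib, Finset.sum_neg_distrib, Finset.sum_ite_eq', Finset.mem_univ, if_true]
    exact ⟨-1, by norm_num⟩
  let x : leechLattice := ⟨fun i => 2 * chi O i + 4 * f i, mem_form hOW f hf⟩
  set w : leechLattice := pr (e 0) (e 1) + (pr (e 0) (e 2) - pr (e 0) (e 3) + (pr (e 0) (e 4) - pr (e 0) r))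
    with hwdef
  have hcoe : ∀ i, ((w - 2 • x : leechLattice) : GolayPt → ℤ) i =
      ((pr (e 0) (e 1) : leechLattice) : GolayPt → ℤ) i + (((pr (e 0) (e 2) : leechLattice) : GolayPt → ℤ) i -
        ((pr (e 0) (e 3) : leechLattice) : GolayPt → ℤ) i + (((pr (e 0) (e 4) : leechLattice) : GolayPt → ℤ) i -
          ((pr (e 0) r : leechLattice) : GolayPt → ℤ) i)) - 2 * (2 * chi O i + 4 * f i) := by
    intro i
    rw [coe_sub, coe_two]
    rfl
  have hsq : ∀ i, (((w - 2 • x : leechLattice) : GolayPt → ℤ) i) ^ 2 =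
      16 * chi ({r, e 5, e 6, e 7} : Finset GolayPt) i := by
    intro i
    rw [hcoe i]
    by_cases hi : i ∈ O
    · obtain ⟨k, rfl⟩ := esurj i hi
      rw [chi_mem (emem k)]
      fin_cases k <;>
        simp [pr_coe, f, einj.eq_iff, her, chi, Finset.mem_insert, Finset.mem_singleton]
    · rw [chi_not_mem hi]
      have hk : ∀ k, i ≠ e k := fun k h => hi (h ▸ emem k)
      by_cases h : i = r
      · subst h
        simp [pr_coe, f, hk, chi]
      · simp [pr_coe, f, hk, chi, h]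
  refine ⟨w - 2 • x, ?_, ?_⟩
  · show ∑ i, (((w - 2 • x : leechLattice) : GolayPt → ℤ) i) ^ 2 = _
    rw [Finset.sum_congr rfl fun i _ => hsq i, ← Finset.mul_sum, sum_chi]
    have hc : ({r, e 5, e 6, e 7} : Finset GolayPt).card = 4 := by
      rw [Finset.card_insert_of_notMem, Finset.card_insert_of_notMem, Finset.card_pair]
      · exact ne (by decide)
      · simp [einj.eq_iff]
      · simp [hre]
    rw [hc]
    norm_num
  · rw [map_sub, cl_two, sub_zero]

theorem exists_quad (o : leechLattice) (ho : nrm o = 32) : ∃ b₁ b₂ b₃ b₄, Quad o b₁ b₂ b₃ b₄ := by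
  obtain ⟨o', b₁, b₂, b₃, b₄, h⟩ := exists_base
  obtain ⟨g, hg⟩ := Cfsg.Agent.Leech.Trans.co0_transitive_min o' o h.no ho
  refine ⟨g • b₁, g • b₂, g • b₃, g • b₄, ?_⟩
  have h1 := h.smul g
  rwa [hg] at h1

end Cfsg.Agent.MonsterN.FusQuad
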