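import Cfsg.Agent.MonsterX.KLift
import Cfsg.Prelude.Def_Sporadic

/-!
# No automorphism of `C_M(t) ∩ C_M(z)` interchanges `t` and `z`

`z` the central involution of the extraspecial group `Q = ι P` of the `K`-side of the Monster, `t = ι x₀` with `x₀` a
short element.  A map `σ` of `C(t) ∩ C(z)` as in the field `swap` of `FusionType.Facts` maps `C_Q(t)` into `C_Q(t)`
(the stabiliser `Co2` of a minimal vector is simple), but `z` is a commutator in `C_Q(t)` and `t` is not.
-/

set_option autoImplicit false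

namespace Cfsg.Agent.MonsterN.FusSwap

open Cfsg Cfsg.Agent.LeechMat.Core Cfsg.Agent.MonsterX.KSide Cfsg.Agent.MonsterX.KLift

/-- no automorphism of `C(t) ⊓ C(z)` interchanges `t` and `z` -/
def NoSwap {G : Type*} [Group G] (t z : G) : Prop :=
  ∀ σ : G → G, (∀ x, x * t = t * x → x * z = z * x → σ x * t = t * σ x ∧ σ x * z = z * σ x) →
    (∀ x y, x * t = t * x → x * z = z * x → y * t = t * y → y * z = z * y → σ (x * y) = σ x * σ y) →
    (∀ y, y * t = t * y → y * z = z * y → ∃ x, x * t = t * x ∧ x * z = z * x ∧ σ x = y) →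
    σ t = z → σ z = t → False

section general

variable {G : Type*} [Group G]

theorem comm_conj {a b : G} (g : G) (h : a * b = b * a) :
    g * a * g⁻¹ * (g * b * g⁻¹) = g * b * g⁻¹ * (g * a * g⁻¹) := by
  calc g * a * g⁻¹ * (g * b * g⁻¹) = g * (a * b) * g⁻¹ := by group
    _ = g * (b * a) * g⁻¹ := by rw [h]
    _ = _ := by group

theorem comm_conj' {a b : G} (g : G) (h : a * (g * b * g⁻¹) = g * b * g⁻¹ * a) :
    g⁻¹ * a * g * b = b * (g⁻¹ * a * g) := by
  calc g⁻¹ * a * g * b = g⁻¹ * (a * (g * b * g⁻¹)) * g := by group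
    _ = g⁻¹ * (g * b * g⁻¹ * a) * g := by rw [h]
    _ = _ := by group

/-- `NoSwap` is invariant under conjugation. -/
theorem NoSwap.conj {t z : G} (h : NoSwap t z) (g : G) : NoSwap (g * t * g⁻¹) (g * z * g⁻¹) := by
  intro σ h1 h2 h3 h4 h5
  refine h (fun x => g⁻¹ * σ (g * x * g⁻¹) * g) ?_ ?_ ?_ ?_ ?_
  · intro x hx hx'
    obtain ⟨e1, e2⟩ := h1 (g * x * g⁻¹) (comm_conj g hx) (comm_conj g hx')
    exact ⟨comm_conj' g e1, comm_conj' g e2⟩
  · intro x y hx hx' hy hy'
    have e := h2 (g * x * g⁻¹) (g * y * g⁻¹) (comm_conj g hx) (comm_conj g hx') (comm_conj g hy)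
      (comm_conj g hy')
    have e' : g * (x * y) * g⁻¹ = g * x * g⁻¹ * (g * y * g⁻¹) := by group
    show g⁻¹ * σ (g * (x * y) * g⁻¹) * g = _
    rw [e', e]
    group
  · intro y hy hy'
    obtain ⟨x, e1, e2, e3⟩ := h3 (g * y * g⁻¹) (comm_conj g hy) (comm_conj g hy')
    refine ⟨g⁻¹ * x * g, comm_conj' g e1, comm_conj' g e2, ?_⟩
    show g⁻¹ * σ (g * (g⁻¹ * x * g) * g⁻¹) * g = y
    have e' : g * (g⁻¹ * x * g) * g⁻¹ = x := by group
    rw [e', e3]
    group
  · show g⁻¹ * σ (g * t * g⁻¹) * g = z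
    rw [h4]; group
  · show g⁻¹ * σ (g * z * g⁻¹) * g = t
    rw [h5]; group

/-- The field `swap` of `FusionType.Facts` for `X ≃ C_G(φ t)`. -/
theorem NoSwap.swap {X : Type*} [Group X] (φ : X →* G) (hφ : Function.Injective φ) {t z : X}
    (cen : ∀ x : X, x * t = t * x) (hr : ∀ x : G, x * φ t = φ t * x → ∃ u, φ u = x)
    (h : NoSwap (φ t) (φ z)) (σ : X → X) (h1 : ∀ x, x * z = z * x → σ x * z = z * σ x)
    (h2 : ∀ x y, x * z = z * x → y * z = z * y → σ (x * y) = σ x * σ y)
    (h3 : ∀ y, y * z = z * y → ∃ x, x * z = z * x ∧ σ x = y) (h4 : σ t = z) (h5 : σ z = t) :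
    False := by
  classical
  obtain ⟨τ, hτ⟩ : ∃ τ : G → G, ∀ x : X, τ (φ x) = φ (σ x) := by
    refine ⟨fun g => if h : ∃ x, φ x = g then φ (σ h.choose) else 1, fun x => ?_⟩
    have hx : ∃ y, φ y = φ x := ⟨x, rfl⟩
    have e : hx.choose = x := hφ hx.choose_spec
    show (if h : ∃ y, φ y = φ x then φ (σ h.choose) else 1) = φ (σ x)
    rw [dif_pos hx, e]
  have lift : ∀ g : G, g * φ t = φ t * g → g * φ z = φ z * g → ∃ u, u * z = z * u ∧ φ u = g := by
    intro g e1 e2
    obtain ⟨u, rfl⟩ := hr g e1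
    exact ⟨u, hφ (by rw [map_mul, map_mul, e2]), rfl⟩
  refine h τ ?_ ?_ ?_ ?_ ?_
  · intro g e1 e2
    obtain ⟨u, hu, rfl⟩ := lift g e1 e2
    rw [hτ]
    refine ⟨by rw [← map_mul, cen, map_mul], ?_⟩
    rw [← map_mul, h1 u hu, map_mul]
  · intro g g' e1 e2 e1' e2'
    obtain ⟨u, hu, rfl⟩ := lift g e1 e2
    obtain ⟨u', hu', rfl⟩ := lift g' e1' e2'
    rw [← map_mul, hτ, hτ, hτ, h2 u u' hu hu', map_mul]
  · intro g e1 e2
    obtain ⟨u, hu, rfl⟩ := lift g e1 e2
    obtain ⟨w, hw, hwu⟩ := h3 u hu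
    refine ⟨φ w, by rw [← map_mul, cen, map_mul], by rw [← map_mul, hw, map_mul], ?_⟩
    rw [hτ, hwu]
  · rw [hτ, h4]
  · rw [hτ, h5]

end general

section model

variable {G V P W : Type*} [Group G] [AddCommGroup V] [Module ℚ V]
  [DistribMulAction G V] [SMulCommClass G ℚ V] [Group P] [AddCommGroup W] [Module ℚ W]
variable {M : KS G V P W} {θ : leechLattice → P}

theorem inj (L : Lift M θ) : Function.Injective M.ι :=
  M.ι_injective (fun p hp => L.center p (fun y => mul_inv_eq_iff_eq_mul.1 (hp y)))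

theorem comm_or' (M : KS G V P W) (a b : P) : a * b = b * a ∨ a * b = M.zc * (b * a) := by
  rcases M.comm_or a b with h | h
  · left; exact mul_inv_eq_iff_eq_mul.1 h
  · right
    rw [← mul_assoc]
    exact mul_inv_eq_iff_eq_mul.1 h

theorem x_ne (L : Lift M θ) {x : P} (hx : x ∈ M.Sh) : x ≠ 1 ∧ x ≠ M.zc := by
  obtain ⟨q, hq⟩ := exists_flip L x hx
  constructor
  · rintro rfl
    apply M.zc_ne
    rw [← mul_one M.zc, ← hq]
    group
  · rintro rfl
    apply M.zc_ne
    rw [M.zc_mul, ← M.zc_comm, mul_inv_cancel_right] at hq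
    exact hq

/-- There are two elements of `C_P(x)` with commutator `zc`. -/
theorem exists_pair (L : Lift M θ) {x : P} (hx : x ∈ M.Sh) :
    ∃ r s : P, r * x = x * r ∧ s * x = x * s ∧ r * s = M.zc * (s * r) := by
  classical
  by_contra hcon
  push Not at hcon
  have hab : ∀ r s : P, r * x = x * r → s * x = x * s → r * s = s * r := fun r s hr hs =>
    (comm_or' M r s).resolve_right (hcon r s hr hs)
  obtain ⟨y, hy⟩ := exists_flip L x hx
  have hyx : y * x = M.zc * (x * y) := by
    rw [← mul_assoc]; exact mul_inv_eq_iff_eq_mul.1 hy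
  -- an element anticommuting with `x`
  have anti : ∀ p : P, ¬ p * x = x * p → (y * p) * x = x * (y * p) := by
    intro p hp
    have hp' := (comm_or' M p x).resolve_left hp
    calc (y * p) * x = y * (p * x) := by group
      _ = y * (M.zc * (x * p)) := by rw [hp']
      _ = y * M.zc * (x * p) := by group
      _ = M.zc * y * (x * p) := by rw [← M.zc_comm]
      _ = M.zc * (y * x) * p := by group
      _ = M.zc * (M.zc * (x * y)) * p := by rw [hyx]
      _ = (x * y) * p := by rw [M.zc_zc]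
      _ = _ := by group
  -- every element commuting with `x` and `y` is central
  have hcc : ∀ c : P, c * x = x * c → c * y = y * c → c = 1 ∨ c = M.zc := by
    intro c hc hcy
    refine L.center c fun p => ?_
    by_cases hp : p * x = x * p
    · exact hab c p hc hp
    · have h1 := hab c (y * p) hc (anti p hp)
      have h2 : y * (c * p) = y * (p * c) := by
        calc y * (c * p) = (y * c) * p := by group
          _ = (c * y) * p := by rw [hcy]
          _ = c * (y * p) := by group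
          _ = (y * p) * c := h1
          _ = _ := by group
      exact mul_left_cancel h2
  have h4 : ∀ c : P, c * x = x * c → c ∈ ({1, M.zc, x⁻¹, M.zc * x⁻¹} : Finset P) := by
    intro c hc
    simp only [Finset.mem_insert, Finset.mem_singleton]
    rcases comm_or' M c y with h | h
    · rcases hcc c hc h with h | h
      · exact Or.inl h
      · exact Or.inr (Or.inl h)
    · have h1 : (c * x) * x = x * (c * x) := by
        calc (c * x) * x = (x * c) * x := by rw [hc]
          _ = _ := by group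
      have h2 : (c * x) * y = y * (c * x) := by
        have e1 : x * y = M.zc * (y * x) := by
          rw [hyx, M.zc_zc]
        calc (c * x) * y = c * (x * y) := by group
          _ = c * (M.zc * (y * x)) := by rw [e1]
          _ = c * M.zc * (y * x) := by group
          _ = M.zc * c * (y * x) := by rw [← M.zc_comm]
          _ = M.zc * (c * y) * x := by group
          _ = M.zc * (M.zc * (y * c)) * x := by rw [h]
          _ = (y * c) * x := by rw [M.zc_zc]
          _ = _ := by group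
      rcases hcc _ h1 h2 with h3 | h3
      · right; right; left
        exact eq_inv_of_mul_eq_one_left h3
      · right; right; right
        exact eq_mul_inv_of_mul_eq h3
  have h8 : ∀ p : P, p ∈ ({1, M.zc, x⁻¹, M.zc * x⁻¹} : Finset P) ∪
      (({1, M.zc, x⁻¹, M.zc * x⁻¹} : Finset P).image fun c => y⁻¹ * c) := by
    intro p
    rw [Finset.mem_union, Finset.mem_image]
    by_cases hp : p * x = x * p
    · exact Or.inl (h4 p hp)
    · exact Or.inr ⟨y * p, h4 _ (anti p hp), by group⟩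
  have hfin : Finite P := Nat.finite_of_card_ne_zero (by rw [L.card]; norm_num)
  have hft : Fintype P := Fintype.ofFinite P
  have h9 : Nat.card P ≤ 8 := by
    rw [Nat.card_eq_fintype_card, ← Finset.card_univ]
    refine (Finset.card_le_card (fun p _ => h8 p)).trans ?_
    refine (Finset.card_union_le _ _).trans ?_
    have e1 : (({1, M.zc, x⁻¹, M.zc * x⁻¹} : Finset P)).card ≤ 4 := Finset.card_le_four
    have e2 := (Finset.card_image_le (s := ({1, M.zc, x⁻¹, M.zc * x⁻¹} : Finset P))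
      (f := fun c => y⁻¹ * c))
    omega
  rw [L.card] at h9
  norm_num at h9

/-- Elements of `C_K(t)` act on the lattice through the stabiliser of the minimal vector. -/
theorem exists_A (L : Lift M θ) (hneg : ∃ A : Co0, ∀ v : leechLattice, A • v = -v) {x : P}
    (hx : x ∈ M.Sh) {k : G} (hk : k ∈ M.K) (hkt : k * M.ι x = M.ι x * k) :
    ∃ A : Co0, A • M.lam x = M.lam x ∧ ∀ w, k • M.u w = M.u (A • w) := by
  obtain ⟨A, α, T, hA⟩ := M.acts k hk
  have h1 := conj_ι hA x
  rw [hkt] at h1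
  have h2 : x = α x := inj L (mul_right_cancel h1)
  rcases hA.act_lam x hx with h3 | h3
  · rw [← h2] at h3
    exact ⟨A, h3.symm, hA.act_u⟩
  · rw [← h2] at h3
    obtain ⟨B, hB⟩ := hneg
    refine ⟨B * A, ?_, fun w => ?_⟩
    · rw [mul_smul, hB]; exact h3.symm
    · rw [mul_smul, hB, M.u_neg]; exact hA.act_u w

theorem exists_k (L : Lift M θ) {x : P} (hx : x ∈ M.Sh) {A : Co0} (hA : A • M.lam x = M.lam x) :
    ∃ k ∈ M.K, k * M.ι x = M.ι x * k ∧ ∀ w, k • M.u w = M.u (A • w) := by
  obtain ⟨k, hk, α, T, A', hA', hpm⟩ := exists_acts M A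
  have hu : ∀ w, k • M.u w = M.u (A • w) := by
    intro w
    rw [hA'.act_u]
    rcases hpm w with h | h
    · rw [h]
    · rw [h, M.u_neg]
  have h1 : M.lam (α x) = M.lam x ∨ M.lam (α x) = -M.lam x := by
    rcases hA'.act_lam x hx with h | h <;> rcases hpm (M.lam x) with h' | h' <;>
      rw [h, h', hA]
    · exact Or.inl rfl
    · exact Or.inr rfl
    · exact Or.inr rfl
    · left; rw [neg_neg]
  rcases M.lam_inj x hx (α x) (hA'.act_sh x hx) h1 with h2 | h2
  · refine ⟨k, hk, ?_, hu⟩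
    rw [conj_ι hA' x, h2]
  · obtain ⟨q, hq⟩ := exists_flip L x hx
    refine ⟨M.ι q⁻¹ * k, M.K.mul_mem (M.ι_mem _) hk, ?_, fun w => ?_⟩
    · have e1 : q⁻¹ * (M.zc * x) = x * q⁻¹ := by rw [← hq]; group
      calc M.ι q⁻¹ * k * M.ι x = M.ι q⁻¹ * (k * M.ι x) := mul_assoc _ _ _
        _ = M.ι q⁻¹ * (M.ι (α x) * k) := by rw [conj_ι hA' x]
        _ = M.ι (q⁻¹ * (M.zc * x)) * k := by rw [h2, map_mul M.ι q⁻¹, mul_assoc]
        _ = M.ι (x * q⁻¹) * k := by rw [e1]
        _ = M.ι x * (M.ι q⁻¹ * k) := by rw [map_mul, mul_assoc]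
    · rw [mul_smul, hu, M.ι_u]

/-- uniqueness of the lattice automorphism -/
theorem A_unique {v : leechLattice} (hv : nrm v = 32) {k : G} {A A' : Co0} (hA : A • v = v)
    (hA' : A' • v = v) (h : ∀ w, k • M.u w = M.u (A • w)) (h' : ∀ w, k • M.u w = M.u (A' • w)) :
    A = A' := by
  have h1 : ∀ w, M.u ((A⁻¹ * A') • w) = M.u w := by
    intro w
    have e1 : k • M.u ((A⁻¹ * A') • w) = k • M.u w := by
      rw [h, mul_smul, smul_inv_smul, ← h']
    have e2 := congrArg (k⁻¹ • ·) e1
    simpa using e2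
  rcases M.pm_of_u _ h1 with h2 | h2
  · have h3 : ∀ w : leechLattice, A' • w = A • w := by
      intro w
      have := h2 w
      rw [mul_smul, inv_smul_eq_iff] at this
      exact this
    apply Subtype.ext
    apply Equiv.ext
    intro w
    exact (h3 w).symm
  · exfalso
    have h3 := h2 v
    rw [mul_smul, hA', inv_smul_eq_iff, co0_smul_neg, hA] at h3
    -- `v = -v`
    have h4 : nrm (v + v) = 0 := by
      have : v + v = 0 := by nth_rewrite 2 [h3]; exact add_neg_cancel v
      rw [this]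
      show sqNorm ((0 : leechLattice) : GolayPt → ℤ) = 0
      simp [sqNorm]
    have h5 : nrm (v + v) = 4 * nrm v := by
      show sqNorm ((v + v : leechLattice) : GolayPt → ℤ) = 4 * sqNorm (v : GolayPt → ℤ)
      have : ((v + v : leechLattice) : GolayPt → ℤ) = (2 : ℤ) • (v : GolayPt → ℤ) := by
        rw [two_smul]; rfl
      rw [this, sqNorm_smul]; norm_num
    rw [h5, hv] at h4
    norm_num at h4

theorem noSwap (L : Lift M θ) (hcent : ∀ g : G, g * M.z = M.z * g → g ∈ M.K)
    (hCo2 : ∀ v : leechLattice, sqNorm (v : GolayPt → ℤ) = 32 →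
      IsCo2 (MulAction.stabilizer Co0 v))
    (hneg : ∃ A : Co0, ∀ v : leechLattice, A • v = -v) {x : P} (hx : x ∈ M.Sh) :
    NoSwap (M.ι x) M.z := by
  intro σ h1 h2 h3 h4 h5
  have hι := inj L
  have hzι : ∀ p : P, M.ι p * M.z = M.z * M.ι p := by
    intro p
    show M.ι p * M.ι M.zc = M.ι M.zc * M.ι p
    rw [← map_mul, ← map_mul, M.zc_comm]
  have hc : ∀ {p : P}, p * x = x * p → M.ι p * M.ι x = M.ι x * M.ι p := by
    intro p hp
    rw [← map_mul, ← map_mul, hp]
  -- `K` centralises `z`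
  have hKz : ∀ k ∈ M.K, k * M.z = M.z * k := by
    intro k hk
    obtain ⟨A, α, T, hA⟩ := M.acts k hk
    have e := conj_ι hA M.zc
    rw [α_zc L α] at e
    exact e
  have hσ1 : σ 1 = 1 := by
    have e := h2 1 1 (by rw [one_mul, mul_one]) (by rw [one_mul, mul_one])
      (by rw [one_mul, mul_one]) (by rw [one_mul, mul_one])
    rw [mul_one] at e
    exact (mul_eq_left.1 e.symm)
  obtain ⟨v, hv⟩ : ∃ v, v = M.lam x := ⟨_, rfl⟩
  have hvn : nrm v = 32 := by rw [hv]; exact M.lam_norm x hx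
  -- the image of `σ (C_Q(t))` in the stabiliser
  let N : Subgroup (MulAction.stabilizer Co0 v) :=
    { carrier := {A | ∃ r : P, r * x = x * r ∧ ∀ w, σ (M.ι r) • M.u w = M.u ((A : Co0) • w)}
      mul_mem' := by
        rintro A B ⟨r, hr, hrA⟩ ⟨s, hs, hsB⟩
        refine ⟨r * s, by rw [mul_assoc, hs, ← mul_assoc, hr, mul_assoc], fun w => ?_⟩
        rw [map_mul, h2 _ _ (hc hr) (hzι r) (hc hs) (hzι s), mul_smul, hsB, hrA]
        show _ = M.u (((A : Co0) * (B : Co0)) • w)
        rw [mul_smul]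
      one_mem' := by
        refine ⟨1, by rw [one_mul, mul_one], fun w => ?_⟩
        rw [map_one, hσ1, one_smul]
        show M.u w = M.u ((1 : Co0) • w)
        rw [one_smul]
      inv_mem' := by
        rintro A ⟨r, hr, hrA⟩
        have hr' : r⁻¹ * x = x * r⁻¹ := by
          rw [inv_mul_eq_iff_eq_mul, ← mul_assoc, hr, mul_inv_cancel_right]
        refine ⟨r⁻¹, hr', fun w => ?_⟩
        have e : σ (M.ι r⁻¹) = (σ (M.ι r))⁻¹ := by
          apply eq_inv_of_mul_eq_one_left
          rw [← h2 _ _ (hc hr') (hzι _) (hc hr) (hzι r), ← map_mul, inv_mul_cancel, map_one, hσ1]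
        rw [e, inv_smul_eq_iff, hrA]
        show M.u w = M.u ((A : Co0) • ((A : Co0)⁻¹ • w))
        rw [smul_inv_smul] }
  have hN : ∀ A : MulAction.stabilizer Co0 v, A ∈ N ↔
      ∃ r : P, r * x = x * r ∧ ∀ w, σ (M.ι r) • M.u w = M.u ((A : Co0) • w) := fun A => Iff.rfl
  have hst : ∀ A : MulAction.stabilizer Co0 v, (A : Co0) • v = v := fun A => A.2
  have hnorm : N.Normal := by
    constructor
    rintro A ⟨r, hr, hrA⟩ B
    obtain ⟨k, hk, hkt, hkB⟩ := exists_k L hx (A := (B : Co0)) (by rw [← hv]; exact hst B)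
    obtain ⟨k', hk't, hk'z, rfl⟩ := h3 k hkt (hKz k hk)
    have hk'K := hcent k' hk'z
    obtain ⟨A₂, α, T, hA₂⟩ := M.acts k' hk'K
    have hαx : α x = x := by
      have e := conj_ι hA₂ x
      rw [hk't] at e
      exact (hι (mul_right_cancel e)).symm
    have hcj : M.ι (α r) = k' * M.ι r * k'⁻¹ := by
      rw [conj_ι hA₂ r, mul_inv_cancel_right]
    have hαr : α r * x = x * α r := by
      nth_rewrite 1 [← hαx]
      rw [← map_mul, hr, map_mul, hαx]
    refine ⟨α r, hαr, fun w => ?_⟩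
    have hk'i1 : k'⁻¹ * M.ι x = M.ι x * k'⁻¹ := by
      rw [inv_mul_eq_iff_eq_mul, ← mul_assoc, hk't, mul_inv_cancel_right]
    have hk'i2 : k'⁻¹ * M.z = M.z * k'⁻¹ := by
      rw [inv_mul_eq_iff_eq_mul, ← mul_assoc, hk'z, mul_inv_cancel_right]
    have e : σ (M.ι (α r)) * σ k' = σ k' * σ (M.ι r) := by
      rw [← h2 _ _ (hc hαr) (hzι _) hk't hk'z, ← h2 _ _ hk't hk'z (hc hr) (hzι r), hcj,
        inv_mul_cancel_right]
    have e2 : ∀ w, σ (M.ι (α r)) • M.u ((B : Co0) • w) = M.u ((B : Co0) • (A : Co0) • w) := by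
      intro w
      rw [← hkB, ← mul_smul, e, mul_smul, hrA, hkB]
    have e3 := e2 ((B : Co0)⁻¹ • w)
    rw [smul_inv_smul] at e3
    rw [e3]
    show _ = M.u (((B : Co0) * (A : Co0) * (B : Co0)⁻¹) • w)
    rw [mul_smul, mul_smul]
  have hp : IsPGroup 2 N := by
    rintro ⟨A, r, hr, hrA⟩
    refine ⟨2, ?_⟩
    apply Subtype.ext
    apply Subtype.ext
    show ((A : Co0)) ^ 2 ^ 2 = 1
    have hr4 : r * r * (r * r) = 1 := by
      rcases L.sq r with h | h <;> rw [h]
      · exact mul_one 1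
      · exact M.zc_mul
    have hrr : (r * r) * x = x * (r * r) := by
      rw [mul_assoc, hr, ← mul_assoc, hr, mul_assoc]
    have es : σ (M.ι r) * σ (M.ι r) * (σ (M.ι r) * σ (M.ι r)) = 1 := by
      rw [← h2 _ _ (hc hr) (hzι r) (hc hr) (hzι r), ← map_mul,
        ← h2 _ _ (hc hrr) (hzι _) (hc hrr) (hzι _), ← map_mul, hr4, map_one, hσ1]
    have hA4 : ((A : Co0)) ^ 2 ^ 2 • v = v := by
      have e : ∀ n : ℕ, ((A : Co0)) ^ n • v = v := by
        intro n
        induction n with
        | zero => rw [pow_zero, one_smul]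
        | succ n ih => rw [pow_succ, mul_smul, hst A, ih]
      exact e _
    refine A_unique (M := M) hvn (k := 1) hA4 (one_smul _ _) (fun w => ?_) fun w => ?_
    · rw [← es, mul_smul, mul_smul, mul_smul, hrA, hrA, hrA, hrA]
      congr 1
    · rw [one_smul, one_smul]
  obtain ⟨hsimple, hcard⟩ := hCo2 v hvn
  have hbot : N = ⊥ := by
    rcases hnorm.eq_bot_or_eq_top with h | h
    · exact h
    · exfalso
      rw [h] at hp
      have hfin : Finite (MulAction.stabilizer Co0 v) :=
        Nat.finite_of_card_ne_zero (by rw [hcard]; norm_num)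
      obtain ⟨n, hn⟩ := (IsPGroup.iff_card (p := 2)).1 hp
      rw [Subgroup.card_top, hcard] at hn
      have h3d : 3 ∣ 2 ^ n := by rw [← hn]; norm_num
      have := (Nat.prime_three.dvd_of_dvd_pow h3d)
      omega
  -- so `σ` maps `C_Q(t)` into `Q`
  have key : ∀ r : P, r * x = x * r → ∃ a : P, σ (M.ι r) = M.ι a := by
    intro r hr
    obtain ⟨e1, e2⟩ := h1 _ (hc hr) (hzι r)
    have hK := hcent _ e2
    obtain ⟨A, hA, hAu⟩ := exists_A L hneg hx hK e1
    have hAv : A • v = v := by rw [hv]; exact hA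
    have hmem : (⟨A, hAv⟩ : MulAction.stabilizer Co0 v) ∈ N := ⟨r, hr, hAu⟩
    rw [hbot, Subgroup.mem_bot] at hmem
    have hA1 : A = 1 := congrArg Subtype.val hmem
    refine M.mem_ι_of_trivial _ hK fun w => ?_
    rw [hAu, hA1, one_smul]
  obtain ⟨r, s, hr, hs, hrs⟩ := exists_pair L hx
  obtain ⟨a, ha⟩ := key r hr
  obtain ⟨b, hb⟩ := key s hs
  have hzx : M.zc * x = x * M.zc := M.zc_comm x
  have hsr : (s * r) * x = x * (s * r) := by rw [mul_assoc, hr, ← mul_assoc, hs, mul_assoc]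
  have e : M.ι (a * b) = M.ι (x * (b * a)) := by
    rw [map_mul, map_mul, map_mul, ← ha, ← hb, ← h2 _ _ (hc hr) (hzι r) (hc hs) (hzι s),
      ← h2 _ _ (hc hs) (hzι s) (hc hr) (hzι r), ← map_mul, ← map_mul, hrs, map_mul,
      h2 _ _ (hc hzx) (hzι _) (hc hsr) (hzι _)]
    congr 1
  have e' := hι e
  have hxn := x_ne L hx
  rcases comm_or' M a b with h | h
  · rw [h] at e'
    exact hxn.1 (mul_eq_right.1 e'.symm)
  · rw [h] at e'
    exact hxn.2 (mul_right_cancel e').symm

end model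

end Cfsg.Agent.MonsterN.FusSwap
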