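import Cfsg.Agent.MonsterU.InvPairCls
import Cfsg.Agent.MonsterU.CloseLat
import Cfsg.Agent.MonsterN.FusQuad
import Cfsg.Agent.MonsterN.FusSwap
import Cfsg.Agent.MonsterN.FusionType
import Cfsg.Agent.S0402
import Cfsg.Agent.SporadicA.Co1Simple

/-!
# The fusion facts for the centralizer of a short element

`M : KS G V P W` the `K`-side of the Monster `G`, `t` a short element of `P`.  The group `X = C_G(ι t)` satisfies
`FusionType.Facts`, with `f₁, …, f₄` over the short vectors of a configuration `Quad o b₁ b₂ b₃ b₄`.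
-/

set_option autoImplicit false

namespace Cfsg.Agent.MonsterN.FusF2

open Cfsg Cfsg.Agent.LeechMat.Core Cfsg.Agent.MonsterX.KSide Cfsg.Agent.MonsterX.KLift
open Cfsg.Agent.MonsterX.FrameKS Cfsg.Agent.MonsterU.InvTwo
open Cfsg.Agent.MonsterU.Lam2 Cfsg.Agent.MonsterU.TwoCls
open Cfsg.Agent.MonsterN.FusQuad Cfsg.Agent.MonsterN.FusPair
open Cfsg.Agent.MonsterU.InvPair (trans_A trans_D classes case_frame not_zero_two not_two_four comm_of_sq)

/-! ### Lattice facts on a configuration -/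

section lattice

variable {o b₁ b₂ b₃ b₄ : leechLattice}

theorem dot_neg'' (v w : leechLattice) : dot v (-w) = -dot v w := Cfsg.Agent.MonsterU.InvPair.dot_neg v w

theorem nrm_neg'' (v : leechLattice) : nrm (-v) = nrm v := Cfsg.Agent.MonsterU.InvPair.norm_neg v

theorem dot_add_left' (a b c : leechLattice) : dot (a + b) c = dot a c + dot b c := by
  show dotInt _ _ = dotInt _ _ + dotInt _ _
  unfold dotInt
  rw [← Finset.sum_add_distrib]
  refine Finset.sum_congr rfl fun i _ => ?_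
  rw [AddSubgroup.coe_add, Pi.add_apply]
  ring

theorem dot_add_right' (a b c : leechLattice) : dot a (b + c) = dot a b + dot a c := by
  show dotInt _ _ = dotInt _ _ + dotInt _ _
  unfold dotInt
  rw [← Finset.sum_add_distrib]
  refine Finset.sum_congr rfl fun i _ => ?_
  rw [AddSubgroup.coe_add, Pi.add_apply]
  ring

theorem dot_comm' (a b : leechLattice) : dot a b = dot b a := by
  show dotInt _ _ = dotInt _ _
  unfold dotInt
  exact Finset.sum_congr rfl fun i _ => mul_comm _ _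

/-- the difference of two short vectors of inner product 16 is short -/
theorem nrm_sub16 {a b : leechLattice} (ha : nrm a = 32) (hb : nrm b = 32) (h : dot a b = 16) :
    nrm (a + -b) = 32 := by
  rw [dot_add_add, dot_neg'', nrm_neg'', ha, hb, h]; norm_num

theorem isType2 {v : leechLattice} (h : nrm v = 32) : IsType 2 (cl v) := ⟨v, by
  show nrm v = _
  rw [h]; norm_num, rfl⟩

theorem isType4 {v : leechLattice} (h : nrm v = 64) : IsType 4 (cl v) := ⟨v, by
  show nrm v = _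
  rw [h]; norm_num, rfl⟩

/-- type of the sum of the classes of two short vectors with inner product 16 -/
theorem ty2 {a b : leechLattice} (ha : nrm a = 32) (hb : nrm b = 32) (h : dot a b = 16) :
    IsType 2 (cl a + cl b) := by
  have := isType2 (nrm_sub16 ha hb h)
  rwa [map_add, cl_neg] at this

/-- type of the sum of the classes of three short vectors with inner products 16 -/
theorem ty3 {a b c : leechLattice} (ha : nrm a = 32) (hb : nrm b = 32) (hc : nrm c = 32)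
    (hab : dot a b = 16) (hac : dot a c = 16) (hbc : dot b c = 16) :
    IsType 4 (cl a + cl b + cl c) := by
  have h1 : nrm (a + b + -c) = 64 := by
    rw [dot_add_add, dot_add_add, dot_neg'', nrm_neg'', dot_add_left', ha, hb, hc, hab, hac, hbc]; norm_num
  have := isType4 h1
  rwa [map_add, map_add, cl_neg] at this

/-- type of the sum of the classes of four short vectors with inner products 16 -/
theorem ty4 {a b c d : leechLattice} (ha : nrm a = 32) (hb : nrm b = 32) (hc : nrm c = 32) (hd : nrm d = 32)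
    (hab : dot a b = 16) (hac : dot a c = 16) (had : dot a d = 16) (hbc : dot b c = 16) (hbd : dot b d = 16)
    (hcd : dot c d = 16) : IsType 4 (cl a + cl b + (cl c + cl d)) := by
  have h1 : nrm (a + b + -(c + d)) = 64 := by
    rw [dot_add_add, dot_add_add, dot_neg'', nrm_neg'', dot_add_add, dot_add_left', dot_add_right',
      dot_add_right', ha, hb, hc, hd, hab, hac, had, hbc, hbd, hcd]; norm_num
  have := isType4 h1
  rwa [map_add, map_add, cl_neg, map_add] at this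

end lattice

theorem not_zero_four : ¬ IsType 4 0 := by
  rintro ⟨v, hv, h⟩
  obtain ⟨r, rfl⟩ := cl_eq_zero.1 h
  rw [Cfsg.Agent.MonsterU.InvPair.norm_two] at hv
  rcases Cfsg.Agent.MonsterU.InvPair.norm_cases r with rfl | h1
  · rw [Cfsg.Agent.MonsterU.InvPair.norm_zero] at hv
    norm_num at hv
  · omega

/-! ### The group -/

variable {G V P W : Type*} [Group G] [AddCommGroup V] [Module ℚ V]
  [DistribMulAction G V] [SMulCommClass G ℚ V] [Group P] [AddCommGroup W] [Module ℚ W]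
  {M : KS G V P W} {θ : leechLattice → P} {τ : G} {y : P}

/-- What is used of the element `t`. -/
structure Hyp (M : KS G V P W) (θ : leechLattice → P) (τ : G) (y t : P) : Prop where
  L : Lift M θ
  H : TauHyp M θ ⊤ τ y
  fin : Finite G
  ht : t ∈ M.Sh
  hne : ¬ ∃ g, g * M.ι t * g⁻¹ = M.z
  hodd : ¬ 2 ∣ (M.K ⊓ Subgroup.centralizer {M.ι t}).relIndex (⊤ ⊓ Subgroup.centralizer {M.ι t})
  /-- an element of the class of `ι t` commuting with `z` is in `ι P` or its product with `z` is conjugate to `z` -/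
  hout : ∀ g : G, (g * M.ι t * g⁻¹) * M.z = M.z * (g * M.ι t * g⁻¹) →
    (∃ p, g * M.ι t * g⁻¹ = M.ι p) ∨ ∃ k, k * M.z * k⁻¹ = M.z * (g * M.ι t * g⁻¹)

/-- The short elements over a configuration. -/
structure Conf (M : KS G V P W) (L : Lift M θ) (t p₁ p₂ p₃ p₄ : P) : Prop where
  s₁ : IsType 2 (clP L p₁)
  s₂ : IsType 2 (clP L p₂)
  s₃ : IsType 2 (clP L p₃)
  s₄ : IsType 2 (clP L p₄)
  t₁ : IsType 2 (clP L t + clP L p₁)
  t₂ : IsType 2 (clP L t + clP L p₂)
  t₃ : IsType 2 (clP L t + clP L p₃)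
  t₄ : IsType 2 (clP L t + clP L p₄)
  s12 : IsType 2 (clP L p₁ + clP L p₂)
  s13 : IsType 2 (clP L p₁ + clP L p₃)
  s14 : IsType 2 (clP L p₁ + clP L p₄)
  s23 : IsType 2 (clP L p₂ + clP L p₃)
  s24 : IsType 2 (clP L p₂ + clP L p₄)
  s34 : IsType 2 (clP L p₃ + clP L p₄)
  t12 : IsType 4 (clP L t + clP L p₁ + clP L p₂)
  t13 : IsType 4 (clP L t + clP L p₁ + clP L p₃)
  t14 : IsType 4 (clP L t + clP L p₁ + clP L p₄)
  t23 : IsType 4 (clP L t + clP L p₂ + clP L p₃)
  t24 : IsType 4 (clP L t + clP L p₂ + clP L p₄)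
  t34 : IsType 4 (clP L t + clP L p₃ + clP L p₄)
  s123 : IsType 4 (clP L p₁ + clP L p₂ + clP L p₃)
  s124 : IsType 4 (clP L p₁ + clP L p₂ + clP L p₄)
  t123 : IsType 4 (clP L t + clP L p₁ + (clP L p₂ + clP L p₃))
  t124 : IsType 4 (clP L t + clP L p₁ + (clP L p₂ + clP L p₄))
  s1234 : IsType 4 (clP L p₁ + clP L p₂ + (clP L p₃ + clP L p₄))
  t1234 : IsType 4 (clP L t + (clP L p₁ + clP L p₂ + (clP L p₃ + clP L p₄)))

theorem exists_conf (L : Lift M θ) {t : P} (ht : t ∈ M.Sh) : ∃ p₁ p₂ p₃ p₄, Conf M L t p₁ p₂ p₃ p₄ := by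
  obtain ⟨o, ho, hoc⟩ := Cfsg.Agent.MonsterU.InvPair.exists_short L ht
  obtain ⟨b₁, b₂, b₃, b₄, h⟩ := exists_quad o ho
  obtain ⟨p₁, h₁⟩ := clP_surjective L (cl b₁)
  obtain ⟨p₂, h₂⟩ := clP_surjective L (cl b₂)
  obtain ⟨p₃, h₃⟩ := clP_surjective L (cl b₃)
  obtain ⟨p₄, h₄⟩ := clP_surjective L (cl b₄)
  refine ⟨p₁, p₂, p₃, p₄, ?_⟩
  constructor <;> simp only [hoc, h₁, h₂, h₃, h₄]
  · exact isType2 h.n₁
  · exact isType2 h.n₂
  · exact isType2 h.n₃
  · exact isType2 h.n₄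
  · exact ty2 h.no h.n₁ h.o₁
  · exact ty2 h.no h.n₂ h.o₂
  · exact ty2 h.no h.n₃ h.o₃
  · exact ty2 h.no h.n₄ h.o₄
  · exact ty2 h.n₁ h.n₂ h.e12
  · exact ty2 h.n₁ h.n₃ h.e13
  · exact ty2 h.n₁ h.n₄ h.e14
  · exact ty2 h.n₂ h.n₃ h.e23
  · exact ty2 h.n₂ h.n₄ h.e24
  · exact ty2 h.n₃ h.n₄ h.e34
  · exact ty3 h.no h.n₁ h.n₂ h.o₁ h.o₂ h.e12
  · exact ty3 h.no h.n₁ h.n₃ h.o₁ h.o₃ h.e13
  · exact ty3 h.no h.n₁ h.n₄ h.o₁ h.o₄ h.e14
  · exact ty3 h.no h.n₂ h.n₃ h.o₂ h.o₃ h.e23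
  · exact ty3 h.no h.n₂ h.n₄ h.o₂ h.o₄ h.e24
  · exact ty3 h.no h.n₃ h.n₄ h.o₃ h.o₄ h.e34
  · exact ty3 h.n₁ h.n₂ h.n₃ h.e12 h.e13 h.e23
  · exact ty3 h.n₁ h.n₂ h.n₄ h.e12 h.e14 h.e24
  · exact ty4 h.no h.n₁ h.n₂ h.n₃ h.o₁ h.o₂ h.o₃ h.e12 h.e13 h.e23
  · exact ty4 h.no h.n₁ h.n₂ h.n₄ h.o₁ h.o₂ h.o₄ h.e12 h.e14 h.e24
  · exact ty4 h.n₁ h.n₂ h.n₃ h.n₄ h.e12 h.e13 h.e14 h.e23 h.e24 h.e34
  · have := h.ty
    rw [map_add, map_add, cl_sub, cl_sub] at this
    exact this

/-! ### The facts -/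

section facts

variable {t : P}

theorem qf0_of_two {x : L2} (h : IsType 2 x) : qf x = 0 := Cfsg.Agent.MonsterU.CloseLat.qf_two h

theorem qf0_of_four {x : L2} (h : IsType 4 x) : qf x = 0 := Cfsg.Agent.MonsterU.CloseLat.qf_four h

/-- elements whose product is an involution commute -/
theorem comm_of_qf (L : Lift M θ) {p q : P} (hp : qf (clP L p) = 0) (hq : qf (clP L q) = 0)
    (hpq : qf (clP L p + clP L q) = 0) : p * q = q * p := by
  refine comm_of_sq L ((sq_iff_qf L p).2 hp) ((sq_iff_qf L q).2 hq) ((sq_iff_qf L (p * q)).2 ?_)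
  rw [clP_mul]; exact hpq

/-- the centralizer of `ι t` -/
abbrev B (M : KS G V P W) (t : P) : Subgroup G := Subgroup.centralizer ({M.ι t} : Set G)

theorem mem_B {g : G} : g ∈ B M t ↔ g * M.ι t = M.ι t * g := Subgroup.mem_centralizer_singleton_iff

theorem mem_B' {g : G} (h : g * M.ι t * g⁻¹ = M.ι t) : g ∈ B M t :=
  mem_B.2 (mul_inv_eq_iff_eq_mul.1 h)

theorem ι_mem_B {p : P} (h : p * t = t * p) : M.ι p ∈ B M t := by
  rw [mem_B, ← map_mul, h, map_mul]

/-- conjugacy in the centralizer -/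
theorem isConj_of {a b : B M t} {g : G} (h : g * M.ι t * g⁻¹ = M.ι t) (hab : g * (a : G) * g⁻¹ = b) :
    IsConj a b := isConj_iff.2 ⟨⟨g, mem_B' h⟩, Subtype.ext hab⟩

theorem z_mem : M.z ∈ B M t := by
  rw [mem_B]
  exact (Cfsg.Agent.MonsterU.TwoQ.z_comm_ι t).symm

variable (F : Hyp M θ τ y t)

include F

theorem Hyp.hne' : ¬ ∃ g ∈ (⊤ : Subgroup G), g * M.ι t * g⁻¹ = M.z :=
  fun ⟨g, _, h⟩ => F.hne ⟨g, h⟩

/-- A product `t p q` of type 4 with `p q` short is conjugate to `z`. -/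
theorem Hyp.frame {q : P} (h4 : IsType 4 (clP F.L (t * q))) (h2 : IsType 2 (clP F.L q)) :
    ∃ g, g * M.ι t * g⁻¹ = M.ι t ∧ g * M.ι (t * q) * g⁻¹ = M.z ∧ g * M.ι q * g⁻¹ = M.ι t * M.z := by
  have htt : t * t = 1 := F.L.sh_sq t F.ht
  have hc : t * q = q * t := by
    refine comm_of_qf F.L (qf0_of_two ((mem_Sh_iff F.L t).1 F.ht)) (qf0_of_two h2) ?_
    rw [← clP_mul]; exact qf0_of_four h4
  obtain ⟨g, -, h5, h6⟩ := case_frame F.L F.H F.ht F.hne' h4 (by
    rw [← mul_assoc, htt, one_mul]; exact h2) (by rw [mul_assoc, hc])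
  refine ⟨g, h5, h6, ?_⟩
  have e1 : M.ι q = M.ι t * M.ι (t * q) := by rw [← map_mul, ← mul_assoc, htt, one_mul]
  calc g * M.ι q * g⁻¹ = (g * M.ι t * g⁻¹) * (g * M.ι (t * q) * g⁻¹) := by rw [e1]; group
    _ = M.ι t * M.z := by rw [h5, h6]

/-- An element `q` of type 4 is conjugate to `z` in `G`. -/
theorem Hyp.four_z {q : P} (h4 : IsType 4 (clP F.L q)) : ∃ g, g * M.ι q * g⁻¹ = M.z := by
  obtain ⟨k, hk, hky⟩ := Cfsg.Agent.MonsterU.InvPair.conj_y F.L F.H h4
  refine ⟨τ⁻¹ * k, ?_⟩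
  calc τ⁻¹ * k * M.ι q * (τ⁻¹ * k)⁻¹ = τ⁻¹ * (k * M.ι q * k⁻¹) * τ := by group
    _ = M.z := by rw [hky, ← F.H.τ_z]; group

/-- **The product of two commuting conjugates `a`, `b` of `ι t`, with `x a`, `x b` conjugates of `ι t`, `x` a conjugate
of `ι t`, is not of type `2B` with `x a b` of type `2B`.** -/
theorem Hyp.aa {x a b : G} (hx : IsConj (M.ι t) x) (ha : IsConj (M.ι t) a) (hb : IsConj (M.ι t) b)
    (hxa : IsConj (M.ι t) (x * a)) (hxb : IsConj (M.ι t) (x * b)) (cxa : x * a = a * x)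
    (cxb : x * b = b * x) (cab : a * b = b * a) (hz : IsConj (a * b) M.z)
    (hxz : IsConj (x * (a * b)) M.z) : False := by
  obtain ⟨g, hg⟩ := isConj_iff.1 hz
  set x' := g * x * g⁻¹ with hx'
  set a' := g * a * g⁻¹ with ha'
  set b' := g * b * g⁻¹ with hb'
  have hab : a' * b' = M.z := by rw [← hg, ha', hb']; group
  have cx : ∀ {u v : G}, u * v = v * u → (g * u * g⁻¹) * (g * v * g⁻¹) = (g * v * g⁻¹) * (g * u * g⁻¹) := by
    intro u v h
    calc (g * u * g⁻¹) * (g * v * g⁻¹) = g * (u * v) * g⁻¹ := by group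
      _ = g * (v * u) * g⁻¹ := by rw [h]
      _ = _ := by group
  have c1 : x' * a' = a' * x' := cx cxa
  have c2 : x' * b' = b' * x' := cx cxb
  have c3 : a' * b' = b' * a' := cx cab
  have hj : ∀ {u : G}, IsConj (M.ι t) u → IsConj (M.ι t) (g * u * g⁻¹) := fun h =>
    h.trans (isConj_iff.2 ⟨g, rfl⟩)
  have sq : ∀ {u : G}, IsConj (M.ι t) u → u * u = 1 := by
    intro u h
    obtain ⟨k, rfl⟩ := isConj_iff.1 h
    calc k * M.ι t * k⁻¹ * (k * M.ι t * k⁻¹) = k * (M.ι t * M.ι t) * k⁻¹ := by group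
      _ = 1 := by rw [← map_mul, F.L.sh_sq t F.ht, map_one]; group
  have ha2 : a' * a' = 1 := sq (hj ha)
  have hb2 : b' * b' = 1 := sq (hj hb)
  have cza : a' * M.z = M.z * a' := by rw [← hab]; calc a' * (a' * b') = a' * (b' * a') := by rw [c3]
    _ = a' * b' * a' := by group
  have czx : x' * M.z = M.z * x' := by
    rw [← hab]
    calc x' * (a' * b') = (x' * a') * b' := by group
      _ = a' * (x' * b') := by rw [c1]; group
      _ = a' * b' * x' := by rw [c2]; group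
  -- an element of the class commuting with `z`
  have key : ∀ {u : G}, IsConj (M.ι t) u → u * M.z = M.z * u → IsConj (M.ι t) (M.z * u) → ∃ p, u = M.ι p := by
    intro u hu huz hzu
    obtain ⟨k, rfl⟩ := isConj_iff.1 hu
    rcases F.hout k huz with h | ⟨l, hl⟩
    · exact h
    · exfalso
      obtain ⟨m, hm⟩ := isConj_iff.1 hzu
      apply F.hne
      refine ⟨l⁻¹ * m, ?_⟩
      calc l⁻¹ * m * M.ι t * (l⁻¹ * m)⁻¹ = l⁻¹ * (m * M.ι t * m⁻¹) * l := by group
        _ = l⁻¹ * (l * M.z * l⁻¹) * l := by rw [hm, hl]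
        _ = M.z := by group
  have hza : M.z * a' = b' := by
    rw [← hab, c3, mul_assoc, ha2, mul_one]
  obtain ⟨p, hp⟩ := key (hj ha) cza (by rw [hza]; exact hj hb)
  -- `x' a'`
  have hxa' : x' * a' = g * (x * a) * g⁻¹ := by rw [hx', ha']; group
  have hxb' : x' * b' = g * (x * b) * g⁻¹ := by rw [hx', hb']; group
  obtain ⟨q, hq⟩ := key (u := x' * a') (by rw [hxa']; exact hj hxa) (by
      calc x' * a' * M.z = x' * (a' * M.z) := by group
        _ = (x' * M.z) * a' := by rw [cza]; group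
        _ = M.z * (x' * a') := by rw [czx]; group) (by
      have : M.z * (x' * a') = x' * b' := by
        calc M.z * (x' * a') = (M.z * x') * a' := by group
          _ = x' * (M.z * a') := by rw [← czx]; group
          _ = x' * b' := by rw [hza]
      rw [this, hxb']; exact hj hxb)
  -- so `x'` is in `ι P`
  have hxQ : x' = M.ι (q * p) := by
    rw [map_mul, ← hp, ← hq, mul_assoc, ha2, mul_one]
  set r := q * p with hr
  -- `r` is not `1` or `zc`, so `r` and `zc r` are conjugate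
  have hrt : IsConj (M.ι t) (M.ι r) := by rw [← hxQ]; exact hj hx
  have hr0 : clP F.L r ≠ 0 := by
    intro e
    rcases (clP_eq_zero F.L).1 e with e | e
    · rw [e, map_one] at hrt
      obtain ⟨k, hk⟩ := isConj_iff.1 hrt
      have h1 : M.ι t = 1 := by
        have : M.ι t = k⁻¹ * (k * M.ι t * k⁻¹) * k := by group
        rw [this, hk]; group
      rw [← map_one M.ι] at h1
      have h2 := ι_inj F.L h1
      have h3 := (mem_Sh_iff F.L t).1 F.ht
      rw [congrArg (clP F.L) h2, clP_one] at h3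
      exact not_zero_two h3
    · rw [e] at hrt
      obtain ⟨k, hk⟩ := isConj_iff.1 hrt
      exact F.hne ⟨k, hk⟩
  obtain ⟨s, hs⟩ := exists_flip' F.L r hr0
  have h1 : IsConj (M.ι t) (M.z * x') := by
    refine hrt.trans (isConj_iff.2 ⟨M.ι s, ?_⟩)
    rw [hxQ, ← map_inv, ← map_mul, ← map_mul, hs, map_mul]
    rfl
  have h2 : IsConj (M.z * x') M.z := by
    have : M.z * x' = g * (x * (a * b)) * g⁻¹ := by
      rw [← hg, hx']
      have e : (a * b) * x = x * (a * b) := by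
        calc (a * b) * x = a * (b * x) := by group
          _ = (a * x) * b := by rw [← cxb]; group
          _ = x * (a * b) := by rw [← cxa]; group
      calc g * (a * b) * g⁻¹ * (g * x * g⁻¹) = g * ((a * b) * x) * g⁻¹ := by group
        _ = _ := by rw [e]
    rw [this]
    exact (isConj_iff.2 ⟨g, rfl⟩ : IsConj (x * (a * b)) _).symm.trans hxz
  obtain ⟨k, hk⟩ := isConj_iff.1 (h1.trans h2)
  exact F.hne ⟨k, hk⟩

theorem Hyp.class_ne {p : P} {n : ℤ} (h : IsType n (clP F.L p)) (hn : n = 2 ∨ n = 4) : p ≠ 1 := by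
  intro e
  rw [congrArg (clP F.L) e, clP_one] at h
  rcases hn with rfl | rfl
  · exact not_zero_two h
  · exact Cfsg.Agent.MonsterN.FusF2.not_zero_four h

end facts

/-! ### The facts on the centralizer -/

section final

variable {t : P}

/-- an element of `P` commuting with `t` as an element of the centralizer -/
def elt (M : KS G V P W) {t : P} (p : P) (h : p * t = t * p) : B M t := ⟨M.ι p, ι_mem_B h⟩

theorem elt_coe {p : P} (h : p * t = t * p) : ((elt M p h : B M t) : G) = M.ι p := rfl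

theorem mul_comm_t {p q : P} (h : p * t = t * p) (h' : q * t = t * q) : p * q * t = t * (p * q) := by
  rw [mul_assoc, h', ← mul_assoc, h, mul_assoc]

theorem elt_mul {p q : P} (h : p * t = t * p) (h' : q * t = t * q) :
    elt M p h * elt M q h' = elt M (p * q) (mul_comm_t h h') := Subtype.ext (map_mul M.ι p q).symm

theorem elt_one : elt M (1 : P) (by rw [one_mul, mul_one] : (1 : P) * t = t * 1) = 1 := Subtype.ext (map_one M.ι)

theorem elt_conj {p q : P} (h : p * t = t * p) (h' : q * t = t * q) {k : G}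
    (hk : k * M.ι t * k⁻¹ = M.ι t) (hpq : k * M.ι p * k⁻¹ = M.ι q) : IsConj (elt M p h) (elt M q h') :=
  isConj_of hk hpq

theorem elt_comm {p q : P} (h : p * t = t * p) (h' : q * t = t * q) (hpq : p * q = q * p) :
    elt M p h * elt M q h' = elt M q h' * elt M p h := by
  rw [elt_mul, elt_mul]
  exact Subtype.ext (congrArg M.ι hpq)

/-- `z` as an element of the centralizer -/
def zB (M : KS G V P W) (t : P) : B M t := ⟨M.z, z_mem⟩

variable (F : Hyp M θ τ y t)

include F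

theorem Hyp.elt_ne {p q : P} (h : p * t = t * p) (h' : q * t = t * q)
    (hpq : p ≠ q) : elt M p h ≠ elt M q h' :=
  fun e => hpq (ι_inj F.L (congrArg Subtype.val e))

/-- the elements `p q` are conjugate to `t z` -/
theorem Hyp.y_tz {q : P} (hq : q * t = t * q) (h4 : IsType 4 (clP F.L (t * q)))
    (h2 : IsType 2 (clP F.L q)) : IsConj (elt M q hq) (elt M t rfl * zB M t) ∧
      IsConj (elt M t rfl * elt M q hq) (zB M t) := by
  obtain ⟨g, h1, h2, h3⟩ := F.frame h4 h2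
  refine ⟨isConj_of h1 h3, ?_⟩
  rw [elt_mul]
  exact isConj_of h1 h2

theorem Hyp.conj_short {p : P} (hp : IsType 2 (clP F.L p)) : IsConj (M.ι t) (M.ι p) := by
  have hpS := (mem_Sh_iff F.L p).2 hp
  obtain ⟨k, hk, A, α, T, hA, hα⟩ := trans_Sh F.L t p F.ht hpS
  refine isConj_iff.2 ⟨k, ?_⟩
  rw [conj_ι hA t, hα, mul_inv_cancel_right]

variable {p₁ p₂ p₃ p₄ : P} (C : Conf M F.L t p₁ p₂ p₃ p₄)

include C

omit C in
theorem Hyp.t2 : IsType 2 (clP F.L t) := (mem_Sh_iff F.L t).1 F.ht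

theorem Hyp.c₁ : p₁ * t = t * p₁ :=
  (comm_of_qf F.L (qf0_of_two F.t2) (qf0_of_two C.s₁) (qf0_of_two C.t₁)).symm

theorem Hyp.c₂ : p₂ * t = t * p₂ :=
  (comm_of_qf F.L (qf0_of_two F.t2) (qf0_of_two C.s₂) (qf0_of_two C.t₂)).symm

theorem Hyp.c₃ : p₃ * t = t * p₃ :=
  (comm_of_qf F.L (qf0_of_two F.t2) (qf0_of_two C.s₃) (qf0_of_two C.t₃)).symm

theorem Hyp.c₄ : p₄ * t = t * p₄ :=
  (comm_of_qf F.L (qf0_of_two F.t2) (qf0_of_two C.s₄) (qf0_of_two C.t₄)).symm

/-- the list of involutions -/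
theorem Hyp.list (c₁ : p₁ * t = t * p₁) (c₂ : p₂ * t = t * p₂) (c₃ : p₃ * t = t * p₃) (u : B M t)
    (hu : u * u = 1) (hu1 : u ≠ 1) (hut : u ≠ elt M t rfl) :
    IsConj (elt M p₁ c₁) u ∨ IsConj (elt M p₁ c₁ * elt M p₂ c₂) u ∨
      IsConj (elt M t rfl * (elt M p₁ c₁ * elt M p₂ c₂)) u ∨
      IsConj (elt M p₁ c₁ * elt M p₂ c₂ * elt M p₃ c₃) u := by
  have hfin : Finite (⊤ : Subgroup G) := by have := F.fin; infer_instance
  obtain ⟨h1, h2⟩ := F.y_tz (q := p₁ * p₂) (mul_comm_t c₁ c₂) (by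
    rw [clP_mul, clP_mul, ← add_assoc]; exact C.t12) (by rw [clP_mul]; exact C.s12)
  obtain ⟨g, -, hg, h⟩ := classes F.L F.H hfin (a₀ := p₁) (δ₀ := p₁ * p₂ * p₃) F.ht F.hne' F.hodd
    ((mem_Sh_iff F.L _).2 C.s₁) ((mem_Sh_iff F.L _).2 (by rw [clP_mul]; exact C.t₁))
    (by rw [clP_mul, clP_mul]; exact C.s123)
    (by
      rw [clP_mul, clP_mul, clP_mul]
      have := C.t123
      rwa [add_assoc, ← add_assoc (clP F.L p₁)] at this)
    (u := (u : G)) (Subgroup.mem_top _) (mem_B.1 u.2) (congrArg Subtype.val hu)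
    (fun e => hu1 (Subtype.ext e)) (fun e => hut (Subtype.ext e))
  rcases h with h | h | h | h
  · left
    exact (isConj_of (b := elt M p₁ c₁) hg h).symm
  · right; right; left
    rw [elt_mul c₁ c₂]
    exact h2.trans (isConj_of (b := zB M t) hg h).symm
  · right; left
    rw [elt_mul c₁ c₂]
    refine h1.trans (isConj_of (b := elt M t rfl * zB M t) hg ?_).symm
    rw [h]
    exact (Cfsg.Agent.MonsterU.TwoQ.z_comm_ι t).symm
  · right; right; right
    rw [elt_mul c₁ c₂, elt_mul]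
    exact (isConj_of (b := elt M (p₁ * p₂ * p₃) (mul_comm_t (mul_comm_t c₁ c₂) c₃)) hg h).symm

/-- **The fusion facts on `C_G(ι t)`.** -/
theorem Hyp.facts (c₁ : p₁ * t = t * p₁) (c₂ : p₂ * t = t * p₂) (c₃ : p₃ * t = t * p₃)
    (c₄ : p₄ * t = t * p₄) : FusionType.Facts (elt M t rfl) (elt M p₁ c₁) (elt M p₂ c₂)
      (elt M p₃ c₃) (elt M p₄ c₄) := by
  have tt : t * t = 1 := F.L.sh_sq t F.ht
  have sq2 : ∀ {p : P}, IsType 2 (clP F.L p) → p * p = 1 := fun h => (sq_iff_qf F.L _).2 (qf0_of_two h)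
  have com : ∀ {p q : P}, IsType 2 (clP F.L p) → IsType 2 (clP F.L q) →
      IsType 2 (clP F.L p + clP F.L q) → p * q = q * p := fun h1 h2 h3 =>
    comm_of_qf F.L (qf0_of_two h1) (qf0_of_two h2) (qf0_of_two h3)
  have hcen : ∀ x : B M t, x * elt M t rfl = elt M t rfl * x := fun x => Subtype.ext (mem_B.1 x.2)
  have sh : ∀ {p : P}, IsType 2 (clP F.L p) → p ∈ M.Sh := fun h => (mem_Sh_iff F.L _).2 h
  have tp : ∀ p : P, t * (t * p) = p := fun p => by rw [← mul_assoc, tt, one_mul]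
  -- type A
  have hA : ∀ {p : P} (cp : p * t = t * p), IsType 2 (clP F.L p) → IsType 2 (clP F.L t + clP F.L p) →
      IsConj (elt M p₁ c₁) (elt M p cp) := by
    intro p cp h1 h2
    obtain ⟨k, -, hk, hk'⟩ := trans_A F.L F.ht (a := p₁) (a' := p) (sh C.s₁)
      (sh (by rw [clP_mul]; exact C.t₁)) (sh h1) (sh (by rw [clP_mul]; exact h2))
    exact elt_conj c₁ cp hk hk'
  -- type D
  have h123 : IsType 4 (clP F.L (p₁ * p₂ * p₃)) := by rw [clP_mul, clP_mul]; exact C.s123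
  have ht123 : IsType 4 (clP F.L (t * (p₁ * p₂ * p₃))) := by
    rw [clP_mul, clP_mul, clP_mul]
    have := C.t123
    rwa [add_assoc, ← add_assoc (clP F.L p₁)] at this
  have hD : ∀ {p : P} (cp : p * t = t * p), IsType 4 (clP F.L p) → IsType 4 (clP F.L (t * p)) →
      IsConj (elt M (p₁ * p₂ * p₃) (mul_comm_t (mul_comm_t c₁ c₂) c₃)) (elt M p cp) := by
    intro p cp h1 h2
    obtain ⟨k, -, hk, hk'⟩ := trans_D F.L F.H F.ht h123 ht123
      (mul_comm_t (mul_comm_t c₁ c₂) c₃).symm h1 h2 cp.symm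
    exact elt_conj _ cp hk hk'
  -- type Y
  have hY : ∀ {p q : P} (cp : p * t = t * p) (cq : q * t = t * q), IsType 2 (clP F.L p + clP F.L q) →
      IsType 4 (clP F.L t + clP F.L p + clP F.L q) →
      IsConj (elt M p₁ c₁ * elt M p₂ c₂) (elt M p cp * elt M q cq) := by
    intro p q cp cq h1 h2
    obtain ⟨h3, -⟩ := F.y_tz (q := p₁ * p₂) (mul_comm_t c₁ c₂) (by
      rw [clP_mul, clP_mul, ← add_assoc]; exact C.t12) (by rw [clP_mul]; exact C.s12)
    obtain ⟨h4, -⟩ := F.y_tz (q := p * q) (mul_comm_t cp cq) (by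
      rw [clP_mul, clP_mul, ← add_assoc]; exact h2) (by rw [clP_mul]; exact h1)
    rw [elt_mul, elt_mul]
    exact h3.trans h4.symm
  have ha_t : IsConj (elt M p₁ c₁) (elt M t rfl * elt M p₁ c₁) := by
    rw [elt_mul]
    apply hA
    · rw [clP_mul]; exact C.t₁
    · rw [clP_mul, ← add_assoc, add_self, zero_add]; exact C.s₁
  -- conjugacy in `G`
  have toG : ∀ {a b : B M t}, IsConj a b → IsConj (a : G) (b : G) := fun h => (B M t).subtype.map_isConj h
  have mulT : ∀ {a b : B M t}, IsConj a b → IsConj (elt M t rfl * a) (elt M t rfl * b) :=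
    fun h => FusionType.conj_mul_t hcen h
  exact
    { t_sq := by rw [elt_mul]; exact Subtype.ext ((congrArg M.ι tt).trans (map_one M.ι))
      t_ne := by
        intro e
        exact F.class_ne F.t2 (Or.inl rfl) (ι_inj F.L ((congrArg Subtype.val e).trans (map_one M.ι).symm))
      cen := hcen
      sq₁ := by rw [elt_mul]; exact Subtype.ext ((congrArg M.ι (sq2 C.s₁)).trans (map_one M.ι))
      sq₂ := by rw [elt_mul]; exact Subtype.ext ((congrArg M.ι (sq2 C.s₂)).trans (map_one M.ι))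
      sq₃ := by rw [elt_mul]; exact Subtype.ext ((congrArg M.ι (sq2 C.s₃)).trans (map_one M.ι))
      sq₄ := by rw [elt_mul]; exact Subtype.ext ((congrArg M.ι (sq2 C.s₄)).trans (map_one M.ι))
      c12 := elt_comm c₁ c₂ (com C.s₁ C.s₂ C.s12)
      c13 := elt_comm c₁ c₃ (com C.s₁ C.s₃ C.s13)
      c14 := elt_comm c₁ c₄ (com C.s₁ C.s₄ C.s14)
      c23 := elt_comm c₂ c₃ (com C.s₂ C.s₃ C.s23)
      c24 := elt_comm c₂ c₄ (com C.s₂ C.s₄ C.s24)
      c34 := elt_comm c₃ c₄ (com C.s₃ C.s₄ C.s34)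
      classes := F.list C c₁ c₂ c₃
      a_t := ha_t
      a_3 := hA c₃ C.s₃ C.t₃
      d_t := by
        rw [elt_mul c₁ c₂, elt_mul, elt_mul]
        exact hD _ ht123 (by rw [tp]; exact h123)
      d_124 := by
        rw [elt_mul c₁ c₂, elt_mul, elt_mul]
        refine hD _ (by rw [clP_mul, clP_mul]; exact C.s124) ?_
        rw [clP_mul, clP_mul, clP_mul]
        have := C.t124
        rwa [add_assoc, ← add_assoc (clP F.L p₁)] at this
      d_1234 := by
        rw [elt_mul c₁ c₂, elt_mul, elt_mul, elt_mul]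
        refine hD _ (by rw [clP_mul, clP_mul, clP_mul]; exact C.s1234) ?_
        rw [clP_mul, clP_mul, clP_mul, clP_mul]
        exact C.t1234
      y_13 := hY c₁ c₃ C.s13 C.t13
      y_23 := hY c₂ c₃ C.s23 C.t23
      y_14 := hY c₁ c₄ C.s14 C.t14
      y_24 := hY c₂ c₄ C.s24 C.t24
      y_34 := hY c₃ c₄ C.s34 C.t34
      aa := by
        intro a b ha hb hab hd
        rw [elt_mul c₁ c₂, elt_mul] at hd
        obtain ⟨g, hg⟩ := F.four_z h123
        obtain ⟨g', hg'⟩ := F.four_z ht123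
        refine F.aa (x := M.ι t) (a := a) (b := b) (IsConj.refl _) ((F.conj_short C.s₁).trans (toG ha))
          ((F.conj_short C.s₁).trans (toG hb)) ((F.conj_short C.s₁).trans (toG (ha_t.trans (mulT ha))))
          ((F.conj_short C.s₁).trans (toG (ha_t.trans (mulT hb)))) (mem_B.1 a.2).symm (mem_B.1 b.2).symm
          (congrArg Subtype.val hab) ?_ ?_
        · exact (toG hd).symm.trans (isConj_iff.2 ⟨g, hg⟩)
        · have h1 := toG (mulT hd)
          rw [elt_mul] at h1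
          exact h1.symm.trans (isConj_iff.2 ⟨g', hg'⟩)
      swap := by
        obtain ⟨g, h1, h2, -⟩ := F.frame (q := p₁ * p₂) (by
          rw [clP_mul, clP_mul, ← add_assoc]; exact C.t12) (by rw [clP_mul]; exact C.s12)
        have hns : FusSwap.NoSwap (M.ι t) M.z := FusSwap.noSwap F.L
          (fun g hg => F.H.cent g (Subgroup.mem_top g) hg) Cfsg.Agent.S0402.result
          ⟨Cfsg.Agent.SporadicA.Co0Mono.signCo0 Cfsg.Agent.SporadicA.Co1Simple.allOne,
            Cfsg.Agent.SporadicA.Co1Simple.allOne_smul⟩ F.ht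
        have hns' := hns.conj g⁻¹
        have e1 : g⁻¹ * M.ι t * g⁻¹⁻¹ = M.ι t := by
          nth_rw 1 [← h1]
          group
        have e2 : g⁻¹ * M.z * g⁻¹⁻¹ = M.ι (t * (p₁ * p₂)) := by
          rw [← h2]
          group
        rw [e1, e2] at hns'
        intro σ
        rw [elt_mul, elt_mul]
        exact FusSwap.NoSwap.swap (B M t).subtype Subtype.val_injective
          (t := elt M t rfl) (z := elt M (t * (p₁ * p₂)) (mul_comm_t rfl (mul_comm_t c₁ c₂))) hcen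
          (fun x hx => ⟨⟨x, mem_B.2 hx⟩, rfl⟩) hns' σ
      ne₁ := by
        rw [elt_mul]
        refine F.elt_ne _ _ fun e => ?_
        have h1 := C.t12
        rw [add_assoc, ← clP_mul, congrArg (clP F.L) e, add_self] at h1
        exact Cfsg.Agent.MonsterN.FusF2.not_zero_four h1
      ne₂ := by
        rw [elt_mul]
        intro e
        exact F.class_ne (p := p₁ * p₂) (by rw [clP_mul]; exact C.s12) (Or.inl rfl)
          (ι_inj F.L ((congrArg Subtype.val e).trans (map_one M.ι).symm)) }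

/-- `t f₁f₂` is conjugate to `z`. -/
theorem Hyp.conj_z (c₁ : p₁ * t = t * p₁) (c₂ : p₂ * t = t * p₂) :
    IsConj (elt M t rfl * (elt M p₁ c₁ * elt M p₂ c₂)) (zB M t) := by
  rw [elt_mul c₁ c₂]
  exact (F.y_tz (q := p₁ * p₂) (mul_comm_t c₁ c₂) (by
    rw [clP_mul, clP_mul, ← add_assoc]; exact C.t12) (by rw [clP_mul]; exact C.s12)).2

/-- **Type A**: an involution `u ≠ t` of the centralizer such that `u` and `t u` are `G`-conjugate to `t`. -/
theorem Hyp.type_A (c₁ : p₁ * t = t * p₁) (c₂ : p₂ * t = t * p₂) (c₃ : p₃ * t = t * p₃) {u : B M t}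
    (hut : u ≠ elt M t rfl) (hu : IsConj (M.ι t) (u : G)) (htu : IsConj (M.ι t) (M.ι t * u)) :
    IsConj (elt M p₁ c₁) u := by
  have tt : t * t = 1 := F.L.sh_sq t F.ht
  have ιtt : M.ι t * M.ι t = 1 := by rw [← map_mul, tt, map_one]
  obtain ⟨g, hg⟩ := isConj_iff.1 hu
  have huu : u * u = 1 := by
    apply Subtype.ext
    show (u : G) * u = 1
    rw [← hg]
    calc g * M.ι t * g⁻¹ * (g * M.ι t * g⁻¹) = g * (M.ι t * M.ι t) * g⁻¹ := by group
      _ = 1 := by rw [ιtt]; group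
  have hu1 : u ≠ 1 := by
    intro e
    have h1 : g * M.ι t * g⁻¹ = 1 := hg.trans (congrArg Subtype.val e)
    have h2 : M.ι t = M.ι 1 := by
      rw [map_one]
      calc M.ι t = g⁻¹ * (g * M.ι t * g⁻¹) * g := by group
        _ = 1 := by rw [h1]; group
    exact F.class_ne F.t2 (Or.inl rfl) (ι_inj F.L h2)
  have hz : ∀ {w : G}, IsConj (M.ι t) w → IsConj w M.z → False := fun h h' =>
    F.hne (isConj_iff.1 (h.trans h'))
  have toG : ∀ {a b : B M t}, IsConj a b → IsConj (a : G) (b : G) := fun h => (B M t).subtype.map_isConj h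
  have hcen : ∀ x : B M t, x * elt M t rfl = elt M t rfl * x := fun x => Subtype.ext (mem_B.1 x.2)
  rcases F.list C c₁ c₂ c₃ u huu hu1 hut with h | h | h | h
  · exact h
  · exfalso
    exact hz htu ((toG (FusionType.conj_mul_t hcen h)).symm.trans (toG (F.conj_z C c₁ c₂)))
  · exfalso
    exact hz hu ((toG h).symm.trans (toG (F.conj_z C c₁ c₂)))
  · exfalso
    rw [elt_mul c₁ c₂, elt_mul] at h
    obtain ⟨g, hg⟩ := F.four_z (q := p₁ * p₂ * p₃) (by rw [clP_mul, clP_mul]; exact C.s123)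
    exact hz hu ((toG h).symm.trans (isConj_iff.2 ⟨g, hg⟩))

omit C in
/-- **Existence.** -/
theorem Hyp.exists_facts : ∃ f₁ f₂ f₃ f₄ : B M t, FusionType.Facts (elt M t rfl) f₁ f₂ f₃ f₄ ∧
    IsConj (elt M t rfl * (f₁ * f₂)) (zB M t) ∧
    ∀ u : B M t, u ≠ elt M t rfl → IsConj (M.ι t) (u : G) → IsConj (M.ι t) (M.ι t * u) → IsConj f₁ u := by
  obtain ⟨p₁, p₂, p₃, p₄, C⟩ := exists_conf F.L F.ht
  exact ⟨_, _, _, _, F.facts C (F.c₁ C) (F.c₂ C) (F.c₃ C) (F.c₄ C), F.conj_z C _ _,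
    fun u h1 h2 h3 => F.type_A C _ (F.c₂ C) (F.c₃ C) h1 h2 h3⟩

end final

end Cfsg.Agent.MonsterN.FusF2
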