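import Cfsg.Agent.MonsterN.BigAModel
import Cfsg.Agent.MonsterN.FusF2

/-!
# `Big` for the first axis of a configuration

`big_a` : the structure `KEq.Big` for `t` and `p` with `p` and `t p` of type 2.
-/

set_option autoImplicit false

namespace Cfsg.Agent.MonsterN.BigAConf

open Cfsg Cfsg.Spor Cfsg.Agent.LeechMat.Core Cfsg.Agent.MonsterX.KSide Cfsg.Agent.MonsterX.KLift
open Cfsg.Agent.MonsterX.FrameKS Cfsg.Agent.MonsterU.TwoCls Cfsg.Agent.MonsterU.InvTwo
open Cfsg.Agent.MonsterU.Lam2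
open Cfsg.Agent.MonsterU.TwoQ

theorem dot_of_types {v w : leechLattice} (hv : nrm v = 32) (hw : nrm w = 32)
    (h : IsType 2 (cl v + cl w)) : dot v w = 16 ∨ dot v w = -16 := by
  have h1 : bf (cl v) (cl w) = 0 := by
    have h2 := qf_add (cl v) (cl w)
    rw [FusF2.qf0_of_two h, FusF2.qf0_of_two ⟨v, hv, rfl⟩, FusF2.qf0_of_two ⟨w, hw, rfl⟩, zero_add,
      zero_add] at h2
    exact h2.symm
  rw [bf_cl_eq_zero] at h1
  rcases Cfsg.Agent.MonsterU.InvPair.dot_cases hv hw h1 with h2 | h2 | h2 | h2 | h2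
  · exfalso
    rw [h2, add_self] at h
    exact Cfsg.Agent.MonsterU.InvPair.not_zero_two h
  · exfalso
    rw [h2, cl_neg, add_self] at h
    exact Cfsg.Agent.MonsterU.InvPair.not_zero_two h
  · exact Or.inl h2
  · exact Or.inr h2
  · exfalso
    refine Cfsg.Agent.MonsterU.InvPair.not_two_four h ⟨v + w, ?_, map_add _ _ _⟩
    have h3 := Cfsg.Agent.MonsterU.InvPair.norm_add v w
    change sqNorm _ = 32 at hv
    change sqNorm _ = 32 at hw
    rw [hv, hw, h2] at h3
    rw [h3]; norm_num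

variable {G V P W : Type*} [Group G] [AddCommGroup V] [Module ℚ V]
  [DistribMulAction G V] [SMulCommClass G ℚ V] [Group P] [AddCommGroup W] [Module ℚ W]
  {M : KS G V P W} {θ : leechLattice → P}

/-- **The field `big_a`** in terms of types. -/
theorem big_a (L : Lift M θ) [Finite G] {τ : G} {y : P} (T : TauHyp M θ ⊤ τ y) {t : P} (ht : t ∈ M.Sh)
    (h43 : ¬ 2 ^ 43 ∣ Nat.card ↥(Subgroup.centralizer ({M.ι t} : Set G))) {s : P}
    (h2 : IsType 2 (clP L s)) (h2' : IsType 2 (clP L t + clP L s))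
    {hself : M.ι t ∈ Subgroup.centralizer ({M.ι t} : Set G)}
    {hmem : M.ι s ∈ Subgroup.centralizer ({M.ι t} : Set G)} :
    KEq.Big (↥(Subgroup.centralizer ({M.ι t} : Set G))) ⟨M.ι t, hself⟩ ⟨M.ι s, hmem⟩ := by
  obtain ⟨o, ho, hoc⟩ := Cfsg.Agent.MonsterU.InvPair.exists_short L ht
  obtain ⟨b, hb, hbc⟩ := h2
  have hto : clP L t = cl o := by
    first
    | exact hoc
    | exact hoc.symm
  have hb' : nrm b = 32 := hb
  have ho' : nrm o = 32 := ho
  rw [hto, ← hbc] at h2'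
  rcases dot_of_types ho' hb' h2' with h3 | h3
  · exact BigAModel.big_a L T ht h43 hto hbc.symm ho' hb' h3
  · refine BigAModel.big_a L T ht h43 (b := -b) hto (by rw [cl_neg]; exact hbc.symm) ho' ?_ ?_
    · rw [Cfsg.Agent.MonsterX.Lat.nrm_neg]; exact hb'
    · rw [Cfsg.Agent.MonsterX.Lat.dot_neg_right, h3]; norm_num

end Cfsg.Agent.MonsterN.BigAConf
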