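import Cfsg.Agent.MonsterN.RealCom
import Cfsg.Agent.MonsterN.FusSwap
import Cfsg.Agent.SporadicStructure.PairStab

/-!
# The fields `real` and `com` for the centralizer of a short element

`hodd` : `C_K(ι x)` has odd index in `C_G(ι x)` when `2 ^ 43 ∤ |C_G(ι x)|`;
`realB`, `comB` : the fields `real` and `com` of `KEq.FactsK` for `↥(centralizer {M.ι t})`.
-/

set_option autoImplicit false

namespace Cfsg.Agent.MonsterN.RealComB

open Cfsg Cfsg.Agent.LeechMat.Core Cfsg.Agent.MonsterX.KSide Cfsg.Agent.MonsterX.KLift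
open Cfsg.Agent.MonsterX.FrameKS

variable {G V P W : Type*} [Group G] [AddCommGroup V] [Module ℚ V]
  [DistribMulAction G V] [SMulCommClass G ℚ V] [Group P] [AddCommGroup W] [Module ℚ W]
  {M : KS G V P W} {θ : leechLattice → P}

/-- `C_K(ι x)` -/
abbrev CK (M : KS G V P W) (x : P) : Subgroup G := M.K ⊓ Subgroup.centralizer {M.ι x}

theorem mem_CK {x : P} {k : G} : k ∈ CK M x ↔ k ∈ M.K ∧ k * M.ι x = M.ι x * k := by
  rw [Subgroup.mem_inf, Subgroup.mem_centralizer_singleton_iff]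

theorem hneg : ∃ A : Co0, ∀ v : leechLattice, A • v = -v :=
  ⟨Cfsg.Agent.SporadicA.Co0Mono.signCo0 Cfsg.Agent.SporadicA.Co1Simple.allOne,
    Cfsg.Agent.SporadicA.Co1Simple.allOne_smul⟩

/-- the map to the stabiliser of the minimal vector -/
theorem exists_hom (L : Lift M θ) {x : P} (hx : x ∈ M.Sh) :
    ∃ f : CK M x →* MulAction.stabilizer Co0 (M.lam x), Function.Surjective f ∧
      ∀ k : CK M x, f k = 1 ↔ ∃ p : P, M.ι p = k := by
  have hex : ∀ k : CK M x, ∃ A : MulAction.stabilizer Co0 (M.lam x), Ind M (k : G) (A : Co0) := by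
    intro k
    obtain ⟨h1, h2⟩ := mem_CK.1 k.2
    obtain ⟨A, hA, hu⟩ := FusSwap.exists_A L hneg hx h1 h2
    exact ⟨⟨A, hA⟩, hu⟩
  have huniq : ∀ (k : G) (A B : MulAction.stabilizer Co0 (M.lam x)), Ind M k (A : Co0) →
      Ind M k (B : Co0) → A = B := fun k A B hA hB =>
    Subtype.ext (FusSwap.A_unique (M.lam_norm x hx) A.2 B.2 hA hB)
  choose f hf using hex
  refine ⟨MonoidHom.mk' f fun a b => ?_, fun A => ?_, fun k => ?_⟩
  · exact huniq ((a : G) * (b : G)) _ _ (hf (a * b)) ((hf a).mul (hf b))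
  · obtain ⟨k, hk, hkx, hu⟩ := FusSwap.exists_k L hx A.2
    exact ⟨⟨k, mem_CK.2 ⟨hk, hkx⟩⟩, huniq k _ _ (hf ⟨k, mem_CK.2 ⟨hk, hkx⟩⟩) hu⟩
  · change f k = 1 ↔ _
    constructor
    · intro h
      obtain ⟨q, hq⟩ := M.mem_ι_of_trivial (k : G) (mem_CK.1 k.2).1 (fun v => by
        rw [hf k v, h]
        show M.u ((1 : Co0) • v) = M.u v
        rw [one_smul])
      exact ⟨q, hq.symm⟩
    · rintro ⟨p, hp⟩
      apply huniq (k : G) _ _ (hf k)
      intro v
      rw [← hp, M.ι_u]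
      show M.u v = M.u ((1 : Co0) • v)
      rw [one_smul]

open Cfsg.Agent.MonsterU.Lam2 Cfsg.Agent.MonsterU.TwoCls in
theorem card_CP (L : Lift M θ) (x : P) :
    2 ^ 24 ∣ Nat.card (Subgroup.centralizer ({x} : Set P)) := by
  have hfin : Finite P := Nat.finite_of_card_ne_zero (by rw [L.card]; norm_num)
  let χ : P →* Multiplicative (ZMod 2) :=
    MonoidHom.mk' (fun p => Multiplicative.ofAdd (bf (clP L p) (clP L x))) (fun p q => by
      rw [clP_mul, bf_add_left, ofAdd_add])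
  have hker : χ.ker = Subgroup.centralizer ({x} : Set P) := by
    ext p
    rw [MonoidHom.mem_ker, Subgroup.mem_centralizer_singleton_iff, comm_iff_bf L]
    exact Iff.rfl
  have h1 : Nat.card P = Nat.card χ.range * Nat.card (Subgroup.centralizer ({x} : Set P)) := by
    rw [← hker, Subgroup.card_eq_card_quotient_mul_card_subgroup χ.ker,
      Nat.card_congr (QuotientGroup.quotientKerEquivRange χ).toEquiv]
  have h2 : Nat.card χ.range ∣ 2 := by
    have h3 := Subgroup.card_subgroup_dvd_card χ.range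
    rwa [Nat.card_eq_fintype_card (α := Multiplicative (ZMod 2)), Fintype.card_multiplicative,
      ZMod.card] at h3
  rw [L.card] at h1
  have h3 : 2 * 2 ^ 24 ∣ 2 * Nat.card (Subgroup.centralizer ({x} : Set P)) := by
    have h4 : 2 * 2 ^ 24 = Nat.card χ.range * Nat.card (Subgroup.centralizer ({x} : Set P)) := by
      rw [← h1]; norm_num
    rw [h4]
    exact Nat.mul_dvd_mul_right h2 _
  exact Nat.dvd_of_mul_dvd_mul_left (by norm_num) h3

theorem two42 (L : Lift M θ) [Finite G] {x : P} (hx : x ∈ M.Sh) :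
    2 ^ 42 ∣ Nat.card (CK M x) := by
  obtain ⟨f, hf, hker⟩ := exists_hom L hx
  have h1 : Nat.card (CK M x) = Nat.card (MulAction.stabilizer Co0 (M.lam x)) * Nat.card f.ker := by
    rw [Subgroup.card_eq_card_quotient_mul_card_subgroup f.ker,
      Nat.card_congr (QuotientGroup.quotientKerEquivOfSurjective f hf).toEquiv]
  have hι := FusSwap.inj L
  have h2 : Nat.card f.ker = Nat.card (Subgroup.centralizer ({x} : Set P)) := by
    symm
    refine Nat.card_congr (Equiv.ofBijective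
      (fun p => (⟨⟨M.ι p, mem_CK.2 ⟨M.ι_mem _, ?_⟩⟩, ?_⟩ : f.ker)) ⟨fun a b hab => ?_, fun k => ?_⟩)
    · have := Subgroup.mem_centralizer_singleton_iff.1 p.2
      rw [← map_mul, ← map_mul, this]
    · rw [MonoidHom.mem_ker, hker]
      exact ⟨p, rfl⟩
    · apply Subtype.ext
      apply hι
      exact congrArg (fun y : f.ker => ((y : CK M x) : G)) hab
    · obtain ⟨p, hp⟩ := (hker k.1).1 k.2
      have h3 := (mem_CK.1 k.1.2).2
      rw [← hp, ← map_mul, ← map_mul] at h3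
      exact ⟨⟨p, Subgroup.mem_centralizer_singleton_iff.2 (hι h3)⟩, Subtype.ext (Subtype.ext hp)⟩
  rw [h1, h2, Cfsg.Agent.SporadicStructure.PairStab.card_stab _ (M.lam_norm x hx)]
  have h3 : 2 ^ 42 = 2 ^ 18 * 2 ^ 24 := by norm_num
  rw [h3]
  exact Nat.mul_dvd_mul (by norm_num) (card_CP L x)

/-- `C_K(ι x)` has odd index in `C_Γ(ι x)`. -/
theorem hodd (L : Lift M θ) [Finite G] {Γ : Subgroup G} (hK : M.K ≤ Γ) {x : P} (hx : x ∈ M.Sh)
    (h43 : ¬ 2 ^ 43 ∣ Nat.card ↥(Γ ⊓ Subgroup.centralizer {M.ι x})) :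
    ¬ 2 ∣ M.K.relIndex (Γ ⊓ Subgroup.centralizer {M.ι x}) := by
  intro h
  apply h43
  have h1 : CK M x = M.K ⊓ (Γ ⊓ Subgroup.centralizer {M.ι x}) := by
    rw [← inf_assoc, inf_eq_left.2 hK]
  have h2 : Nat.card (CK M x) * M.K.relIndex (Γ ⊓ Subgroup.centralizer {M.ι x}) =
      Nat.card ↥(Γ ⊓ Subgroup.centralizer {M.ι x}) := by
    rw [h1, ← Subgroup.inf_relIndex_right, ← Subgroup.relIndex_bot_left, ← Subgroup.relIndex_bot_left]
    exact Subgroup.relIndex_mul_relIndex _ _ _ bot_le inf_le_right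
  rw [← h2, show 2 ^ 43 = 2 ^ 42 * 2 by norm_num]
  exact Nat.mul_dvd_mul (two42 L hx) h

/-! ### The fields -/

theorem self_mem {G : Type*} [Group G] (g : G) : g ∈ Subgroup.centralizer ({g} : Set G) :=
  Subgroup.mem_centralizer_singleton_iff.2 rfl

section B

variable (L : Lift M θ) [Finite G] {t : P} (ht : t ∈ M.Sh)
  (h43 : ¬ 2 ^ 43 ∣ Nat.card ↥(Subgroup.centralizer ({M.ι t} : Set G)))

include L ht h43 in
/-- The field `real`. -/
theorem realB (l : ↥(Subgroup.centralizer ({M.ι t} : Set G)))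
    (hl : l * l = ⟨M.ι t, self_mem _⟩) : IsConj l (⟨M.ι t, self_mem _⟩ * l) := by
  have h43' : ¬ 2 ^ 43 ∣ Nat.card ↥((⊤ : Subgroup G) ⊓ Subgroup.centralizer {M.ι t}) := by
    rwa [top_inf_eq]
  obtain ⟨h, -, h1, h2⟩ := RealCom.real L (le_top (a := M.K)) inferInstance ht
    (hodd L le_top ht h43') (Subgroup.mem_top (l : G)) (congrArg Subtype.val hl)
  rw [isConj_iff]
  exact ⟨⟨h, Subgroup.mem_centralizer_singleton_iff.2 h1⟩, Subtype.ext h2⟩

include L ht h43 in
/-- The field `com`. -/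
theorem comB (l : ↥(Subgroup.centralizer ({M.ι t} : Set G)))
    (hl : l * l = ⟨M.ι t, self_mem _⟩) :
    ∃ l1, IsConj l l1 ∧ l * l1 = l1 * l ∧ l1 ≠ l ∧ l1 ≠ ⟨M.ι t, self_mem _⟩ * l := by
  have h43' : ¬ 2 ^ 43 ∣ Nat.card ↥((⊤ : Subgroup G) ⊓ Subgroup.centralizer {M.ι t}) := by
    rwa [top_inf_eq]
  obtain ⟨h, -, h1, h2, h3, h4⟩ := RealCom.com L (le_top (a := M.K)) inferInstance ht
    (hodd L le_top ht h43') (Subgroup.mem_top (l : G)) (congrArg Subtype.val hl)
  refine ⟨⟨h, Subgroup.mem_centralizer_singleton_iff.2 h1⟩ * l *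
    ⟨h, Subgroup.mem_centralizer_singleton_iff.2 h1⟩⁻¹, isConj_iff.2 ⟨_, rfl⟩, Subtype.ext h2,
    fun e => h3 (congrArg Subtype.val e), fun e => h4 (congrArg Subtype.val e)⟩

end B

end Cfsg.Agent.MonsterN.RealComB
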