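import Cfsg.Agent.MonsterN.BigX
import Cfsg.Agent.MonsterN.RealComB
import Cfsg.Agent.MonsterU.InvPairQ
import Cfsg.Agent.MonsterU.PlaneM2
import Cfsg.Agent.MonsterU.InvPairOdd
import Cfsg.Agent.MonsterP.LeechTriple

/-!
# The structure `Big` for a pair of axes in the model

`fus` : an element centralising both axes and moving `z`; `nconj` : `z` is not conjugate to a short element;
`big_a` : `Big ↥(centralizer {M.ι t}) ⟨M.ι t, _⟩ ⟨M.ι p, _⟩` for `t`, `p` over minimal vectors with inner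
product `16`.
-/

set_option autoImplicit false

namespace Cfsg.Agent.MonsterN.BigAModel

open Cfsg Cfsg.Spor Cfsg.Agent.LeechMat.Core Cfsg.Agent.MonsterX.KSide Cfsg.Agent.MonsterX.KLift
open Cfsg.Agent.MonsterX.FrameKS Cfsg.Agent.MonsterU.TwoCls Cfsg.Agent.MonsterU.InvTwo
open Cfsg.Agent.MonsterU.Lam2
open Cfsg.Agent.MonsterU.TwoQ
open Cfsg.Agent.MonsterN.TriLat hiding e8
open Cfsg.Agent.MonsterN.TriSimple Cfsg.Agent.MonsterN.BigA
open Cfsg.Agent.SporadicStructure.Co0Base (e8 e8_coe)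

variable {G V P W : Type*} [Group G] [AddCommGroup V] [Module ℚ V]
  [DistribMulAction G V] [SMulCommClass G ℚ V] [Group P] [AddCommGroup W] [Module ℚ W]
  {M : KS G V P W} {θ : leechLattice → P} {Γ : Subgroup G} {p q k : GolayPt} {x₁ x₂ : P}

theorem inE_types (hpq : p ≠ q) (hqk : q ≠ k) (hpk : p ≠ k) {x : L2} (h : InE p q k x) :
    x = 0 ∨ IsType 2 x := by
  rcases h with h | h | h | h
  · exact Or.inl h
  · exact Or.inr ⟨dd p q, sqNorm_dd hpq, h.symm⟩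
  · exact Or.inr ⟨dd q k, sqNorm_dd hqk, h.symm⟩
  · exact Or.inr ⟨dd p k, sqNorm_dd hpk, by rw [h, ← map_add, dd_add]⟩

theorem not_inE_e8 (hpq : p ≠ q) (hqk : q ≠ k) (hpk : p ≠ k) : ¬ InE p q k (cl (e8 none)) := by
  intro h
  rcases inE_types hpq hqk hpk h with h | h
  · exact Cfsg.Agent.MonsterU.InvPair.not_zero_four (h ▸ isType_e8)
  · exact Cfsg.Agent.MonsterU.InvPair.not_two_four h isType_e8

theorem four_dd (i j l : GolayPt) : (4 : ℤ) ∣ ((dd i j : leechLattice) : GolayPt → ℤ) l := by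
  rw [dd_coe]
  split_ifs <;> norm_num

/-- **Fusion in the centraliser of the two axes.** -/
theorem fus {L : Lift M θ} (hP : Pair L p q k x₁ x₂) {τ : G} {y : P} (T : TauHyp M θ Γ τ y) :
    Fus M Γ x₁ x₂ := by
  obtain ⟨qz, hqz⟩ := T.z_mem
  have hι := ι_inj L
  have key : ∀ (x : P) (v : leechLattice), clP L x = cl v → (∀ i, (4 : ℤ) ∣ (v : GolayPt → ℤ) i) →
      ∃ q, M.ι x = τ * M.ι q * τ⁻¹ := by
    intro x v hx h4
    obtain ⟨q, hq⟩ := T.E_mem v h4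
    rcases (clP_eq_cl L).1 hx with h | h
    · exact ⟨q, by rw [h, hq]⟩
    · refine ⟨qz * q, ?_⟩
      rw [h, map_mul, hq, map_mul]
      change M.z * _ = _
      rw [hqz]; group
  obtain ⟨q₁, h₁⟩ := key x₁ _ hP.h₁ (four_dd p q)
  obtain ⟨q₂, h₂⟩ := key x₂ _ hP.h₂ (four_dd q k)
  have hy : clP L y = cl (e8 none) := (clP_eq_cl L).2 T.y_eq
  have hzy : τ * M.ι M.zc * τ⁻¹ = M.ι y := T.τ_z
  obtain ⟨u, hu1, hu2, huz⟩ : ∃ u : P, u * q₁ = q₁ * u ∧ u * q₂ = q₂ * u ∧ u * qz ≠ qz * u := by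
    by_contra hcon
    push Not at hcon
    -- `s` is one of `1, q₁, q₂, q₁ q₂`
    have main : ∀ s x : P, M.ι x = τ * M.ι s * τ⁻¹ → InE p q k (clP L x) → (qz = 1 → False) →
        (s = 1 ∨ clP L x ≠ 0) → ¬ Eqz M qz s := by
      intro s x hsx hx h1 hs h
      rcases h with h | h
      · rcases hs with hs | hs
        · exact h1 (h.trans hs)
        · apply hs
          have h2 : M.ι x = M.ι M.zc := by
            rw [hsx, ← h, ← hqz]; rfl
          rw [hι h2, ← mul_one M.zc, clP_zc_mul, clP_one]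
      · have h2 : M.ι M.zc = M.ι (y * x) := by
          change M.z = _
          rw [hqz, h, map_mul, map_mul, hsx, ← hzy]; group
        have h3 := congrArg (clP L) (hι h2)
        rw [clP_mul, hy, ← mul_one M.zc, clP_zc_mul, clP_one] at h3
        have h4 : cl (e8 none) = clP L x := eq_of_add_eq_zero h3.symm
        exact not_inE_e8 hP.pq hP.qk hP.pk (h4 ▸ hx)
    have hz1 : qz = 1 → False := by
      intro h
      apply z_ne_one L
      rw [hqz, h, map_one]; group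
    have ne2 : ∀ x : P, IsType 2 (clP L x) → clP L x ≠ 0 := by
      rintro x ⟨v, hv, e⟩ h0
      rw [h0] at e
      obtain ⟨w, hw⟩ := cl_eq_zero.1 e
      have h5 : sqNorm (v : GolayPt → ℤ) = 4 * sqNorm (w : GolayPt → ℤ) := by
        rw [hw]
        unfold sqNorm
        rw [Finset.mul_sum]
        refine Finset.sum_congr rfl fun i _ => ?_
        have : ((2 • w : leechLattice) : GolayPt → ℤ) i = 2 * (w : GolayPt → ℤ) i := by
          rw [two_smul]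
          show (w : GolayPt → ℤ) i + (w : GolayPt → ℤ) i = _
          ring
        rw [this]; ring
      have h6 := dvd_norm w
      omega
    have i1 : IsType 2 (clP L x₁) := ⟨dd p q, sqNorm_dd hP.pq, hP.h₁.symm⟩
    have i2 : IsType 2 (clP L x₂) := ⟨dd q k, sqNorm_dd hP.qk, hP.h₂.symm⟩
    have i3 : IsType 2 (clP L (x₁ * x₂)) := ⟨dd p k, sqNorm_dd hP.pk, by
      rw [clP_mul, hP.h₁, hP.h₂, ← map_add, dd_add]⟩
    rcases Cfsg.Agent.MonsterU.PlaneM2.bicomm L hcon with h | h | h | h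
    · exact main 1 1 (by rw [map_one]; group) (by rw [clP_one]; exact Or.inl rfl) hz1 (Or.inl rfl) h
    · exact main q₁ x₁ h₁ (by rw [hP.h₁]; exact Or.inr (Or.inl rfl)) hz1 (Or.inr (ne2 _ i1)) h
    · exact main q₂ x₂ h₂ (by rw [hP.h₂]; exact Or.inr (Or.inr (Or.inl rfl))) hz1 (Or.inr (ne2 _ i2)) h
    · exact main (q₁ * q₂) (x₁ * x₂) (by rw [map_mul, map_mul, h₁, h₂]; group)
        (by rw [clP_mul, hP.h₁, hP.h₂]; exact Or.inr (Or.inr (Or.inr rfl))) hz1 (Or.inr (ne2 _ i3)) h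
  have hcomm : ∀ {x r : P}, M.ι x = τ * M.ι r * τ⁻¹ → u * r = r * u →
      τ * M.ι u * τ⁻¹ * M.ι x = M.ι x * (τ * M.ι u * τ⁻¹) := by
    intro x r hx hur
    rw [hx]
    calc τ * M.ι u * τ⁻¹ * (τ * M.ι r * τ⁻¹) = τ * (M.ι u * M.ι r) * τ⁻¹ := by group
      _ = τ * (M.ι r * M.ι u) * τ⁻¹ := by rw [← map_mul, hur, map_mul]
      _ = _ := by group
  have huz' : u * qz * u⁻¹ = M.zc * qz := by
    rcases M.comm_or u qz with h | h
    · exact absurd (mul_inv_eq_iff_eq_mul.1 h) huz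
    · exact h
  have hgz : τ * M.ι u * τ⁻¹ * M.z * (τ * M.ι u * τ⁻¹)⁻¹ = M.ι (y * M.zc) := by
    have h5 : τ * M.ι u * τ⁻¹ * M.z * (τ * M.ι u * τ⁻¹)⁻¹ = τ * (M.ι (u * qz * u⁻¹)) * τ⁻¹ := by
      rw [hqz, map_mul, map_mul, map_inv]; group
    rw [h5, huz', map_mul, map_mul, ← hzy]
    change _ = _ * M.z
    rw [hqz]; group
  refine ⟨τ * M.ι u * τ⁻¹, mem_X.2 ⟨Γ.mul_mem (Γ.mul_mem T.τ_mem (T.K_le (M.ι_mem u))) (Γ.inv_mem T.τ_mem),
    hcomm h₁ hu1, hcomm h₂ hu2⟩, ⟨_, hgz⟩, ?_⟩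
  rw [hgz]
  intro h
  have h5 : y * M.zc = M.zc := hι h
  have h6 : y = 1 := by
    have := congrArg (· * M.zc⁻¹) h5
    simpa using this
  rw [h6, clP_one] at hy
  exact Cfsg.Agent.MonsterU.InvPair.not_zero_four (hy ▸ isType_e8)

/-- `z` is not conjugate to a short element. -/
theorem nconj (L : Lift M θ) [Finite G] {t : P} (ht : t ∈ M.Sh)
    (h43 : ¬ 2 ^ 43 ∣ Nat.card ↥(Subgroup.centralizer ({M.ι t} : Set G))) :
    ∀ g : G, ∀ s ∈ M.Sh, g * M.z * g⁻¹ ≠ M.ι s := by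
  intro g s hs e
  apply h43
  obtain ⟨k, hk, A, α, T, hA, hα⟩ := trans_Sh L t s ht hs
  have h1 : k * M.ι t * k⁻¹ = M.ι s := by
    rw [Cfsg.Agent.MonsterX.KLift.conj_ι hA, hα, mul_inv_cancel_right]
  have h2 : (k⁻¹ * g) * M.z * (k⁻¹ * g)⁻¹ = M.ι t := by
    calc (k⁻¹ * g) * M.z * (k⁻¹ * g)⁻¹ = k⁻¹ * (g * M.z * g⁻¹) * k := by group
      _ = k⁻¹ * (k * M.ι t * k⁻¹) * k := by rw [e, h1]
      _ = M.ι t := by group
  have h3 : 2 ^ 43 ∣ Nat.card M.K := by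
    have h4 := Cfsg.Agent.MonsterU.InvPair.relIndex_K L ht
    have h5 : Nat.card (RealComB.CK M t) * (M.K ⊓ Subgroup.centralizer {M.ι t}).relIndex M.K =
        Nat.card M.K := by
      rw [← Subgroup.relIndex_bot_left, ← Subgroup.relIndex_bot_left]
      exact Subgroup.relIndex_mul_relIndex _ _ _ bot_le inf_le_left
    rw [← h5, h4, show 2 ^ 43 = 2 ^ 42 * 2 by norm_num]
    exact Nat.mul_dvd_mul (RealComB.two42 L ht) (by norm_num)
  refine h3.trans ?_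
  have h6 : Nat.card M.K = Nat.card (M.K.map (MulAut.conj (k⁻¹ * g)).toMonoidHom) :=
    (Subgroup.card_map_of_injective (MulAut.conj (k⁻¹ * g)).injective).symm
  rw [h6]
  apply Subgroup.card_dvd_of_le
  rintro _ ⟨x, hx, rfl⟩
  rw [Subgroup.mem_centralizer_singleton_iff]
  show (k⁻¹ * g) * x * (k⁻¹ * g)⁻¹ * M.ι t = M.ι t * ((k⁻¹ * g) * x * (k⁻¹ * g)⁻¹)
  rw [← h2]
  have h7 := M.z_comm_K x hx
  calc (k⁻¹ * g) * x * (k⁻¹ * g)⁻¹ * ((k⁻¹ * g) * M.z * (k⁻¹ * g)⁻¹)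
      = (k⁻¹ * g) * (x * M.z) * (k⁻¹ * g)⁻¹ := by group
    _ = (k⁻¹ * g) * (M.z * x) * (k⁻¹ * g)⁻¹ := by rw [h7]
    _ = _ := by group

/-- **The field `big_a`.** -/
theorem big_a (L : Lift M θ) [Finite G] {τ : G} {y : P} (T : TauHyp M θ ⊤ τ y) {t : P} (ht : t ∈ M.Sh)
    (h43 : ¬ 2 ^ 43 ∣ Nat.card ↥(Subgroup.centralizer ({M.ι t} : Set G))) {s : P} {o b : leechLattice}
    (hto : clP L t = cl o) (hsb : clP L s = cl b) (ho : nrm o = 32) (hb : nrm b = 32)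
    (hob : dot o b = 16) {hmem : M.ι s ∈ Subgroup.centralizer ({M.ι t} : Set G)} :
    KEq.Big (↥(Subgroup.centralizer ({M.ι t} : Set G))) ⟨M.ι t, RealComB.self_mem _⟩ ⟨M.ι s, hmem⟩ := by
  have H : Hyp M ⊤ := ⟨le_top, T.cent, inferInstance, fun g _ s hs => nconj L ht h43 g s hs⟩
  obtain ⟨p, q, k, hpq, hqk, hpk⟩ : ∃ p q k : GolayPt, p ≠ q ∧ q ≠ k ∧ p ≠ k :=
    ⟨none, some 0, some 1, by decide, by decide, by decide⟩
  obtain ⟨A, hA1, hA2⟩ := Cfsg.Agent.MonsterP.LeechTriple.exists_pair o b (dd p q) (-(dd q k)) ho hb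
    (sqNorm_dd hpq) (by
      rw [Cfsg.Agent.MonsterX.Lat.nrm_neg]
      exact sqNorm_dd hqk) hob (by
      show dotInt _ _ = _
      rw [dot_dd hpq]
      show 4 * (-((dd q k : leechLattice) : GolayPt → ℤ) p - -((dd q k : leechLattice) : GolayPt → ℤ) q) = 16
      rw [dd_coe, dd_coe, if_neg hpq, if_neg hpk, if_pos rfl, if_neg hqk]
      norm_num)
  obtain ⟨c, hcK, hc⟩ := exists_ind M A
  obtain ⟨α, a1', a2⟩ := aut L hcK hc
  have a1 : ∀ r, c * M.ι r * c⁻¹ = M.ι (α r) := fun r => mul_inv_eq_iff_eq_mul.2 (a1' r)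
  have hP : Pair L p q k (α t) (α s) :=
    ⟨hpq, hqk, hpk, by rw [a2, hto, smul_cl, hA1], by rw [a2, hsb, smul_cl, hA2, cl_neg]⟩
  refine BigX.big hP H (fus hP T)
    ((MulAut.conj c).toMonoidHom.comp (Subgroup.centralizer ({M.ι t} : Set G)).subtype) ?_ ?_ ?_ ?_
  · intro x x' h
    exact Subtype.ext ((MulAut.conj c).injective h)
  · intro g
    rw [← a1]
    constructor
    · rintro ⟨x, rfl⟩
      refine ⟨Subgroup.mem_top _, ?_⟩
      have hx := Subgroup.mem_centralizer_singleton_iff.1 x.2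
      show c * x * c⁻¹ * (c * M.ι t * c⁻¹) = c * M.ι t * c⁻¹ * (c * x * c⁻¹)
      calc c * x * c⁻¹ * (c * M.ι t * c⁻¹) = c * (x * M.ι t) * c⁻¹ := by group
        _ = c * (M.ι t * x) * c⁻¹ := by rw [hx]
        _ = _ := by group
    · rintro ⟨-, hg⟩
      refine ⟨⟨c⁻¹ * g * c, Subgroup.mem_centralizer_singleton_iff.2 ?_⟩, ?_⟩
      · calc c⁻¹ * g * c * M.ι t = c⁻¹ * (g * (c * M.ι t * c⁻¹)) * c := by group
          _ = c⁻¹ * ((c * M.ι t * c⁻¹) * g) * c := by rw [hg]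
          _ = _ := by group
      · show c * (c⁻¹ * g * c) * c⁻¹ = g
        group
  · exact a1 t
  · exact a1 s

end Cfsg.Agent.MonsterN.BigAModel
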