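import Cfsg.Agent.MonsterN.Asm
import Cfsg.Agent.MonsterU.Assembly
import Cfsg.Agent.MonsterX.KModel

/-!
# The fields `card_center`, `perf`, `quot` of `Asm.Model` for the centraliser of a `2A` involution of the model

`perf_of`: a nonsplit double cover of a noncommutative simple group is perfect.
`fields`: the three fields for `C_M(t)`, from the nodes of the Monster in the model.
`h43`: `2 ^ 43` does not divide `|C_M(t)|`.
-/

set_option autoImplicit false

open Subgroup
open scoped commutatorElement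

namespace Cfsg.Agent.MonsterN.ModelB

open Cfsg Cfsg.Agent.MonsterX.Model Cfsg.Agent.MonsterX.MainPack Cfsg.Agent.MonsterX.MainSimple
  Cfsg.Agent.MonsterX.MainBasic Cfsg.Agent.MonsterU.Assembly

/-- A nonsplit double cover of a noncommutative simple group is perfect. -/
theorem perf_of {H K : Type*} [Group H] [Finite H] [Group K] [IsSimpleGroup K]
    (hK : ∃ a b : K, a * b ≠ b * a) (h : IsNonsplitDoubleCover H K) : commutator H = ⊤ := by
  obtain ⟨hZ, ⟨e⟩, hns⟩ := h
  -- the image of the commutator subgroup in the quotient is everything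
  have hmap : (commutator H).map (QuotientGroup.mk' (center H)) = ⊤ := by
    have hN : ((commutator H).map (QuotientGroup.mk' (center H))).Normal :=
      Subgroup.Normal.map inferInstance _ (QuotientGroup.mk'_surjective _)
    have hs : IsSimpleGroup (H ⧸ center H) := by
      have : Nontrivial (H ⧸ center H) := e.toEquiv.nontrivial
      exact IsSimpleGroup.isSimpleGroup_of_surjective e.symm.toMonoidHom e.symm.surjective
    rcases hs.eq_bot_or_eq_top_of_normal _ hN with h1 | h1
    · exfalso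
      obtain ⟨a, b, hab⟩ := hK
      obtain ⟨x, hx⟩ := QuotientGroup.mk'_surjective (center H) (e.symm a)
      obtain ⟨y, hy⟩ := QuotientGroup.mk'_surjective (center H) (e.symm b)
      have h2 : QuotientGroup.mk' (center H) ⁅x, y⁆ = 1 := by
        rw [← mem_bot, ← h1]
        exact mem_map_of_mem _ (commutator_mem_commutator (mem_top x) (mem_top y))
      rw [map_commutatorElement, hx, hy, commutatorElement_eq_one_iff_mul_comm, ← map_mul, ← map_mul] at h2
      exact hab (e.symm.injective h2)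
    · exact h1
  have hsup : commutator H ⊔ center H = ⊤ := by
    rw [eq_top_iff]
    intro x _
    have hx : QuotientGroup.mk' (center H) x ∈ (commutator H).map (QuotientGroup.mk' (center H)) := by
      rw [hmap]; exact mem_top _
    obtain ⟨y, hy, hxy⟩ := hx
    have h3 : y⁻¹ * x ∈ center H := (QuotientGroup.eq (s := center H)).1 hxy
    have : x = y * (y⁻¹ * x) := by group
    rw [this]
    exact mul_mem (mem_sup_left hy) (mem_sup_right h3)
  by_contra hne
  apply hns (commutator H)
  rw [isComplement'_comm]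
  refine isComplement'_of_disjoint_and_mul_eq_univ ?_ ?_
  · rw [disjoint_iff]
    by_contra hb
    apply hne
    have h4 : center H ≤ commutator H := by
      have h5 : Nat.card ↥(commutator H ⊓ center H) ∣ Nat.card (center H) :=
        card_dvd_of_le inf_le_right
      rw [hZ] at h5
      have h6 : Nat.card ↥(commutator H ⊓ center H) ≠ 1 := fun h7 => hb (card_eq_one.1 h7)
      have h8 : Nat.card ↥(commutator H ⊓ center H) = 2 := by
        rcases (Nat.dvd_prime Nat.prime_two).1 h5 with h9 | h9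
        · exact absurd h9 h6
        · exact h9
      have h9 : commutator H ⊓ center H = center H :=
        eq_of_le_of_card_ge inf_le_right (by rw [h8, hZ])
      exact inf_eq_right.1 h9
    rw [← hsup, sup_eq_left.2 h4]
  · rw [← normal_mul, hsup]; rfl

theorem noncomm {K : Type*} [Group K] (h : IsB K) : ∃ a b : K, a * b ≠ b * a := by
  by_contra hcon
  push Not at hcon
  obtain ⟨h1, h2⟩ := h
  have : IsMulCommutative K := ⟨⟨hcon⟩⟩
  have hp : (Nat.card K).Prime := Group.is_simple_iff_prime_card.1 h1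
  rw [h2] at hp
  exact absurd hp (by norm_num)

variable {W : Type} [AddCommGroup W] [Module ℚ W] {M : MData W} {K₀ : Type} [Group K₀]

/-- the order of the centraliser of a `2A` involution is not divisible by `2 ^ 43` -/
theorem h43 (A : All M K₀) {t : M.G} (ht : ∃ g : M.G, g * tG A.hG A.hR * g⁻¹ = t) :
    ¬ 2 ^ 43 ∣ Nat.card (centralizer ({t} : Set M.G)) := by
  obtain ⟨g, rfl⟩ := ht
  rw [← Nat.card_congr (Cfsg.Agent.MonsterX.MonsterPack.centConj g (tG A.hG A.hR)).toEquiv,
    card_cent_t A.hG A.hR A.hL A.hO A.hT]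
  norm_num

theorem card_cent (A : All M K₀) {t : M.G} (ht : ∃ g : M.G, g * tG A.hG A.hR * g⁻¹ = t) :
    Nat.card (centralizer ({t} : Set M.G)) = 2 * 4154781481226426191177580544000000 := by
  obtain ⟨g, rfl⟩ := ht
  rw [← Nat.card_congr (Cfsg.Agent.MonsterX.MonsterPack.centConj g (tG A.hG A.hR)).toEquiv,
    card_cent_t A.hG A.hR A.hL A.hO A.hT]

/-- `C_M(t)` is a nonsplit double cover of `Spor.BabyMonster`. -/
theorem isNonsplit (A : All M K₀) {y : ℕ → M.G} (hP : Cfsg.Agent.Bimonster.PRel y) (hne : y 0 ≠ y 1)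
    (hy : ∃ g : M.G, g * tG A.hG A.hR * g⁻¹ = y 10) (hB : Cfsg.IsB Cfsg.Spor.BabyMonster)
    {t : M.G} (ht : ∃ g : M.G, g * tG A.hG A.hR * g⁻¹ = t) :
    Cfsg.IsNonsplitDoubleCover (centralizer ({t} : Set M.G)) Cfsg.Spor.BabyMonster := by
  have := G_finite A.hO
  have h := babyHyp A.hG A.hR A.hL A.hO A.hT A.hB
  obtain ⟨g, hg⟩ := hy
  obtain ⟨k, rfl⟩ := ht
  -- conjugate the nodes
  have hP' : Cfsg.Agent.Bimonster.PRel (fun i => (MulAut.conj g⁻¹).toMonoidHom (y i)) := hP.map _
  have h10 : (MulAut.conj g⁻¹).toMonoidHom (y 10) = tG A.hG A.hR := by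
    show g⁻¹ * y 10 * g⁻¹⁻¹ = _
    rw [← hg]; group
  have hsq : h.tH ∈ Subgroup.closure
      {x : Subgroup.centralizer ({tG A.hG A.hR} : Set M.G) | ∃ y, x = y * y} := by
    obtain ⟨a, ha, hat, c, hc, hct, e⟩ := A.hB.sq
    let a' : Subgroup.centralizer ({tG A.hG A.hR} : Set M.G) :=
      ⟨⟨a, C_le ha⟩, (mem_cent_t_iff A.hG A.hR _).2 hat⟩
    let c' : Subgroup.centralizer ({tG A.hG A.hR} : Set M.G) :=
      ⟨⟨c, C_le hc⟩, (mem_cent_t_iff A.hG A.hR _).2 hct⟩
    have e' : h.tH = a' * (c' * a' * c'⁻¹) := Subtype.ext (Subtype.ext e)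
    rw [e']
    exact Cfsg.Agent.MonsterX.MonsterPack.mul_conj_mem_closure_sq a' c'
  have hns := cover_aux hP' h10 h hsq (card_cent_t A.hG A.hR A.hL A.hO A.hT) hB
    (fun e => hne ((MulAut.conj g⁻¹).injective e))
  -- `tH` generates the centre
  have hZ : Nat.card (center (centralizer ({tG A.hG A.hR} : Set M.G))) = 2 := hns.1
  obtain ⟨e⟩ := hns.2.1
  exact Cfsg.Agent.MonsterX.MonsterPack.isNonsplit_transport
    (Cfsg.Agent.MonsterX.MonsterPack.centConj k (tG A.hG A.hR)) hZ e (c := h.tH)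
    (by rw [h.center_eq]; exact mem_zpowers _) (fun h1 => h.t1 (congrArg Subtype.val h1)) hsq

/-- **The fields `card_center`, `perf`, `quot` of `Asm.Model`** for `C_M(t)`. -/
theorem fields (A : All M K₀) {y : ℕ → M.G} (hP : Cfsg.Agent.Bimonster.PRel y) (hne : y 0 ≠ y 1)
    (hy : ∃ g : M.G, g * tG A.hG A.hR * g⁻¹ = y 10) (hB : Cfsg.IsB Cfsg.Spor.BabyMonster)
    {t : M.G} (ht : ∃ g : M.G, g * tG A.hG A.hR * g⁻¹ = t) :
    Nat.card (center (centralizer ({t} : Set M.G))) = 2 ∧
    commutator (centralizer ({t} : Set M.G)) = ⊤ ∧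
    Nonempty (↥(centralizer ({t} : Set M.G)) ⧸
      center (centralizer ({t} : Set M.G)) ≃* Spor.BabyMonster) := by
  have := G_finite A.hO
  have h := isNonsplit A hP hne hy hB ht
  have := hB.1
  exact ⟨h.1, perf_of (noncomm hB) h, h.2.1⟩

section KS

open Cfsg.Agent.MonsterX.KSide Cfsg.Agent.MonsterX.KLift Cfsg.Agent.MonsterX.KModel

variable {V P W' : Type} [AddCommGroup V] [Module ℚ V] [Group P] [AddCommGroup W'] [Module ℚ W']
  {D : MData V} {N : KS ↥D.G V P W'} {x₀ : P} {θ : leechLattice → P}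

/-- the involution `ι t` of the model, `t` short, is conjugate to `tG` -/
theorem exists_conj_t (hG : MGroup D K₀) (hR : MRep D) (H : Link D N x₀) (L : Lift N θ) {t : P}
    (ht : t ∈ N.Sh) : ∃ g : D.G, g * tG hG hR * g⁻¹ = N.ι t := by
  have h0 : tG hG hR = N.ι x₀ := Subtype.ext H.t₀_eq
  obtain ⟨k, -, A, α, T, hA, e⟩ := trans_Sh L x₀ t H.x₀_mem ht
  refine ⟨k, ?_⟩
  have h1 := conj_ι hA x₀
  rw [h0, h1, e, mul_inv_cancel_right]

/-- **The fields `card_center`, `perf`, `quot` of `Asm.Model` and `h43`** for the carrier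
`B = centralizer {ι t}`, `t` short. -/
theorem fieldsKS (A : All D K₀) (H : Link D N x₀) (L : Lift N θ) {y : ℕ → D.G}
    (hP : Cfsg.Agent.Bimonster.PRel y) (hne : y 0 ≠ y 1)
    (hy : ∃ g : D.G, g * tG A.hG A.hR * g⁻¹ = y 10) (hB : Cfsg.IsB Cfsg.Spor.BabyMonster)
    {t : P} (ht : t ∈ N.Sh) :
    (Nat.card (center (centralizer ({N.ι t} : Set D.G))) = 2 ∧
      commutator (centralizer ({N.ι t} : Set D.G)) = ⊤ ∧
      Nonempty (↥(centralizer ({N.ι t} : Set D.G)) ⧸
        center (centralizer ({N.ι t} : Set D.G)) ≃* Spor.BabyMonster)) ∧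
    ¬ 2 ^ 43 ∣ Nat.card (centralizer ({N.ι t} : Set D.G)) :=
  ⟨fields A hP hne hy hB (exists_conj_t A.hG A.hR H L ht), h43 A (exists_conj_t A.hG A.hR H L ht)⟩

end KS

end Cfsg.Agent.MonsterN.ModelB
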