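import Cfsg.Agent.MonsterN.BigX
import Cfsg.Agent.MonsterU.InvPairCls
import Cfsg.Agent.MonsterN.ModelB

/-!
# S1737: `Big` for an axis in `C_M(t)`

`exists_pair`: the standard pair of short elements of `P`.
`fus`: some element of `C_Γ(ι x₁, ι x₂)` moves `z` inside `ι P`.
`big_a`: `Big ↥(centralizer {M.ι t}) ⟨M.ι t, _⟩ ⟨M.ι a, _⟩` for `t`, `a`, `t a` short.
`big_aKS`: the same for the model group.
-/

set_option autoImplicit false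

namespace Cfsg.Agent.MonsterN.BigModel

open Cfsg Cfsg.Spor Cfsg.Agent.LeechMat.Core Cfsg.Agent.MonsterX.KSide Cfsg.Agent.MonsterX.KLift
open Cfsg.Agent.MonsterX.FrameKS Cfsg.Agent.MonsterU.TwoCls Cfsg.Agent.MonsterU.InvTwo
open Cfsg.Agent.MonsterU.Lam2 (L2 cl cl_surjective bf bf_zero_left)
open Cfsg.Agent.MonsterU.TwoQ (aut ind_exists)
open Cfsg.Agent.MonsterN.TriLat Cfsg.Agent.MonsterN.TriSimple Cfsg.Agent.MonsterN.BigA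
open Cfsg.Agent.MonsterN.BigX (big)

variable {G V P W : Type*} [Group G] [AddCommGroup V] [Module ℚ V]
  [DistribMulAction G V] [SMulCommClass G ℚ V] [Group P] [AddCommGroup W] [Module ℚ W]
  {M : KS G V P W} {θ : leechLattice → P} {Γ : Subgroup G} {p q k : GolayPt} {x₁ x₂ y : P} {τ : G}

theorem exists_pair (L : Lift M θ) : ∃ (p q k : GolayPt) (x₁ x₂ : P), Pair L p q k x₁ x₂ := by
  obtain ⟨x₁, h1⟩ := clP_surjective L (cl (dd none (some 0)))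
  obtain ⟨x₂, h2⟩ := clP_surjective L (cl (dd (some 0) (some 1)))
  exact ⟨none, some 0, some 1, x₁, x₂, by decide, by decide, by decide, h1, h2⟩

/-- Elements of `P` over vectors with coordinates divisible by 4 are in `τ ι(P) τ⁻¹`. -/
theorem exists_conj (L : Lift M θ) (H : TauHyp M θ Γ τ y) {x : P} {v : leechLattice} (hx : clP L x = cl v)
    (hv : ∀ i, (4 : ℤ) ∣ (v : GolayPt → ℤ) i) : ∃ u, τ⁻¹ * M.ι x * τ⁻¹⁻¹ = M.ι u := by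
  obtain ⟨u, hu⟩ := H.E_mem v hv
  obtain ⟨w, hw⟩ := H.z_mem
  rcases (clP_eq_cl L).1 hx with e | e
  · exact ⟨u, by rw [e, hu]; group⟩
  · refine ⟨w * u, ?_⟩
    rw [e, map_mul, hu, show M.ι M.zc = M.z from rfl, hw, map_mul]; group

/-- Some element of `X` moves `z` inside `ι P`. -/
theorem fus {L : Lift M θ} (H : TauHyp M θ Γ τ y) (hne : ∀ t ∈ M.Sh, ¬ ∃ g ∈ Γ, g * M.ι t * g⁻¹ = M.z)
    (hP : Pair L p q k x₁ x₂) : Fus M Γ x₁ x₂ := by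
  have hd : ∀ a b i, (4 : ℤ) ∣ (dd a b : GolayPt → ℤ) i := fun a b i => ⟨_, dd_coe a b i⟩
  obtain ⟨u₁, hu₁⟩ := exists_conj L H hP.h₁ (hd p q)
  obtain ⟨u₂, hu₂⟩ := exists_conj L H hP.h₂ (hd q k)
  obtain ⟨w, hw⟩ := H.z_mem
  have hS₁ := MonsterU.InvPair.mem_Sh_of_conj L H (sh₁ hP) (hne _ (sh₁ hP)) (Γ.inv_mem H.τ_mem) hu₁
  obtain ⟨k₁, hk₁, h1, h2⟩ := MonsterU.InvPair.exists_K_Sh L (sh₁ hP) hS₁
  obtain ⟨u, hu⟩ := h2 u₂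
  have hg₁ : k₁ * τ⁻¹ ∈ Γ := Γ.mul_mem (H.K_le hk₁) (Γ.inv_mem H.τ_mem)
  have e1 : (k₁ * τ⁻¹) * M.ι x₁ * (k₁ * τ⁻¹)⁻¹ = M.ι x₁ := by
    rw [show (k₁ * τ⁻¹) * M.ι x₁ * (k₁ * τ⁻¹)⁻¹ = k₁ * (τ⁻¹ * M.ι x₁ * τ⁻¹⁻¹) * k₁⁻¹ by group, hu₁, h1]
  have e2 : (k₁ * τ⁻¹) * M.ι x₂ * (k₁ * τ⁻¹)⁻¹ = M.ι u := by
    rw [← hu, ← hu₂]; group
  have e3 : (k₁ * τ⁻¹) * M.ι (x₁ * x₂) * (k₁ * τ⁻¹)⁻¹ = M.ι (x₁ * u) := by
    rw [map_mul, map_mul, ← e2]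
    nth_rw 2 [← e1]
    group
  obtain ⟨k₂, hk₂, f1, f2⟩ := MonsterU.InvPair.trans_A L (sh₁ hP)
    (MonsterU.InvPair.mem_Sh_of_conj L H (sh₂ hP) (hne _ (sh₂ hP)) hg₁ e2)
    (MonsterU.InvPair.mem_Sh_of_conj L H (sh₁₂ hP) (hne _ (sh₁₂ hP)) hg₁ e3) (sh₂ hP) (sh₁₂ hP)
  have hk : k₂ * k₁ ∈ M.K := M.K.mul_mem hk₂ hk₁
  refine ⟨k₂ * (k₁ * τ⁻¹), mem_X.2 ⟨Γ.mul_mem (H.K_le hk₂) hg₁, ?_, ?_⟩, ?_, ?_⟩
  · rw [← mul_inv_eq_iff_eq_mul,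
      show k₂ * (k₁ * τ⁻¹) * M.ι x₁ * (k₂ * (k₁ * τ⁻¹))⁻¹ = k₂ * ((k₁ * τ⁻¹) * M.ι x₁ * (k₁ * τ⁻¹)⁻¹) * k₂⁻¹ by
        group, e1, f1]
  · rw [← mul_inv_eq_iff_eq_mul,
      show k₂ * (k₁ * τ⁻¹) * M.ι x₂ * (k₂ * (k₁ * τ⁻¹))⁻¹ = k₂ * ((k₁ * τ⁻¹) * M.ι x₂ * (k₁ * τ⁻¹)⁻¹) * k₂⁻¹ by
        group, e2, f2]
  · obtain ⟨A, hA⟩ := ind_exists hk
    obtain ⟨α, ha, -⟩ := aut L hk hA
    refine ⟨α w, ?_⟩
    rw [show k₂ * (k₁ * τ⁻¹) * M.z * (k₂ * (k₁ * τ⁻¹))⁻¹ = (k₂ * k₁) * (τ⁻¹ * M.z * τ) * (k₂ * k₁)⁻¹ by group, hw,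
      show τ⁻¹ * (τ * M.ι w * τ⁻¹) * τ = M.ι w by group, ha, mul_inv_cancel_right]
  · intro e
    have h3 : k₂ * (k₁ * τ⁻¹) ∈ M.K :=
      H.cent _ (Γ.mul_mem (H.K_le hk₂) hg₁) (mul_inv_eq_iff_eq_mul.1 e)
    have h4 : τ ∈ M.K := by
      have h5 := M.K.mul_mem (M.K.inv_mem h3) hk
      rwa [show (k₂ * (k₁ * τ⁻¹))⁻¹ * (k₂ * k₁) = τ by group] at h5
    have h5 := H.τ_z
    rw [M.z_comm_K τ h4, mul_inv_cancel_right] at h5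
    apply MonsterU.InvPair.y_ne_zero L H
    rw [clP_eq_zero]
    right
    exact (ι_inj L h5).symm

theorem hyp (H : TauHyp M θ Γ τ y) (hΓ : Finite Γ)
    (hne : ∀ t ∈ M.Sh, ¬ ∃ g ∈ Γ, g * M.ι t * g⁻¹ = M.z) : Hyp M Γ where
  K_le := H.K_le
  cent := H.cent
  fin := hΓ
  nconj := fun g hg t ht e => hne t ht ⟨g⁻¹, Γ.inv_mem hg, by rw [← e]; group⟩

/-- One short element is not conjugate to `z`: none is. -/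
theorem hne_of (L : Lift M θ) (hK : M.K ≤ Γ) {t : P} (ht : t ∈ M.Sh) (h : ¬ ∃ g ∈ Γ, g * M.ι t * g⁻¹ = M.z) :
    ∀ s ∈ M.Sh, ¬ ∃ g ∈ Γ, g * M.ι s * g⁻¹ = M.z := by
  rintro s hs ⟨g, hg, e⟩
  obtain ⟨k, hk, h1, -⟩ := MonsterU.InvPair.exists_K_Sh L hs ht
  exact h ⟨g * k, Γ.mul_mem hg (hK hk), by rw [← e, ← h1]; group⟩

/-- **`Big` for an axis `a`** with `t`, `a`, `t a` short. -/
theorem big_a [Finite G] (L : Lift M θ) (H : TauHyp M θ ⊤ τ y) {t a : P} (ht : t ∈ M.Sh) (ha : a ∈ M.Sh)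
    (hta : t * a ∈ M.Sh) (hne : ¬ ∃ g : G, g * M.ι t * g⁻¹ = M.z)
    (h1 : M.ι t ∈ Subgroup.centralizer ({M.ι t} : Set G))
    (h2 : M.ι a ∈ Subgroup.centralizer ({M.ι t} : Set G)) :
    KEq.Big ↥(Subgroup.centralizer ({M.ι t} : Set G)) ⟨M.ι t, h1⟩ ⟨M.ι a, h2⟩ := by
  obtain ⟨p, q, k, x₁, x₂, hP⟩ := exists_pair L
  have hne' := hne_of L H.K_le ht (Γ := ⊤) (by rintro ⟨g, -, e⟩; exact hne ⟨g, e⟩)
  obtain ⟨k₁, hk₁, e1, e2⟩ := MonsterU.InvPair.exists_K_Sh L (sh₁ hP) ht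
  obtain ⟨a', ha'⟩ := e2 a
  have e3 : k₁ * M.ι (t * a) * k₁⁻¹ = M.ι (x₁ * a') := by
    rw [map_mul, map_mul, ← e1, ← ha']; group
  obtain ⟨k₂, hk₂, f1, f2⟩ := MonsterU.InvPair.trans_A L (sh₁ hP)
    (MonsterU.InvPair.mem_Sh_of_conj L H ha (hne' _ ha) (H.K_le hk₁) ha')
    (MonsterU.InvPair.mem_Sh_of_conj L H hta (hne' _ hta) (H.K_le hk₁) e3) (sh₂ hP) (sh₁₂ hP)
  let φ : ↥(Subgroup.centralizer ({M.ι t} : Set G)) →* G :=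
    (MulAut.conj (k₂ * k₁)).toMonoidHom.comp (Subgroup.subtype _)
  have hφ : ∀ b, φ b = (k₂ * k₁) * (b : G) * (k₂ * k₁)⁻¹ := fun b => rfl
  have g1 : (k₂ * k₁) * M.ι t * (k₂ * k₁)⁻¹ = M.ι x₁ := by rw [← f1, ← e1]; group
  have g2 : (k₂ * k₁) * M.ι a * (k₂ * k₁)⁻¹ = M.ι x₂ := by rw [← f2, ← ha']; group
  refine big hP (hyp H inferInstance hne') (fus H hne' hP) φ
    ((MulAut.conj (k₂ * k₁)).injective.comp Subtype.val_injective) (fun g => ⟨?_, ?_⟩) ((hφ _).trans g1)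
    ((hφ _).trans g2)
  · rintro ⟨b, rfl⟩
    refine ⟨Subgroup.mem_top _, ?_⟩
    have hb := Subgroup.mem_centralizer_singleton_iff.1 b.2
    rw [hφ, ← g1]
    calc (k₂ * k₁) * (b : G) * (k₂ * k₁)⁻¹ * ((k₂ * k₁) * M.ι t * (k₂ * k₁)⁻¹)
        = (k₂ * k₁) * ((b : G) * M.ι t) * (k₂ * k₁)⁻¹ := by group
      _ = (k₂ * k₁) * (M.ι t * b) * (k₂ * k₁)⁻¹ := by rw [hb]
      _ = _ := by group
  · rintro ⟨-, hg⟩
    refine ⟨⟨(k₂ * k₁)⁻¹ * g * (k₂ * k₁), Subgroup.mem_centralizer_singleton_iff.2 ?_⟩, ?_⟩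
    · rw [← g1] at hg
      calc (k₂ * k₁)⁻¹ * g * (k₂ * k₁) * M.ι t
          = (k₂ * k₁)⁻¹ * (g * ((k₂ * k₁) * M.ι t * (k₂ * k₁)⁻¹)) * (k₂ * k₁) := by group
        _ = (k₂ * k₁)⁻¹ * (((k₂ * k₁) * M.ι t * (k₂ * k₁)⁻¹) * g) * (k₂ * k₁) := by rw [hg]
        _ = _ := by group
    · rw [hφ]
      show (k₂ * k₁) * ((k₂ * k₁)⁻¹ * g * (k₂ * k₁)) * (k₂ * k₁)⁻¹ = g
      group

section KS

open Cfsg.Agent.MonsterX.Model Cfsg.Agent.MonsterX.MainPack Cfsg.Agent.MonsterX.MainSimple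
  Cfsg.Agent.MonsterX.MainBasic Cfsg.Agent.MonsterX.KModel Cfsg.Agent.MonsterN.ModelB

variable {V P W' : Type} [AddCommGroup V] [Module ℚ V] [Group P] [AddCommGroup W'] [Module ℚ W']
  {K₀ : Type} [Group K₀] {D : MData V} {N : KS ↥D.G V P W'} {x₀ : P} {θ : leechLattice → P} {τ : D.G} {y : P}

/-- In the model a short element is not conjugate to `z`. -/
theorem hneKS (hG : MGroup D K₀) (hR : MRep D) (hL : MLat D) (hO : MOrbit D) (hT : MTrans D)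
    (H : Link D N x₀) (L : Lift N θ) {t : P} (ht : t ∈ N.Sh) : ¬ ∃ g : D.G, g * N.ι t * g⁻¹ = N.z := by
  rintro ⟨g, e⟩
  obtain ⟨h, e'⟩ := exists_conj_t hG hR H L ht
  have hz : zG hG = N.z := Subtype.ext H.z_eq
  refine z_ne_conj hG hR hL hO hT (g * h).2 ?_
  have h1 : (g * h) * tG hG hR * (g * h)⁻¹ = zG hG := by
    rw [hz, ← e, ← e']; group
  exact congrArg Subtype.val h1

/-- **`Big` for an axis** in the model. -/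
theorem big_aKS (hG : MGroup D K₀) (hR : MRep D) (hL : MLat D) (hO : MOrbit D) (hT : MTrans D)
    (H : Link D N x₀) (L : Lift N θ) (T : TauHyp N θ ⊤ τ y) {t a : P} (ht : t ∈ N.Sh) (ha : a ∈ N.Sh)
    (hta : t * a ∈ N.Sh) (h1 : N.ι t ∈ Subgroup.centralizer ({N.ι t} : Set D.G))
    (h2 : N.ι a ∈ Subgroup.centralizer ({N.ι t} : Set D.G)) :
    KEq.Big ↥(Subgroup.centralizer ({N.ι t} : Set D.G)) ⟨N.ι t, h1⟩ ⟨N.ι a, h2⟩ := by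
  have := G_finite hO
  exact big_a L T ht ha hta (hneKS hG hR hL hO hT H L ht) h1 h2

end KS

end Cfsg.Agent.MonsterN.BigModel
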