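import Cfsg.Agent.MonsterN.BigA

/-!
# The centraliser of two axes in the Monster: the structure `KEq.Big`

Continuation of `BigA`.

* `nrm` : a subgroup of `X` normalised by `X` and not containing `ι x₁` is in `⟨ι x₁, ι x₂⟩`;
* `ind` : `X` has no subgroup of index 2;
* `big` : the structure `KEq.Big`.
-/

set_option autoImplicit false

namespace Cfsg.Agent.MonsterN.BigX

open Cfsg Cfsg.Spor Cfsg.Agent.LeechMat.Core Cfsg.Agent.MonsterX.KSide Cfsg.Agent.MonsterX.KLift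
open Cfsg.Agent.MonsterX.FrameKS Cfsg.Agent.MonsterU.TwoCls Cfsg.Agent.MonsterU.InvTwo
open Cfsg.Agent.MonsterU.Lam2 (L2 cl cl_surjective bf qf add_self neg_eq IsType bf_cl_eq_zero bf_comm
  bf_zero_left)
open Cfsg.Agent.MonsterU.TwoQ (aut ind_exists Ind_conj Ind_mk_eq Ind_of_mk Ind_eq_ι Ind_mem_iff z_comm z_comm_ι)
open Cfsg.Agent.MonsterN.TriLat Cfsg.Agent.MonsterN.TriSimple Cfsg.Agent.MonsterN.BigA

variable {G V P W : Type*} [Group G] [AddCommGroup V] [Module ℚ V]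
  [DistribMulAction G V] [SMulCommClass G ℚ V] [Group P] [AddCommGroup W] [Module ℚ W]
  {M : KS G V P W} {θ : leechLattice → P} {Γ : Subgroup G} {p q k : GolayPt} {x₁ x₂ : P}
  {L : Lift M θ} (hP : Pair L p q k x₁ x₂)

theorem z_def : M.z = M.ι M.zc := rfl

theorem X_le_Γ {g : G} (hg : g ∈ X M Γ x₁ x₂) : g ∈ Γ := (mem_X.1 hg).1

section

include hP

/-- Step 0 -/
theorem inE_of_N (H : Hyp M Γ) {N : Subgroup G} (hN : N ≤ X M Γ x₁ x₂)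
    (hnorm : ∀ m ∈ X M Γ x₁ x₂, ∀ n ∈ N, m * n * m⁻¹ ∈ N) (hx : M.ι x₁ ∉ N) {c : P} (hc : M.ι c ∈ N) :
    InE p q k (clP L c) := by
  by_contra hcon
  have hcP : Pp p q k (clP L c) := (ι_mem_X hP H).1 (hN hc)
  -- `z ∈ N`
  obtain ⟨d, hd, hdc⟩ := exists_ncomm hP H hcon rfl
  have hz : M.z ∈ N := by
    have h1 := hnorm _ hd _ hc
    rw [← map_inv, ← map_mul, ← map_mul, hdc, map_mul] at h1
    have h2 := N.mul_mem h1 (N.inv_mem hc)
    rwa [mul_inv_cancel_right] at h2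
  let U : AddSubgroup L2 :=
    { carrier := {x | ∃ c, clP L c = x ∧ M.ι c ∈ N}
      zero_mem' := ⟨1, clP_one L, by rw [map_one]; exact N.one_mem⟩
      add_mem' := by
        rintro _ _ ⟨c, rfl, hc⟩ ⟨d, rfl, hd⟩
        exact ⟨c * d, clP_mul L c d, by rw [map_mul]; exact N.mul_mem hc hd⟩
      neg_mem' := by
        rintro _ ⟨c, rfl, hc⟩
        exact ⟨c, (neg_eq _).symm, hc⟩ }
  have hU : ∀ g, Fix p q k g → ∀ x ∈ U, g • x ∈ U := by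
    rintro g hg _ ⟨c, rfl, hc⟩
    obtain ⟨h1, h2⟩ := fix_cl hg
    obtain ⟨h, hhK, hh, hhX⟩ := exists_lift hP H h1 h2
    obtain ⟨α, e1, e2⟩ := aut L hhK hh
    refine ⟨α c, e2 c, ?_⟩
    have h3 := hnorm h hhX _ hc
    rwa [e1, mul_inv_cancel_right] at h3
  have hperp : ∀ x ∈ U, Pp p q k x := by
    rintro _ ⟨c, rfl, hc⟩
    exact (ι_mem_X hP H).1 (hN hc)
  obtain ⟨⟨c1, h1, h2⟩, _, _⟩ := mem_of_invariant hP.pq hP.qk hP.pk U hU hperp ⟨c, rfl, hc⟩ hcon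
  rw [← hP.h₁] at h1
  rcases (clP_eq' L).1 h1 with rfl | rfl
  · exact hx h2
  · rw [map_mul] at h2
    have h3 := N.mul_mem (N.inv_mem hz) h2
    rw [z_def, inv_mul_cancel_left] at h3
    exact hx h3

/-- Step 1 -/
theorem E4_of_N (H : Hyp M Γ) (hF : Fus M Γ x₁ x₂) {N : Subgroup G} (hN : N ≤ X M Γ x₁ x₂)
    (hnorm : ∀ m ∈ X M Γ x₁ x₂, ∀ n ∈ N, m * n * m⁻¹ ∈ N) (hx : M.ι x₁ ∉ N) {c : P} (hc : M.ι c ∈ N) :
    E4 x₁ x₂ c := by
  obtain ⟨u, hu, rfl | rfl⟩ := exists_E4 hP (inE_of_N hP H hN hnorm hx hc)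
  · exact hu
  · exfalso
    obtain ⟨g, hg, ⟨c', hc'⟩, hgz⟩ := hF
    apply hgz
    rw [map_mul] at hc
    have h1 := hnorm g hg _ hc
    rw [← z_def, show g * (M.z * M.ι u) * g⁻¹ = (g * M.z * g⁻¹) * (g * M.ι u * g⁻¹) by group, hc',
      comm_E4 hP hu hg, mul_inv_cancel_right, ← map_mul] at h1
    have h2 := (inE_of_N hP H hN hnorm hx h1).add (inE_of_E4 hP hu)
    rw [clP_mul, add_assoc, add_self, add_zero] at h2
    obtain ⟨u', hu', e | e⟩ := exists_E4 hP h2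
    · exact eq_z_of hP H (X_le_Γ hg) hu' (Or.inl (by rw [hc', e]))
    · exact eq_z_of hP H (X_le_Γ hg) hu' (Or.inr (by rw [hc', e, map_mul]; rfl))

/-- Step 2 -/
theorem E4_of_K (H : Hyp M Γ) (hF : Fus M Γ x₁ x₂) {N : Subgroup G} (hN : N ≤ X M Γ x₁ x₂)
    (hnorm : ∀ m ∈ X M Γ x₁ x₂, ∀ n ∈ N, m * n * m⁻¹ ∈ N) (hx : M.ι x₁ ∉ N) {n : G} (hn : n ∈ N)
    (hnK : n ∈ M.K) : ∃ u, E4 x₁ x₂ u ∧ n = M.ι u := by
  obtain ⟨A, hA⟩ := ind_exists hnK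
  obtain ⟨α, h1, h2⟩ := aut L hnK hA
  obtain ⟨a1, a2⟩ := fix_of_mem hP hnK hA (hN hn)
  have hmk := mk_eq_one hP.pq hP.qk hP.pk a1 a2 (fun x hx' => by
    obtain ⟨c, rfl⟩ := clP_surjective L x
    have h3 : M.ι (α c * c⁻¹) ∈ N := by
      have h4 := hnorm _ ((ι_mem_X hP H).2 hx') _ (N.inv_mem hn)
      have h5 := N.mul_mem hn h4
      rw [map_mul, map_inv, eq_mul_inv_of_mul_eq (h1 c).symm]
      rwa [show n * (M.ι c * n⁻¹ * (M.ι c)⁻¹) = n * M.ι c * n⁻¹ * (M.ι c)⁻¹ by group] at h5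
    have h6 := inE_of_N hP H hN hnorm hx h3
    rw [clP_mul, h2, clP_inv] at h6
    rwa [add_comm])
  obtain ⟨c, rfl⟩ := (Ind_mem_iff hnK hA).2 hmk
  exact ⟨c, E4_of_N hP H hF hN hnorm hx hn, rfl⟩

/-- **nrm** -/
theorem nrm (H : Hyp M Γ) (hF : Fus M Γ x₁ x₂) {N : Subgroup G} (hN : N ≤ X M Γ x₁ x₂)
    (hnorm : ∀ m ∈ X M Γ x₁ x₂, ∀ n ∈ N, m * n * m⁻¹ ∈ N) (hx : M.ι x₁ ∉ N) {n : G} (hn : n ∈ N) :
    ∃ u, E4 x₁ x₂ u ∧ n = M.ι u := by
  have hX := fun {u : P} (hu : E4 x₁ x₂ u) => E4_mem_X (Γ := Γ) hP H hu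
  let E : Subgroup G := N ⊓ (EP hP).map M.ι
  have hE : ∀ {e : G}, e ∈ E → ∃ u, E4 x₁ x₂ u ∧ e = M.ι u := by
    rintro e ⟨_, u, hu, rfl⟩
    exact ⟨u, hu, rfl⟩
  have hEN : ∀ {e : G}, e ∈ E → e ∈ N := fun he => he.1
  have hcen : ∀ {e m : G}, e ∈ E → m ∈ X M Γ x₁ x₂ → m * e = e * m := by
    intro e m he hm
    obtain ⟨u, hu, rfl⟩ := hE he
    exact comm_E4 hP hu hm
  have hfix : ∀ n ∈ N, M.z * n * M.z⁻¹ * n⁻¹ ∈ E → n ∈ E := by
    intro n hn he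
    obtain ⟨u, hu, e⟩ := hE he
    have hzz : M.z⁻¹ = M.z := inv_eq_of_mul_eq_one_left M.z_mul
    have h1 : n * M.z * n⁻¹ = M.z * M.ι u := by
      rw [← e, hzz, ← mul_assoc, ← mul_assoc, ← mul_assoc, M.z_mul, one_mul]
    have h2 := eq_z_of hP H (X_le_Γ (hN hn)) hu (Or.inr h1)
    have h3 : n * M.z = M.z * n := mul_inv_eq_iff_eq_mul.1 h2
    obtain ⟨u', hu', e'⟩ := E4_of_K hP H hF hN hnorm hx hn (H.cent n (X_le_Γ (hN hn)) h3)
    exact ⟨hn, u', hu', e'.symm⟩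
  have hNfin : Finite N := by
    have := H.fin
    exact Finite.of_injective (fun n : N => (⟨n, X_le_Γ (hN n.2)⟩ : Γ))
      (fun a b h => Subtype.ext (congrArg (fun t : Γ => (t : G)) h))
  have hzX := z_mem_X (Γ := Γ) hP H
  have hinv : ∀ n ∈ N, M.z * n * M.z⁻¹ * n ∈ E :=
    inverts hNfin (fun e he n hn => (hcen he (hN hn)).symm) M.z_mul (fun n hn => hnorm _ hzX n hn)
      (fun e he => by rw [hcen he hzX, mul_inv_cancel_right]; exact he) hfix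
  -- the second involution
  obtain ⟨g, hg, ⟨c', hc'⟩, hgz⟩ := hF
  have hc'E : ¬ InE p q k (clP L c') := by
    intro h2
    apply hgz
    obtain ⟨u', hu', e | e⟩ := exists_E4 hP h2
    · exact eq_z_of hP H (X_le_Γ hg) hu' (Or.inl (by rw [hc', e]))
    · exact eq_z_of hP H (X_le_Γ hg) hu' (Or.inr (by rw [hc', e, map_mul]; rfl))
  have hinv' : ∀ n ∈ N, M.ι c' * n * (M.ι c')⁻¹ * n ∈ E := by
    intro n hn
    have hn' : g⁻¹ * n * g ∈ N := by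
      have := hnorm _ ((X M Γ x₁ x₂).inv_mem hg) n hn
      rwa [inv_inv] at this
    have h1 := hinv _ hn'
    have h2 := hcen h1 hg
    have h3 : M.ι c' * n * (M.ι c')⁻¹ * n = g * (M.z * (g⁻¹ * n * g) * M.z⁻¹ * (g⁻¹ * n * g)) * g⁻¹ := by
      rw [← hc']; group
    rw [h3, h2, mul_inv_cancel_right]
    exact h1
  -- the elements centralising `N` modulo `E`
  let D : Subgroup G :=
    { carrier := {x | x ∈ X M Γ x₁ x₂ ∧ ∀ n ∈ N, x * n * x⁻¹ * n⁻¹ ∈ E}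
      one_mem' := ⟨(X M Γ x₁ x₂).one_mem, fun n hn => by
        rw [one_mul, inv_one, mul_one, mul_inv_cancel]; exact E.one_mem⟩
      mul_mem' := by
        rintro x y ⟨hx, hx'⟩ ⟨hy, hy'⟩
        refine ⟨(X M Γ x₁ x₂).mul_mem hx hy, fun n hn => ?_⟩
        have h1 : x * y * n * (x * y)⁻¹ * n⁻¹ = (x * (y * n * y⁻¹ * n⁻¹)) * (n * x⁻¹ * n⁻¹) := by group
        rw [h1, hcen (hy' n hn) hx, show (y * n * y⁻¹ * n⁻¹) * x * (n * x⁻¹ * n⁻¹) =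
          (y * n * y⁻¹ * n⁻¹) * (x * n * x⁻¹ * n⁻¹) by group]
        exact E.mul_mem (hy' n hn) (hx' n hn)
      inv_mem' := by
        rintro x ⟨hx, hx'⟩
        refine ⟨(X M Γ x₁ x₂).inv_mem hx, fun n hn => ?_⟩
        have hn' : x⁻¹ * n * x⁻¹⁻¹ ∈ N := hnorm _ ((X M Γ x₁ x₂).inv_mem hx) n hn
        have h1 := E.inv_mem (hx' _ hn')
        have h2 : (x * (x⁻¹ * n * x⁻¹⁻¹) * x⁻¹ * (x⁻¹ * n * x⁻¹⁻¹)⁻¹)⁻¹ = x⁻¹ * n * x⁻¹⁻¹ * n⁻¹ := by group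
        rwa [h2] at h1 }
  have hDX : ∀ {d m : G}, d ∈ D → m ∈ X M Γ x₁ x₂ → m * d * m⁻¹ ∈ D := by
    rintro d m ⟨hd, hd'⟩ hm
    refine ⟨(X M Γ x₁ x₂).mul_mem ((X M Γ x₁ x₂).mul_mem hm hd) ((X M Γ x₁ x₂).inv_mem hm), fun n hn => ?_⟩
    have hn' : m⁻¹ * n * m⁻¹⁻¹ ∈ N := hnorm _ ((X M Γ x₁ x₂).inv_mem hm) n hn
    have h1 := hd' _ hn'
    have h2 : m * d * m⁻¹ * n * (m * d * m⁻¹)⁻¹ * n⁻¹ =
        m * (d * (m⁻¹ * n * m⁻¹⁻¹) * d⁻¹ * (m⁻¹ * n * m⁻¹⁻¹)⁻¹) * m⁻¹ := by group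
    rw [h2, hcen h1 hm, mul_inv_cancel_right]
    exact h1
  have hc'X : M.ι c' ∈ X M Γ x₁ x₂ := by
    rw [← hc']
    exact (X M Γ x₁ x₂).mul_mem ((X M Γ x₁ x₂).mul_mem hg hzX) ((X M Γ x₁ x₂).inv_mem hg)
  have hzD : M.ι (M.zc * c') ∈ D := by
    rw [map_mul, ← z_def]
    refine ⟨(X M Γ x₁ x₂).mul_mem hzX hc'X, fun n hn => ?_⟩
    have h1 := hinv' n hn
    have h2 := hinv _ (N.inv_mem hn)
    have h3 : M.z * M.ι c' * n * (M.z * M.ι c')⁻¹ * n⁻¹ =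
        (M.z * (M.ι c' * n * (M.ι c')⁻¹ * n)) * (n⁻¹ * M.z⁻¹ * n⁻¹) := by group
    rw [h3, hcen h1 hzX, show (M.ι c' * n * (M.ι c')⁻¹ * n) * M.z * (n⁻¹ * M.z⁻¹ * n⁻¹) =
      (M.ι c' * n * (M.ι c')⁻¹ * n) * (M.z * n⁻¹ * M.z⁻¹ * n⁻¹) by group]
    exact E.mul_mem h1 h2
  obtain ⟨d, hd, hdc⟩ := exists_ncomm hP H (y := clP L (M.zc * c')) (by
    rw [clP_mul, clP_zc, zero_add]; exact hc'E) rfl
  have hz : M.z ∈ D := by
    have h1 := hDX hzD hd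
    rw [← map_inv, ← map_mul, ← map_mul, hdc, map_mul] at h1
    have h2 := D.mul_mem h1 (D.inv_mem hzD)
    rwa [mul_inv_cancel_right] at h2
  exact hE (hfix n hn (hz.2 n hn))

/-! ### Subgroups of index 2 -/

omit hP in
theorem conj_ind {H' : Subgroup G} (hH : ∀ m1 ∈ X M Γ x₁ x₂, ∀ m2 ∈ X M Γ x₁ x₂, m1 ∉ H' → m2 ∉ H' → m1 * m2 ∈ H')
    {h m : G} (hh : h ∈ H') (hhX : h ∈ X M Γ x₁ x₂) (hm : m ∈ X M Γ x₁ x₂) : m * h * m⁻¹ ∈ H' := by
  by_cases hx : m ∈ H'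
  · exact H'.mul_mem (H'.mul_mem hx hh) (H'.inv_mem hx)
  · refine hH (m * h) ((X M Γ x₁ x₂).mul_mem hm hhX) _ ((X M Γ x₁ x₂).inv_mem hm) (fun h1 => hx ?_)
      (fun h1 => hx ?_)
    · have := H'.mul_mem h1 (H'.inv_mem hh)
      rwa [mul_inv_cancel_right] at this
    · have := H'.inv_mem h1
      rwa [inv_inv] at this

omit hP in
theorem comm_ind {H' : Subgroup G} (hH : ∀ m1 ∈ X M Γ x₁ x₂, ∀ m2 ∈ X M Γ x₁ x₂, m1 ∉ H' → m2 ∉ H' → m1 * m2 ∈ H')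
    {h m : G} (hhX : h ∈ X M Γ x₁ x₂) (hm : m ∈ X M Γ x₁ x₂) : m * h * m⁻¹ * h⁻¹ ∈ H' := by
  by_cases hh : h ∈ H'
  · exact H'.mul_mem (conj_ind hH hh hhX hm) (H'.inv_mem hh)
  · have h1 : m * h * m⁻¹ ∈ X M Γ x₁ x₂ :=
      (X M Γ x₁ x₂).mul_mem ((X M Γ x₁ x₂).mul_mem hm hhX) ((X M Γ x₁ x₂).inv_mem hm)
    refine hH _ h1 _ ((X M Γ x₁ x₂).inv_mem hhX) (fun h2 => hh ?_) (fun h2 => hh ?_)
    · have h3 := conj_ind hH h2 h1 ((X M Γ x₁ x₂).inv_mem hm)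
      rwa [show m⁻¹ * (m * h * m⁻¹) * m⁻¹⁻¹ = h by group] at h3
    · have := H'.inv_mem h2
      rwa [inv_inv] at this

/-- **ind** -/
theorem ind (H : Hyp M Γ) (hF : Fus M Γ x₁ x₂) (H' : Subgroup G)
    (hH : ∀ m1 ∈ X M Γ x₁ x₂, ∀ m2 ∈ X M Γ x₁ x₂, m1 ∉ H' → m2 ∉ H' → m1 * m2 ∈ H') :
    X M Γ x₁ x₂ ≤ H' := by
  have hzX := z_mem_X (Γ := Γ) hP H
  obtain ⟨g, hg, ⟨c', hc'⟩, hgz⟩ := hF
  have hc'E : ¬ InE p q k (clP L c') := by
    intro h2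
    apply hgz
    obtain ⟨u', hu', e | e⟩ := exists_E4 hP h2
    · exact eq_z_of hP H (X_le_Γ hg) hu' (Or.inl (by rw [hc', e]))
    · exact eq_z_of hP H (X_le_Γ hg) hu' (Or.inr (by rw [hc', e, map_mul]; rfl))
  have hc'X : M.ι c' ∈ X M Γ x₁ x₂ := by
    rw [← hc']
    exact (X M Γ x₁ x₂).mul_mem ((X M Γ x₁ x₂).mul_mem hg hzX) ((X M Γ x₁ x₂).inv_mem hg)
  -- `z ∈ H'`
  have hz : M.z ∈ H' := by
    obtain ⟨d, hd, hdc⟩ := exists_ncomm hP H hc'E rfl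
    have h1 := comm_ind hH hc'X hd
    rwa [← map_inv, ← map_mul, ← map_mul, hdc, map_mul, mul_inv_cancel_right] at h1
  -- `ι P ∩ X ≤ H'`
  have hzH : ∀ {c d : P}, M.ι c ∈ H' → clP L c = clP L d → M.ι d ∈ H' := by
    intro c d hc e
    rcases (clP_eq' L).1 e with rfl | rfl
    · exact hc
    · rw [map_mul] at hc
      have := H'.mul_mem (H'.inv_mem hz) hc
      rwa [z_def, inv_mul_cancel_left] at this
  let U : AddSubgroup L2 :=
    { carrier := {x | ∀ c, clP L c = x → M.ι c ∈ H'}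
      zero_mem' := fun c hc => hzH (c := 1) (by rw [map_one]; exact H'.one_mem) (by rw [clP_one, hc])
      add_mem' := by
        intro x y hx hy c hc
        obtain ⟨a, rfl⟩ := clP_surjective L x
        obtain ⟨b, rfl⟩ := clP_surjective L y
        refine hzH (c := a * b) ?_ (by rw [clP_mul, hc])
        rw [map_mul]
        exact H'.mul_mem (hx a rfl) (hy b rfl)
      neg_mem' := by
        intro x hx c hc
        exact hx c (by rw [hc, neg_eq]) }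
  have hR : ∀ c, Pp p q k (clP L c) → M.ι c ∈ H' := by
    intro c hc
    refine TriSimple.le_of_trivial hP.pq hP.qk hP.pk U (fun A hA y hy b hb => ?_) _ hc c rfl
    obtain ⟨a, rfl⟩ := clP_surjective L y
    obtain ⟨h1, h2⟩ := fix_cl hA
    obtain ⟨h, hhK, hh, hhX⟩ := exists_lift hP H h1 h2
    obtain ⟨α, e1, e2⟩ := aut L hhK hh
    have h3 := comm_ind hH ((ι_mem_X hP H).2 hy) hhX
    rw [e1, mul_inv_cancel_right, ← map_inv, ← map_mul] at h3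
    refine hzH h3 ?_
    rw [clP_mul, clP_inv, e2, hb, add_comm]
  -- `X ∩ K ≤ H'`
  have hK : ∀ m ∈ X M Γ x₁ x₂, m ∈ M.K → m ∈ H' := by
    have key : ∀ {m m' : G} {A : Co0}, m ∈ X M Γ x₁ x₂ → m ∈ M.K → m' ∈ X M Γ x₁ x₂ → m' ∈ M.K →
        Ind M m A → Ind M m' A → m ∈ H' → m' ∈ H' := by
      intro m m' A hm hmK hm' hmK' hA hA' h
      obtain ⟨c, hc⟩ := Ind_eq_ι hmK' hmK hA' hA
      have h1 : M.ι c ∈ X M Γ x₁ x₂ := by
        have := (X M Γ x₁ x₂).mul_mem hm' ((X M Γ x₁ x₂).inv_mem hm)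
        rwa [hc, mul_inv_cancel_right] at this
      rw [hc]
      exact H'.mul_mem (hR c ((ι_mem_X hP H).1 h1)) h
    let T : Subgroup Co0 :=
      { carrier := {A | Fix p q k A ∧ ∀ m ∈ X M Γ x₁ x₂, m ∈ M.K → Ind M m A → m ∈ H'}
        one_mem' := ⟨fix_one, fun m hm hmK hA =>
          key (X M Γ x₁ x₂).one_mem M.K.one_mem hm hmK (Ind.one M) hA H'.one_mem⟩
        mul_mem' := by
          rintro A B ⟨hA, hA'⟩ ⟨hB, hB'⟩
          refine ⟨fix_mul hA hB, fun m hm hmK hAB => ?_⟩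
          obtain ⟨a, haK, ha, haX⟩ := exists_lift hP H (fix_cl hA).1 (fix_cl hA).2
          obtain ⟨b, hbK, hb, hbX⟩ := exists_lift hP H (fix_cl hB).1 (fix_cl hB).2
          exact key ((X M Γ x₁ x₂).mul_mem haX hbX) (M.K.mul_mem haK hbK) hm hmK (ha.mul hb) hAB
            (H'.mul_mem (hA' a haX haK ha) (hB' b hbX hbK hb))
        inv_mem' := by
          rintro A ⟨hA, hA'⟩
          refine ⟨fix_inv hA, fun m hm hmK hm' => ?_⟩
          have h1 := hA' m⁻¹ ((X M Γ x₁ x₂).inv_mem hm) (M.K.inv_mem hmK) (by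
            have := hm'.inv
            rwa [inv_inv] at this)
          have := H'.inv_mem h1
          rwa [inv_inv] at this }
    have hT : ∀ A, Fix p q k A → A ∈ T := by
      refine le_of_two hP.pq hP.qk hP.pk T (fun A B hA hB hAT hBT => ?_)
      have hout : ∀ {A : Co0}, Fix p q k A → A ∉ T → ∃ m ∈ X M Γ x₁ x₂, m ∈ M.K ∧ Ind M m A ∧ m ∉ H' := by
        intro A hA hAT
        by_contra hcon
        push Not at hcon
        exact hAT ⟨hA, hcon⟩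
      obtain ⟨a, haX, haK, ha, haH⟩ := hout hA hAT
      obtain ⟨b, hbX, hbK, hb, hbH⟩ := hout hB hBT
      exact ⟨fix_mul hA hB, fun m hm hmK hAB =>
        key ((X M Γ x₁ x₂).mul_mem haX hbX) (M.K.mul_mem haK hbK) hm hmK (ha.mul hb) hAB
          (hH a haX b hbX haH hbH)⟩
    intro m hm hmK
    obtain ⟨A, hA⟩ := ind_exists hmK
    obtain ⟨h1, h2⟩ := fix_of_mem hP hmK hA hm
    rcases pm_fix hP.pq hP.qk hP.pk h1 h2 with h3 | h3
    · exact (hT A h3).2 m hm hmK hA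
    · refine (hT _ h3).2 m hm hmK (Ind_of_mk hA ?_)
      rw [eq_comm, QuotientGroup.eq]
      have : (Cfsg.Agent.SporadicA.Co0Basic.negCo0 * A)⁻¹ * A = Cfsg.Agent.SporadicA.Co0Basic.negCo0⁻¹ := by
        rw [mul_inv_rev, mul_assoc]
        have hc := Subgroup.mem_center_iff.1 ((Subgroup.center Co0).inv_mem
          Cfsg.Agent.SporadicA.Co0Basic.negCo0_mem_center) A
        rw [← hc, inv_mul_cancel_left]
      rw [this]
      exact (Subgroup.center Co0).inv_mem Cfsg.Agent.SporadicA.Co0Basic.negCo0_mem_center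
  -- the index of `X ∩ K` in `X` is odd
  intro m hm
  by_contra hmH
  set XX : Subgroup G := X M Γ x₁ x₂ with hXX
  have hfin : Finite XX := by
    have := H.fin
    exact Finite.of_injective (fun n : XX => (⟨n, X_le_Γ n.2⟩ : Γ))
      (fun a b h => Subtype.ext (congrArg (fun t : Γ => (t : G)) h))
  let R : Subgroup XX := M.ι.range.subgroupOf XX
  let K' : Subgroup XX := M.K.subgroupOf XX
  have hRp : IsPGroup 2 R := by
    intro r
    refine ⟨2, ?_⟩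
    obtain ⟨c, hc⟩ : ((r : XX) : G) ∈ M.ι.range := r.2
    apply Subtype.ext
    apply Subtype.ext
    rw [Subgroup.coe_pow, Subgroup.coe_pow, ← hc, ← map_pow]
    have : c ^ 2 ^ 2 = 1 := by
      rw [show (2 : ℕ) ^ 2 = 2 * 2 from rfl, pow_mul, pow_two, pow_two]
      rcases L.sq c with h | h
      · rw [h, one_mul]
      · rw [h, M.zc_mul]
    rw [this, map_one]; rfl
  have : Fact (Nat.Prime 2) := ⟨Nat.prime_two⟩
  have h1 := hRp.card_modEq_card_fixedPoints (XX ⧸ K')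
  have h2 : Nat.card (MulAction.fixedPoints R (XX ⧸ K')) = 1 := by
    rw [Nat.card_eq_one_iff_unique]
    have hfx : ∀ x : XX, (QuotientGroup.mk x : XX ⧸ K') ∈ MulAction.fixedPoints R (XX ⧸ K') → x ∈ K' := by
      intro x hx
      have h3 : ∀ c, Pp p q k (clP L c) → (x : G) * M.z * (x : G)⁻¹ * M.ι c = M.ι c * ((x : G) * M.z * (x : G)⁻¹) := by
        intro c hc
        have hcX := (ι_mem_X (Γ := Γ) hP H).2 hc
        have h4 := hx ⟨⟨M.ι c, hcX⟩, ⟨c, rfl⟩⟩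
        have h5 : (QuotientGroup.mk (⟨M.ι c, hcX⟩ * x) : XX ⧸ K') = QuotientGroup.mk x := h4
        have h6 : (x : G)⁻¹ * (M.ι c * x) ∈ M.K := (QuotientGroup.eq (s := K')).1 h5.symm
        have h7 := M.z_comm_K _ h6
        calc (x : G) * M.z * (x : G)⁻¹ * M.ι c = x * (M.z * ((x : G)⁻¹ * (M.ι c * x))) * (x : G)⁻¹ := by group
          _ = x * (((x : G)⁻¹ * (M.ι c * x)) * M.z) * (x : G)⁻¹ := by rw [h7]
          _ = M.ι c * ((x : G) * M.z * (x : G)⁻¹) := by group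
      have hxΓ : (x : G) ∈ Γ := X_le_Γ x.2
      have h8 : (x : G) * M.z * (x : G)⁻¹ ∈ Γ :=
        Γ.mul_mem (Γ.mul_mem hxΓ (X_le_Γ hzX)) (Γ.inv_mem hxΓ)
      obtain ⟨u, hu, e⟩ := cenR hP H h8 h3
      have h9 := eq_z_of hP H hxΓ hu e
      exact H.cent x hxΓ (mul_inv_eq_iff_eq_mul.1 h9)
    constructor
    · constructor
      rintro ⟨a, ha⟩ ⟨b, hb⟩
      obtain ⟨x, rfl⟩ := QuotientGroup.mk_surjective a
      obtain ⟨y, rfl⟩ := QuotientGroup.mk_surjective b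
      apply Subtype.ext
      show (QuotientGroup.mk x : XX ⧸ K') = QuotientGroup.mk y
      rw [(QuotientGroup.eq (s := K')).2 (K'.mul_mem (K'.inv_mem (hfx x ha)) (hfx y hb))]
    · refine ⟨⟨QuotientGroup.mk 1, fun r => ?_⟩⟩
      show (QuotientGroup.mk ((r : XX) * 1) : XX ⧸ K') = QuotientGroup.mk 1
      rw [mul_one, QuotientGroup.eq, mul_one]
      obtain ⟨c, hc⟩ : ((r : XX) : G) ∈ M.ι.range := r.2
      apply K'.inv_mem
      show ((r : XX) : G) ∈ M.K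
      rw [← hc]
      exact M.ι_mem c
  rw [h2, ← Subgroup.index_eq_card] at h1
  have h3 : K' ≤ H'.subgroupOf XX := fun x hx => hK x x.2 hx
  have h4 : (H'.subgroupOf XX).index = 2 := by
    rw [Subgroup.index_eq_two_iff]
    refine ⟨⟨m, hm⟩, fun b => ?_⟩
    by_cases hb : (b : G) ∈ H'
    · right
      refine ⟨hb, fun h => hmH ?_⟩
      have h5 : (b : G) * m ∈ H' := h
      have := H'.mul_mem (H'.inv_mem hb) h5
      rwa [inv_mul_cancel_left] at this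
    · left
      exact ⟨hH b b.2 m hm hb hmH, hb⟩
  have h5 := Subgroup.index_dvd_of_le h3
  rw [h4] at h5
  have h6 : K'.index % 2 = 1 % 2 := h1
  omega

/-- **The structure `Big`.** -/
theorem big (H : Hyp M Γ) (hF : Fus M Γ x₁ x₂) {B : Type*} [Group B] (φ : B →* G)
    (hφ : Function.Injective φ) (hr : ∀ g, (∃ b, φ b = g) ↔ g ∈ Γ ∧ g * M.ι x₁ = M.ι x₁ * g)
    {τ l : B} (hτ : φ τ = M.ι x₁) (hl : φ l = M.ι x₂) : KEq.Big B τ l := by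
  have hmX : ∀ {b : B}, b * l = l * b → φ b ∈ X M Γ x₁ x₂ := by
    intro b hb
    obtain ⟨h1, h2⟩ := (hr (φ b)).1 ⟨b, rfl⟩
    exact mem_X.2 ⟨h1, h2, by rw [← hl, ← map_mul, hb, map_mul]⟩
  have hXm : ∀ {g : G}, g ∈ X M Γ x₁ x₂ → ∃ b : B, b * l = l * b ∧ φ b = g := by
    intro g hg
    obtain ⟨h1, h2, h3⟩ := mem_X.1 hg
    obtain ⟨b, rfl⟩ := (hr g).2 ⟨h1, h2⟩
    exact ⟨b, hφ (by rw [map_mul, map_mul, hl]; exact h3), rfl⟩
  have hE : ∀ {b : B} {u : P}, E4 x₁ x₂ u → φ b = M.ι u → b = 1 ∨ b = τ ∨ b = l ∨ b = τ * l := by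
    intro b u hu e
    rcases hu with rfl | rfl | rfl | rfl
    · left; exact hφ (by rw [e, map_one, map_one])
    · right; left; exact hφ (by rw [e, hτ])
    · right; right; left; exact hφ (by rw [e, hl])
    · right; right; right; exact hφ (by rw [e, map_mul, map_mul, hτ, hl])
  refine ⟨?_, ?_, ?_⟩
  · intro N h1 h2 h3 n hn
    obtain ⟨u, hu, e⟩ := nrm hP H hF (N := N.map φ) (fun x hx => by
        obtain ⟨n, hn, rfl⟩ := hx
        exact hmX (h1 n hn))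
      (fun m hm x hx => by
        obtain ⟨b, hb, rfl⟩ := hXm hm
        obtain ⟨n, hn, rfl⟩ := hx
        exact ⟨b * n * b⁻¹, h2 b hb n hn, by simp⟩)
      (fun hx => by
        obtain ⟨n, hn, e⟩ := hx
        rw [← hτ] at e
        exact h3 (hφ e ▸ hn)) (n := φ n) ⟨n, hn, rfl⟩
    exact hE hu e
  · intro H' h1 m hm
    have h2 := ind hP H hF (H'.map φ) (fun m1 hm1 m2 hm2 h1' h2' => by
      obtain ⟨b1, hb1, rfl⟩ := hXm hm1
      obtain ⟨b2, hb2, rfl⟩ := hXm hm2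
      exact ⟨b1 * b2, h1 b1 b2 hb1 hb2 (fun h => h1' ⟨b1, h, rfl⟩) (fun h => h2' ⟨b2, h, rfl⟩), by simp⟩)
      (hmX hm)
    obtain ⟨n, hn, e⟩ := h2
    exact hφ e ▸ hn
  · intro x hx
    obtain ⟨h1, _⟩ := (hr (φ x)).1 ⟨x, rfl⟩
    obtain ⟨u, hu, e⟩ := cen hP H hF h1 (fun m hm => by
      obtain ⟨b, hb, rfl⟩ := hXm hm
      rw [← map_mul, hx b hb, map_mul])
    exact hE hu e

end

end Cfsg.Agent.MonsterN.BigX
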