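import Cfsg.Agent.MonsterX.BabyIrr
import Cfsg.Agent.MonsterN.KEq

/-!
# S1737: the facts `Big` on the centraliser of `z` in `2.B = C_M(t)`

`C = C_M(z) = 2^(1+24).Co1`, `Q` its extraspecial group, `t ∈ Q` over a short vector, described by
`MonsterX.BabyIrr.QData`.  In `L = C_M(t)` the centraliser of `z` is `C ∩ C(t)`:
* a normal subgroup not containing `t` is contained in `⟨t, z⟩`,
* it has no subgroup of index two,
* its centraliser in `L` is `⟨t, z⟩`.
-/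

set_option autoImplicit false

open Subgroup Cfsg

namespace Cfsg.Agent.MonsterN.BigZ

open Cfsg.Agent.MonsterX.BabyIrr Cfsg.Agent.MonsterX.BabyIrr.QData Cfsg.Agent.MonsterN.KEq
open Cfsg.Agent.BabyM.CoTwoMod Cfsg.Agent.SporadicStructure.Co2RankThree
open Cfsg.Agent.MonsterX.SimpleCrit

variable {Γ : Type*} [Group Γ] {C : Subgroup Γ} {z : Γ} {Q : Subgroup Γ} {θ : Γ → leechLattice}
  {t : Γ} {u : leechLattice}

/-- The elements of `Q ∩ C(t)` and their conjugates. -/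
theorem conj_mem (h : QData C z Q θ) {c : Γ} (hc : c ∈ C) (hct : c * t = t * c) {q : Γ}
    (hq : q ∈ Q) (hqt : q * t = t * q) : c * q * c⁻¹ ∈ Q ∧ c * q * c⁻¹ * t = t * (c * q * c⁻¹) := by
  refine ⟨h.inv c hc q hq, ?_⟩
  have h1 : c⁻¹ * t = t * c⁻¹ := by
    rw [inv_mul_eq_iff_eq_mul, ← mul_assoc, hct, mul_inv_cancel_right]
  calc c * q * c⁻¹ * t = c * q * (c⁻¹ * t) := by group
    _ = c * (q * t) * c⁻¹ := by rw [h1]; group
    _ = (c * t) * q * c⁻¹ := by rw [hqt]; group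
    _ = t * (c * q * c⁻¹) := by rw [hct]; group

theorem q_conj (h : QData C z Q θ) {q r : Γ} (hq : q ∈ Q) (hr : r ∈ Q) :
    q * r = r * q ∨ q * r = z * (r * q) := by
  rcases h.conj_eq hq hr with h1 | h1
  · exact Or.inl (mul_inv_eq_iff_eq_mul.1 h1)
  · right
    rw [← mul_assoc]
    exact mul_inv_eq_iff_eq_mul.1 h1

theorem q_sq (h : QData C z Q θ) {q : Γ} (hq : q ∈ Q) : q * q = 1 ∨ q * q = z := by
  apply h.ker _ (Q.mul_mem hq hq)
  have h1 := h.mul q hq q hq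
  have h2 : θ (q * q) = (θ (q * q) - (θ q + θ q)) + (θ q + θ q) := by abel
  rw [h2]
  exact add_mem h1 (add_self_mem _)

theorem z_ne (h : QData C z Q θ) : z ≠ 1 := by
  obtain ⟨w, hw⟩ := ncard_ne u0 dt_u0_u0
  obtain ⟨x, hx⟩ := exists_O8 u0 w dt_u0_u0 hw
  obtain ⟨q, hq, hqw⟩ := h.surj w
  obtain ⟨r, hr, hrx⟩ := h.surj x
  have hn : ¬ (16 : ℤ) ∣ dt (θ q) (θ r) := by
    rw [dt_congr_left hqw, dt_congr_right hrx, hx.2.2]
    norm_num
  have h1 := h.conj_of_not hq hr hn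
  rintro rfl
  apply hn
  rw [← h.comm q hq r hr]
  rw [one_mul] at h1
  exact mul_inv_eq_iff_eq_mul.1 h1

theorem cent_mul {x a b : Γ} (ha : a * x = x * a) (hb : b * x = x * b) :
    a * b * x = x * (a * b) := by rw [mul_assoc, hb, ← mul_assoc, ha, mul_assoc]

theorem cent_inv {x a : Γ} (ha : a * x = x * a) : a⁻¹ * x = x * a⁻¹ := by
  rw [inv_mul_eq_iff_eq_mul, ← mul_assoc, ha, mul_inv_cancel_right]

/-- The subgroup `C ∩ C(t)`. -/
def CT (C : Subgroup Γ) (t : Γ) : Subgroup Γ where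
  carrier := {g | g ∈ C ∧ g * t = t * g}
  one_mem' := ⟨C.one_mem, by rw [one_mul, mul_one]⟩
  mul_mem' := fun ha hb => ⟨C.mul_mem ha.1 hb.1, cent_mul ha.2 hb.2⟩
  inv_mem' := fun ha => ⟨C.inv_mem ha.1, cent_inv ha.2⟩

theorem mem_CT {g : Γ} : g ∈ CT C t ↔ g ∈ C ∧ g * t = t * g := Iff.rfl

section

variable (h : QData C z Q θ) (ht : t ∈ Q) (hu : dt u u = 32) (htu : θ t - u ∈ dbl)

include h ht hu htu

theorem t_ne : t ≠ 1 ∧ t ≠ z := by
  have h1 : u ∉ dbl := by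
    intro hd
    obtain ⟨w, hw⟩ := mem_dbl.1 hd
    have hw0 : w ≠ 0 := by
      rintro rfl
      rw [hw] at hu
      simp only [smul_zero] at hu
      have : dt (0 : leechLattice) 0 = 0 := by
        have := dt_two_smul_right (0 : leechLattice) 0
        simp only [smul_zero] at this
        omega
      omega
    have h2 := le_dt hw0
    have h3 : dt u u = 4 * dt w w := by
      rw [hw, dt_two_smul_right, dt_comm, dt_two_smul_right]; ring
    omega
  constructor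
  · rintro rfl
    apply h1
    have h2 : u = θ 1 - (θ 1 - u) := by abel
    rw [h2]
    exact sub_mem h.one htu
  · rintro rfl
    apply h1
    have h2 : u = θ t - (θ t - u) := by abel
    rw [h2]
    exact sub_mem h.z_dbl htu

/-- The centre of `Q ∩ C(t)`. -/
theorem center {q : Γ} (hq : q ∈ Q) (hqt : q * t = t * q)
    (hc : ∀ r ∈ Q, r * t = t * r → q * r = r * q) : q = 1 ∨ q = z ∨ q = t ∨ q = t * z := by
  let R : Subgroup Γ :=
    { carrier := {r | r ∈ Q ∧ r * t = t * r ∧ ∀ s ∈ Q, s * t = t * s → r * s = s * r}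
      one_mem' := ⟨Q.one_mem, by rw [one_mul, mul_one], fun s _ _ => by rw [one_mul, mul_one]⟩
      mul_mem' := by
        rintro a b ⟨ha, hat, hac⟩ ⟨hb, hbt, hbc⟩
        exact ⟨Q.mul_mem ha hb, cent_mul hat hbt, fun s hs hst =>
          cent_mul (hac s hs hst) (hbc s hs hst)⟩
      inv_mem' := by
        rintro a ⟨ha, hat, hac⟩
        exact ⟨Q.inv_mem ha, cent_inv hat, fun s hs hst => cent_inv (hac s hs hst)⟩ }
  have hR : ∀ r, r ∈ R ↔ r ∈ Q ∧ r * t = t * r ∧ ∀ s ∈ Q, s * t = t * s → r * s = s * r :=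
    fun r => Iff.rfl
  have hirr := h.irr ht hu htu R (fun r hr => ((hR r).1 hr).1)
    (fun r hr => MonsterX.SimpleCrit.mem_cent.2 ((hR r).1 hr).2.1)
    ((hR z).2 ⟨h.z_mem, (h.z_comm ht).symm, fun s hs _ => (h.z_comm hs).symm⟩)
    ((hR t).2 ⟨ht, rfl, fun s _ hst => hst.symm⟩) ?_
  · rcases hirr with h1 | h1
    · exact h1 q ((hR q).2 ⟨hq, hqt, hc⟩)
    · exfalso
      obtain ⟨a, ha, hat, b, hb, hbt, hab⟩ := h.commutator ht hu htu
      have haR : a ∈ R := by rw [h1]; exact ⟨ha, hat⟩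
      have h2 := ((hR a).1 haR).2.2 b hb (MonsterX.SimpleCrit.mem_cent.1 hbt)
      apply z_ne h
      rw [← hab, h2]; group
  · intro c hc hct r hr
    have hct := MonsterX.SimpleCrit.mem_cent.1 hct
    obtain ⟨hrQ, hrt, hrc⟩ := (hR r).1 hr
    obtain ⟨h1, h2⟩ := conj_mem h hc hct hrQ hrt
    refine (hR _).2 ⟨h1, h2, fun s hs hst => ?_⟩
    obtain ⟨h3, h4⟩ := conj_mem h (C.inv_mem hc) (cent_inv hct) hs hst
    have h5 := hrc _ h3 h4
    calc c * r * c⁻¹ * s = c * (r * (c⁻¹ * s * c⁻¹⁻¹)) * c⁻¹ := by group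
      _ = c * ((c⁻¹ * s * c⁻¹⁻¹) * r) * c⁻¹ := by rw [h5]
      _ = s * (c * r * c⁻¹) := by group

/-- The intersection with `Q` of a normal subgroup of `C ∩ C(t)` not containing `t`. -/
theorem nrm_Q (N : Subgroup Γ) (hN : N ≤ CT C t)
    (hn : ∀ c ∈ CT C t, ∀ n ∈ N, c * n * c⁻¹ ∈ N) (htN : t ∉ N) {n : Γ} (hnN : n ∈ N) (hnQ : n ∈ Q) :
    n = 1 ∨ n = z ∨ n = t ∨ n = t * z := by
  by_contra hcon
  have hnt := (mem_CT.1 (hN hnN)).2
  -- `z ∈ N`
  have hzN : z ∈ N := by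
    by_contra hzN
    apply hcon
    apply center h ht hu htu hnQ hnt
    intro r hr hrt
    rcases q_conj h hnQ hr with h1 | h1
    · exact h1
    · exfalso
      apply hzN
      have h2 : z = n * (r * n⁻¹ * r⁻¹) := by
        have h3 : n * r * n⁻¹ * r⁻¹ = z := by rw [h1]; group
        rw [← h3]; group
      rw [h2]
      exact N.mul_mem hnN (hn r (mem_CT.2 ⟨h.le hr, hrt⟩) _ (N.inv_mem hnN))
  have htt : t * t ∈ N := by
    rcases q_sq h ht with h1 | h1 <;> rw [h1]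
    · exact N.one_mem
    · exact hzN
  let R : Subgroup Γ :=
    { carrier := {r | r ∈ Q ∧ r * t = t * r ∧ (r ∈ N ∨ t * r ∈ N)}
      one_mem' := ⟨Q.one_mem, by rw [one_mul, mul_one], Or.inl N.one_mem⟩
      mul_mem' := by
        rintro a b ⟨ha, hat, ha'⟩ ⟨hb, hbt, hb'⟩
        refine ⟨Q.mul_mem ha hb, cent_mul hat hbt, ?_⟩
        rcases ha' with ha' | ha' <;> rcases hb' with hb' | hb'
        · exact Or.inl (N.mul_mem ha' hb')
        · right
          have : t * (a * b) = a * (t * b) := by rw [← mul_assoc, ← hat, mul_assoc]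
          rw [this]; exact N.mul_mem ha' hb'
        · right
          rw [← mul_assoc]; exact N.mul_mem ha' hb'
        · left
          have h2 := N.mul_mem ha' hb'
          have h3 : t * a * (t * b) = (t * t) * (a * b) := by
            calc t * a * (t * b) = t * (a * t) * b := by group
              _ = _ := by rw [hat]; group
          rw [h3] at h2
          exact (N.mul_mem_cancel_left htt).1 h2
      inv_mem' := by
        rintro a ⟨ha, hat, ha'⟩
        refine ⟨Q.inv_mem ha, cent_inv hat, ?_⟩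
        rcases ha' with ha' | ha'
        · exact Or.inl (N.inv_mem ha')
        · right
          have h3 : t * a⁻¹ = (t * t) * (t * a)⁻¹ := by
            calc t * a⁻¹ = t * (a⁻¹ * t) * t⁻¹ := by group
              _ = t * (t * a⁻¹) * t⁻¹ := by rw [cent_inv hat]
              _ = t * t * (t * a)⁻¹ := by group
          rw [h3]
          exact N.mul_mem htt (N.inv_mem ha') }
  have hR : ∀ r, r ∈ R ↔ r ∈ Q ∧ r * t = t * r ∧ (r ∈ N ∨ t * r ∈ N) := fun r => Iff.rfl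
  have hinv : ∀ c ∈ C, c * t = t * c → ∀ r ∈ R, c * r * c⁻¹ ∈ R := by
    intro c hc hct r hr
    obtain ⟨hrQ, hrt, hr'⟩ := (hR r).1 hr
    obtain ⟨h1, h2⟩ := conj_mem h hc hct hrQ hrt
    refine (hR _).2 ⟨h1, h2, ?_⟩
    rcases hr' with hr' | hr'
    · exact Or.inl (hn c (mem_CT.2 ⟨hc, hct⟩) r hr')
    · right
      have h3 := hn c (mem_CT.2 ⟨hc, hct⟩) _ hr'
      have h4 : c * (t * r) * c⁻¹ = t * (c * r * c⁻¹) := by
        rw [← mul_assoc, hct]; group
      rwa [h4] at h3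
  have hirr := h.irr ht hu htu R (fun r hr => ((hR r).1 hr).1)
    (fun r hr => MonsterX.SimpleCrit.mem_cent.2 ((hR r).1 hr).2.1)
    ((hR z).2 ⟨h.z_mem, (h.z_comm ht).symm, Or.inl hzN⟩)
    ((hR t).2 ⟨ht, rfl, Or.inr htt⟩)
    (fun c hc hct => hinv c hc (MonsterX.SimpleCrit.mem_cent.1 hct))
  rcases hirr with h1 | h1
  · exact hcon (h1 n ((hR n).2 ⟨hnQ, hnt, Or.inl hnN⟩))
  · obtain ⟨a, ha, hat, c, hc, hct, hta⟩ := h.exists_sq ht hu htu
    have hat' := MonsterX.SimpleCrit.mem_cent.1 hat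
    have hct' := MonsterX.SimpleCrit.mem_cent.1 hct
    have haR : a ∈ R := by rw [h1]; exact ⟨ha, hat⟩
    have hcc := mem_CT.2 ⟨hc, hct'⟩
    apply htN
    rcases ((hR a).1 haR).2.2 with h2 | h2
    · rw [hta]
      exact N.mul_mem h2 (hn c hcc a h2)
    · have h3 := N.mul_mem h2 (hn c hcc _ h2)
      have h4 : t * a * (c * (t * a) * c⁻¹) = (t * t) * t := by
        calc t * a * (c * (t * a) * c⁻¹) = t * a * ((c * t) * a * c⁻¹) := by group
          _ = t * (a * t) * (c * a * c⁻¹) := by rw [hct']; group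
          _ = t * t * (a * (c * a * c⁻¹)) := by rw [hat']; group
          _ = (t * t) * t := by rw [← hta]
      rw [h4] at h3
      exact (N.mul_mem_cancel_left htt).1 h3

/-- The action of `C ∩ C(t)` on `Q ∩ C(t)` modulo `⟨z, t⟩` is not trivial. -/
theorem exists_act : ∃ c ∈ CT C t, ∃ a ∈ Q, a * t = t * a ∧ ¬ (c * a * c⁻¹ * a⁻¹ = 1 ∨
    c * a * c⁻¹ * a⁻¹ = z ∨ c * a * c⁻¹ * a⁻¹ = t ∨ c * a * c⁻¹ * a⁻¹ = t * z) := by
  by_contra hcon
  push Not at hcon
  obtain ⟨a, ha, hat, b, hb, hbt, hab⟩ := h.commutator ht hu htu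
  have hat' := MonsterX.SimpleCrit.mem_cent.1 hat
  have hbt' := MonsterX.SimpleCrit.mem_cent.1 hbt
  have hne : a * b ≠ b * a := by
    intro h1
    apply z_ne h
    rw [← hab, h1]; group
  let R : Subgroup Γ :=
    { carrier := {r | r ∈ Q ∧ r * t = t * r ∧ r * a = a * r}
      one_mem' := ⟨Q.one_mem, by rw [one_mul, mul_one], by rw [one_mul, mul_one]⟩
      mul_mem' := fun h1 h2 => ⟨Q.mul_mem h1.1 h2.1, cent_mul h1.2.1 h2.2.1, cent_mul h1.2.2 h2.2.2⟩
      inv_mem' := fun h1 => ⟨Q.inv_mem h1.1, cent_inv h1.2.1, cent_inv h1.2.2⟩ }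
  have hR : ∀ r, r ∈ R ↔ r ∈ Q ∧ r * t = t * r ∧ r * a = a * r := fun r => Iff.rfl
  have hza : z * a = a * z := (h.z_comm ha).symm
  have hirr := h.irr ht hu htu R (fun r hr => ((hR r).1 hr).1)
    (fun r hr => MonsterX.SimpleCrit.mem_cent.2 ((hR r).1 hr).2.1)
    ((hR z).2 ⟨h.z_mem, (h.z_comm ht).symm, hza⟩)
    ((hR t).2 ⟨ht, rfl, hat'.symm⟩) ?_
  · rcases hirr with h1 | h1
    · apply hne
      rcases h1 a ((hR a).2 ⟨ha, hat', rfl⟩) with h2 | h2 | h2 | h2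
      · rw [h2, one_mul, mul_one]
      · rw [h2]; exact (h.z_comm hb).symm
      · rw [h2]; exact hbt'.symm
      · rw [h2]; exact cent_mul hbt'.symm (h.z_comm hb).symm
    · have hbR : b ∈ R := by rw [h1]; exact ⟨hb, hbt⟩
      exact hne ((hR b).1 hbR).2.2.symm
  · intro c hc hct r hr
    have hct' := MonsterX.SimpleCrit.mem_cent.1 hct
    obtain ⟨hrQ, hrt, hra⟩ := (hR r).1 hr
    obtain ⟨h1, h2⟩ := conj_mem h hc hct' hrQ hrt
    refine (hR _).2 ⟨h1, h2, ?_⟩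
    have h3 := hcon c (mem_CT.2 ⟨hc, hct'⟩) r hrQ hrt
    have h4 : ∀ v : Γ, v * a = a * v → c * r * c⁻¹ * r⁻¹ = v → c * r * c⁻¹ * a = a * (c * r * c⁻¹) := by
      intro v hv hcv
      have e : c * r * c⁻¹ = v * r := by rw [← hcv]; group
      rw [e]
      exact cent_mul hv hra
    rcases h3 with e1 | e2 | e3 | e4
    · exact h4 1 (by rw [one_mul, mul_one]) e1
    · exact h4 z hza e2
    · exact h4 t hat'.symm e3
    · exact h4 (t * z) (cent_mul hat'.symm hza) e4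

/-- **`nrm`**. -/
theorem nrm (N : Subgroup Γ) (hN : N ≤ CT C t)
    (hn : ∀ c ∈ CT C t, ∀ n ∈ N, c * n * c⁻¹ ∈ N) (htN : t ∉ N) {n : Γ} (hnN : n ∈ N) :
    n = 1 ∨ n = z ∨ n = t ∨ n = t * z := by
  have key := fun {n : Γ} => nrm_Q h ht hu htu N hN hn htN (n := n)
  let R : Subgroup Γ :=
    { carrier := {r | r ∈ CT C t ∧ ∃ n ∈ N, n⁻¹ * r ∈ Q}
      one_mem' := ⟨(CT C t).one_mem, 1, N.one_mem, by rw [inv_one, one_mul]; exact Q.one_mem⟩
      mul_mem' := by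
        rintro a b ⟨ha, m, hm, hma⟩ ⟨hb, k, hk, hkb⟩
        have hmaC : m⁻¹ * a ∈ CT C t := (CT C t).mul_mem ((CT C t).inv_mem (hN hm)) ha
        refine ⟨(CT C t).mul_mem ha hb, m * ((m⁻¹ * a) * k * (m⁻¹ * a)⁻¹),
          N.mul_mem hm (hn _ hmaC k hk), ?_⟩
        have e : (m * ((m⁻¹ * a) * k * (m⁻¹ * a)⁻¹))⁻¹ * (a * b) = (m⁻¹ * a) * (k⁻¹ * b) := by group
        rw [e]
        exact Q.mul_mem hma hkb
      inv_mem' := by
        rintro a ⟨ha, m, hm, hma⟩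
        have hmaC : m⁻¹ * a ∈ CT C t := (CT C t).mul_mem ((CT C t).inv_mem (hN hm)) ha
        refine ⟨(CT C t).inv_mem ha, (m⁻¹ * a)⁻¹ * m⁻¹ * (m⁻¹ * a)⁻¹⁻¹,
          hn _ ((CT C t).inv_mem hmaC) _ (N.inv_mem hm), ?_⟩
        have e : ((m⁻¹ * a)⁻¹ * m⁻¹ * (m⁻¹ * a)⁻¹⁻¹)⁻¹ * a⁻¹ = (m⁻¹ * a)⁻¹ := by group
        rw [e]
        exact Q.inv_mem hma }
  have hR : ∀ r, r ∈ R ↔ r ∈ CT C t ∧ ∃ n ∈ N, n⁻¹ * r ∈ Q := fun r => Iff.rfl
  have htop := h.top ht hu htu R ?_ (fun r hr => (mem_CT.1 ((hR r).1 hr).1).1)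
    (fun r hr => MonsterX.SimpleCrit.mem_cent.2 (mem_CT.1 ((hR r).1 hr).1).2) ?_
  · rcases htop with h1 | h1
    · have hnR : n ∈ R := (hR n).2 ⟨hN hnN, n, hnN, by rw [inv_mul_cancel]; exact Q.one_mem⟩
      rw [h1] at hnR
      exact key hnN hnR.1
    · exfalso
      obtain ⟨c, hc, a, ha, hat, hcon⟩ := exists_act h ht hu htu
      have hcR : c ∈ R := by
        rw [h1]; exact ⟨hc.1, MonsterX.SimpleCrit.mem_cent.2 hc.2⟩
      obtain ⟨-, m, hm, hmc⟩ := (hR c).1 hcR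
      have hmC := mem_CT.1 (hN hm)
      have haC : a ∈ CT C t := mem_CT.2 ⟨h.le ha, hat⟩
      -- `m a m⁻¹ a⁻¹ ∈ N ∩ Q`
      have h2 : m * a * m⁻¹ * a⁻¹ ∈ N := by
        rw [show m * a * m⁻¹ * a⁻¹ = m * (a * m⁻¹ * a⁻¹) by group]
        exact N.mul_mem hm (hn a haC _ (N.inv_mem hm))
      have h3 : m * a * m⁻¹ * a⁻¹ ∈ Q := Q.mul_mem (h.inv m hmC.1 a ha) (Q.inv_mem ha)
      have h4 := key h2 h3
      apply hcon
      have hzm := h.cent m hmC.1
      rcases h.conj_eq hmc ha with h5 | h5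
      · have e : c * a * c⁻¹ * a⁻¹ = m * a * m⁻¹ * a⁻¹ := by
          calc c * a * c⁻¹ * a⁻¹ = m * ((m⁻¹ * c) * a * (m⁻¹ * c)⁻¹) * m⁻¹ * a⁻¹ := by group
            _ = _ := by rw [h5]
        rw [e]; exact h4
      · have e : c * a * c⁻¹ * a⁻¹ = z * (m * a * m⁻¹ * a⁻¹) := by
          calc c * a * c⁻¹ * a⁻¹ = m * ((m⁻¹ * c) * a * (m⁻¹ * c)⁻¹) * m⁻¹ * a⁻¹ := by group
            _ = (m * z) * a * m⁻¹ * a⁻¹ := by rw [h5]; group
            _ = _ := by rw [hzm]; group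
        rw [e]
        rcases h4 with h6 | h6 | h6 | h6 <;> rw [h6]
        · right; left; rw [mul_one]
        · left; exact h.z_sq
        · right; right; right; exact (h.z_comm ht).symm
        · right; right; left
          rw [← mul_assoc, ← h.z_comm ht, mul_assoc, h.z_sq, mul_one]
  · rintro r ⟨hrQ, hrt⟩
    have hrt' := MonsterX.SimpleCrit.mem_cent.1 hrt
    exact (hR r).2 ⟨mem_CT.2 ⟨h.le hrQ, hrt'⟩, 1, N.one_mem, by rw [inv_one, one_mul]; exact hrQ⟩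
  · intro c hc hct r hr
    have hcc : c ∈ CT C t := mem_CT.2 ⟨hc, MonsterX.SimpleCrit.mem_cent.1 hct⟩
    obtain ⟨hrC, m, hm, hmr⟩ := (hR r).1 hr
    refine (hR _).2 ⟨(CT C t).mul_mem ((CT C t).mul_mem hcc hrC) ((CT C t).inv_mem hcc),
      c * m * c⁻¹, hn c hcc m hm, ?_⟩
    have e : (c * m * c⁻¹)⁻¹ * (c * r * c⁻¹) = c * (m⁻¹ * r) * c⁻¹ := by group
    rw [e]
    exact h.inv c hc _ hmr

/-- **`cen`**. -/
theorem cen {x : Γ} (hx : x ∈ CT C t) (hxc : ∀ c ∈ CT C t, x * c = c * x) :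
    x = 1 ∨ x = z ∨ x = t ∨ x = t * z := by
  let R : Subgroup Γ :=
    { carrier := {r | r ∈ CT C t ∧ ∃ n ∈ CT C t, (∀ c ∈ CT C t, n * c = c * n) ∧ n⁻¹ * r ∈ Q}
      one_mem' := ⟨(CT C t).one_mem, 1, (CT C t).one_mem, fun c _ => by rw [one_mul, mul_one],
        by rw [inv_one, one_mul]; exact Q.one_mem⟩
      mul_mem' := by
        rintro a b ⟨ha, m, hm, hmc, hma⟩ ⟨hb, k, hk, hkc, hkb⟩
        refine ⟨(CT C t).mul_mem ha hb, m * k, (CT C t).mul_mem hm hk,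
          fun c hc => cent_mul (hmc c hc) (hkc c hc), ?_⟩
        have e : (m * k)⁻¹ * (a * b) = (m⁻¹ * a) * (k⁻¹ * b) := by
          have h1 : a * k⁻¹ = k⁻¹ * a := by
            have := cent_inv (hkc a ha)
            exact this.symm
          calc (m * k)⁻¹ * (a * b) = k⁻¹ * (m⁻¹ * a) * b := by group
            _ = (m⁻¹ * a) * k⁻¹ * b := by
                rw [cent_inv (hkc _ ((CT C t).mul_mem ((CT C t).inv_mem hm) ha))]
            _ = _ := by group
        rw [e]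
        exact Q.mul_mem hma hkb
      inv_mem' := by
        rintro a ⟨ha, m, hm, hmc, hma⟩
        refine ⟨(CT C t).inv_mem ha, m⁻¹, (CT C t).inv_mem hm, fun c hc => cent_inv (hmc c hc), ?_⟩
        have e : m⁻¹⁻¹ * a⁻¹ = (m⁻¹ * a)⁻¹ := by
          rw [inv_inv, mul_inv_rev, inv_inv, hmc _ ((CT C t).inv_mem ha)]
        rw [e]
        exact Q.inv_mem hma }
  have hR : ∀ r, r ∈ R ↔ r ∈ CT C t ∧ ∃ n ∈ CT C t, (∀ c ∈ CT C t, n * c = c * n) ∧ n⁻¹ * r ∈ Q :=
    fun r => Iff.rfl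
  have htop := h.top ht hu htu R ?_ (fun r hr => (mem_CT.1 ((hR r).1 hr).1).1)
    (fun r hr => MonsterX.SimpleCrit.mem_cent.2 (mem_CT.1 ((hR r).1 hr).1).2) ?_
  · rcases htop with h1 | h1
    · have hxR : x ∈ R := (hR x).2 ⟨hx, x, hx, hxc, by rw [inv_mul_cancel]; exact Q.one_mem⟩
      rw [h1] at hxR
      exact center h ht hu htu hxR.1 hx.2 fun r hr hrt => hxc r (mem_CT.2 ⟨h.le hr, hrt⟩)
    · exfalso
      obtain ⟨c, hc, a, ha, hat, hcon⟩ := exists_act h ht hu htu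
      have hcR : c ∈ R := by
        rw [h1]; exact ⟨hc.1, MonsterX.SimpleCrit.mem_cent.2 hc.2⟩
      obtain ⟨-, m, hm, hmc, hmcQ⟩ := (hR c).1 hcR
      apply hcon
      have hma := hmc a (mem_CT.2 ⟨h.le ha, hat⟩)
      rcases h.conj_eq hmcQ ha with h5 | h5
      · left
        calc c * a * c⁻¹ * a⁻¹ = m * ((m⁻¹ * c) * a * (m⁻¹ * c)⁻¹) * m⁻¹ * a⁻¹ := by group
          _ = (m * a) * m⁻¹ * a⁻¹ := by rw [h5]
          _ = 1 := by rw [hma]; group
      · right; left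
        have hzm := h.cent m (mem_CT.1 hm).1
        calc c * a * c⁻¹ * a⁻¹ = m * ((m⁻¹ * c) * a * (m⁻¹ * c)⁻¹) * m⁻¹ * a⁻¹ := by group
          _ = (m * z) * a * m⁻¹ * a⁻¹ := by rw [h5]; group
          _ = z * (m * a) * m⁻¹ * a⁻¹ := by rw [hzm]; group
          _ = z := by rw [hma]; group
  · rintro r ⟨hrQ, hrt⟩
    have hrt' := MonsterX.SimpleCrit.mem_cent.1 hrt
    exact (hR r).2 ⟨mem_CT.2 ⟨h.le hrQ, hrt'⟩, 1, (CT C t).one_mem,
      fun c _ => by rw [one_mul, mul_one], by rw [inv_one, one_mul]; exact hrQ⟩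
  · intro c hc hct r hr
    have hcc : c ∈ CT C t := mem_CT.2 ⟨hc, MonsterX.SimpleCrit.mem_cent.1 hct⟩
    obtain ⟨hrC, m, hm, hmc, hmr⟩ := (hR r).1 hr
    refine (hR _).2 ⟨(CT C t).mul_mem ((CT C t).mul_mem hcc hrC) ((CT C t).inv_mem hcc),
      m, hm, hmc, ?_⟩
    have e : m⁻¹ * (c * r * c⁻¹) = c * (m⁻¹ * r) * c⁻¹ := by
      have h1 := cent_inv (hmc c hcc)
      calc m⁻¹ * (c * r * c⁻¹) = (m⁻¹ * c) * r * c⁻¹ := by group
        _ = (c * m⁻¹) * r * c⁻¹ := by rw [h1]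
        _ = _ := by group
    rw [e]
    exact h.inv c hc _ hmr

/-- **`ind`**. -/
theorem ind (H : Subgroup Γ)
    (hH : ∀ a ∈ CT C t, ∀ b ∈ CT C t, a ∉ H → b ∉ H → a * b ∈ H) : CT C t ≤ H := by
  -- `H` is normalised by `C ∩ C(t)`
  have hinv : ∀ c ∈ CT C t, ∀ r ∈ CT C t, r ∈ H → c * r * c⁻¹ ∈ H := by
    intro c hc r hr hrH
    by_cases hcH : c ∈ H
    · exact H.mul_mem (H.mul_mem hcH hrH) (H.inv_mem hcH)
    · have h1 : c * r ∉ H := fun h1 => hcH ((H.mul_mem_cancel_right hrH).1 h1)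
      exact hH _ ((CT C t).mul_mem hc hr) _ ((CT C t).inv_mem hc) h1
        (fun h2 => hcH (by simpa using H.inv_mem h2))
  have hcomm : ∀ a ∈ CT C t, ∀ b ∈ CT C t, a * b * a⁻¹ * b⁻¹ ∈ H := by
    intro a ha b hb
    by_cases hbH : b ∈ H
    · exact H.mul_mem (hinv a ha b hb hbH) (H.inv_mem hbH)
    · refine hH _ ((CT C t).mul_mem ((CT C t).mul_mem ha hb) ((CT C t).inv_mem ha)) _
        ((CT C t).inv_mem hb) ?_ (fun h2 => hbH (by simpa using H.inv_mem h2))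
      intro h1
      apply hbH
      have h2 := hinv _ ((CT C t).inv_mem ha) _
        ((CT C t).mul_mem ((CT C t).mul_mem ha hb) ((CT C t).inv_mem ha)) h1
      rwa [show a⁻¹ * (a * b * a⁻¹) * a⁻¹⁻¹ = b by group] at h2
  have hQC : ∀ {q : Γ}, q ∈ Q → q * t = t * q → q ∈ CT C t := fun hq hqt => mem_CT.2 ⟨h.le hq, hqt⟩
  obtain ⟨a, ha, hat, b, hb, hbt, hab⟩ := h.commutator ht hu htu
  have hat' := MonsterX.SimpleCrit.mem_cent.1 hat
  have hbt' := MonsterX.SimpleCrit.mem_cent.1 hbt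
  have hne : a * b ≠ b * a := by
    intro h1
    apply z_ne h
    rw [← hab, h1]; group
  have hzH : z ∈ H := by
    rw [← hab]
    exact hcomm a (hQC ha hat') b (hQC hb hbt')
  have htH : t ∈ H := by
    obtain ⟨d, hd, hdt, c, hc, hct, e⟩ := h.exists_sq ht hu htu
    have hdt' := MonsterX.SimpleCrit.mem_cent.1 hdt
    have hct' := MonsterX.SimpleCrit.mem_cent.1 hct
    have hcC : c ∈ CT C t := mem_CT.2 ⟨hc, hct'⟩
    rw [e]
    by_cases hdH : d ∈ H
    · exact H.mul_mem hdH (hinv c hcC d (hQC hd hdt') hdH)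
    · refine hH _ (hQC hd hdt') _ ((CT C t).mul_mem ((CT C t).mul_mem hcC (hQC hd hdt'))
        ((CT C t).inv_mem hcC)) hdH ?_
      intro h1
      apply hdH
      have h2 := hinv _ ((CT C t).inv_mem hcC) _
        ((CT C t).mul_mem ((CT C t).mul_mem hcC (hQC hd hdt')) ((CT C t).inv_mem hcC)) h1
      rwa [show c⁻¹ * (c * d * c⁻¹) * c⁻¹⁻¹ = d by group] at h2
  -- `Q ∩ C(t) ≤ H`
  have hQH : ∀ q ∈ Q, q * t = t * q → q ∈ H := by
    have hirr := h.irr ht hu htu (H ⊓ CT C t ⊓ Q) inf_le_right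
      (fun r hr => MonsterX.SimpleCrit.mem_cent.2 hr.1.2.2)
      ⟨⟨hzH, hQC h.z_mem (h.z_comm ht).symm⟩, h.z_mem⟩ ⟨⟨htH, hQC ht rfl⟩, ht⟩ ?_
    · rcases hirr with h1 | h1
      · exfalso
        -- `a`, `b` are not in `H`, so `a b ∈ H`
        have hcen : ∀ q, (q = 1 ∨ q = z ∨ q = t ∨ q = t * z) → ∀ r ∈ Q, r * t = t * r →
            q * r = r * q := by
          rintro q hq r hr hrt
          rcases hq with rfl | rfl | rfl | rfl
          · rw [one_mul, mul_one]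
          · exact (h.z_comm hr).symm
          · exact hrt.symm
          · exact cent_mul hrt.symm (h.z_comm hr).symm
        have haH : a ∉ H := fun haH =>
          hne (hcen a (h1 a ⟨⟨haH, hQC ha hat'⟩, ha⟩) b hb hbt')
        have hbH : b ∉ H := fun hbH =>
          hne (hcen b (h1 b ⟨⟨hbH, hQC hb hbt'⟩, hb⟩) a ha hat').symm
        have habH := hH a (hQC ha hat') b (hQC hb hbt') haH hbH
        have h2 := hcen _ (h1 _ ⟨⟨habH, hQC (Q.mul_mem ha hb) (cent_mul hat' hbt')⟩,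
          Q.mul_mem ha hb⟩) b hb hbt'
        apply hne
        have h3 : a * b * b = b * a * b := by rw [h2]; group
        exact mul_right_cancel h3
      · intro q hq hqt
        have h2 : q ∈ H ⊓ CT C t ⊓ Q := by
          rw [h1]; exact ⟨hq, MonsterX.SimpleCrit.mem_cent.2 hqt⟩
        exact h2.1.1
    · intro c hc hct r hr
      have hct' := MonsterX.SimpleCrit.mem_cent.1 hct
      have hcC : c ∈ CT C t := mem_CT.2 ⟨hc, hct'⟩
      exact ⟨⟨hinv c hcC r hr.1.2 hr.1.1, (CT C t).mul_mem ((CT C t).mul_mem hcC hr.1.2)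
        ((CT C t).inv_mem hcC)⟩, h.inv c hc r hr.2⟩
  have htop := h.top ht hu htu (H ⊓ CT C t)
    (fun r hr => ⟨hQH r hr.1 (MonsterX.SimpleCrit.mem_cent.1 hr.2),
      hQC hr.1 (MonsterX.SimpleCrit.mem_cent.1 hr.2)⟩) (fun r hr => hr.2.1)
    (fun r hr => MonsterX.SimpleCrit.mem_cent.2 hr.2.2) ?_
  · rcases htop with h1 | h1
    · exfalso
      -- the stabiliser has order at most two
      have htriv : ∀ A : Co0, A • u = u → ∀ c ∈ Q, (∀ q ∈ Q, θ (c * q * c⁻¹) - A • θ q ∈ dbl) →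
          A = 1 := by
        intro A hA c hc hcA
        refine faithful u hu A hA fun x _ => dbl_le_rad u ?_
        obtain ⟨q, hq, hqx⟩ := h.surj x
        have h2 := hcA q hq
        have h3 := h.conj_congr hc hq
        have h4 : A • x - x = (θ (c * q * c⁻¹) - θ q) - (θ (c * q * c⁻¹) - A • θ q) -
            A • (θ q - x) + (θ q - x) := by
          rw [smul_sub']; abel
        rw [h4]
        exact add_mem (sub_mem (sub_mem h3 h2) (smul_dbl A hqx)) hqx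
      have hAB : ∀ A B : Co0, A • u = u → B • u = u → A ≠ 1 → B ≠ 1 → A * B = 1 := by
        intro A B hA hB hA1 hB1
        obtain ⟨c, hc, hct, hcA⟩ := h.exists_lift ht hu htu A hA
        obtain ⟨d, hd, hdt, hdB⟩ := h.exists_lift ht hu htu B hB
        have hct' := MonsterX.SimpleCrit.mem_cent.1 hct
        have hdt' := MonsterX.SimpleCrit.mem_cent.1 hdt
        have hcC : c ∈ CT C t := mem_CT.2 ⟨hc, hct'⟩
        have hdC : d ∈ CT C t := mem_CT.2 ⟨hd, hdt'⟩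
        have hcH : c ∉ H := by
          intro hcH
          have h2 : c ∈ H ⊓ CT C t := ⟨hcH, hcC⟩
          rw [h1] at h2
          exact hA1 (htriv A hA c h2.1 hcA)
        have hdH : d ∉ H := by
          intro hdH
          have h2 : d ∈ H ⊓ CT C t := ⟨hdH, hdC⟩
          rw [h1] at h2
          exact hB1 (htriv B hB d h2.1 hdB)
        have h2 : c * d ∈ H ⊓ CT C t := ⟨hH c hcC d hdC hcH hdH, (CT C t).mul_mem hcC hdC⟩
        rw [h1] at h2
        exact htriv _ (by rw [mul_smul, hB, hA]) _ h2.1 (h.act_mul hd hcA hdB)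
      have hcard := card_stab_min u hu
      classical
      have hinj : Function.Injective
          (fun A : MulAction.stabilizer Co0 u => decide ((A : Co0) = 1)) := by
        intro A B hab
        have hab' := decide_eq_decide.1 hab
        by_cases hA : (A : Co0) = 1
        · exact Subtype.ext (hA.trans (hab'.1 hA).symm)
        · have hB : (B : Co0) ≠ 1 := fun hB => hA (hab'.2 hB)
          apply Subtype.ext
          have e1 := hAB A A A.2 A.2 hA hA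
          have e2 := hAB A B A.2 B.2 hA hB
          exact mul_left_cancel (e1.trans e2.symm)
      have hle := Nat.card_le_card_of_injective _ hinj
      rw [hcard] at hle
      simp at hle
    · intro c hc
      have h2 : c ∈ H ⊓ CT C t := by
        rw [h1]; exact ⟨hc.1, MonsterX.SimpleCrit.mem_cent.2 hc.2⟩
      exact h2.1
  · intro c hc hct r hr
    have hct' := MonsterX.SimpleCrit.mem_cent.1 hct
    have hcC : c ∈ CT C t := mem_CT.2 ⟨hc, hct'⟩
    exact ⟨hinv c hcC r hr.2 hr.1, (CT C t).mul_mem ((CT C t).mul_mem hcC hr.2)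
      ((CT C t).inv_mem hcC)⟩

/-- **The facts `Big` for `z`**, for a subgroup `L` with `C_L(z) = C ∩ C(t)`, `L ≤ C(t)`. -/
theorem bigG (L : Subgroup Γ) (hL : ∀ g ∈ L, g * z = z * g → g ∈ C) (hLt : ∀ g ∈ L, g * t = t * g)
    (hCL : ∀ c ∈ C, c * t = t * c → c ∈ L) : BigG L t z := by
  have hmem : ∀ g, g ∈ CT C t ↔ g ∈ L ∧ g * z = z * g := fun g =>
    ⟨fun hg => ⟨hCL g hg.1 hg.2, h.cent g hg.1⟩, fun hg => mem_CT.2 ⟨hL g hg.1 hg.2, hLt g hg.1⟩⟩
  refine ⟨?_, ?_, ?_⟩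
  · intro N hNL hNz hn htN n hnN
    have h1 := nrm h ht hu htu N (fun m hm => (hmem m).2 ⟨hNL hm, hNz m hm⟩)
      (fun c hc m hm => hn c ((hmem c).1 hc).1 ((hmem c).1 hc).2 m hm) htN hnN
    tauto
  · intro H hH m hm hmz
    refine ind h ht hu htu H (fun a ha b hb => hH a ((hmem a).1 ha).1 b ((hmem b).1 hb).1
      ((hmem a).1 ha).2 ((hmem b).1 hb).2) ((hmem m).2 ⟨hm, hmz⟩)
  · intro x hx hxc
    have hzC : z ∈ CT C t := mem_CT.2 ⟨h.le h.z_mem, (h.z_comm ht).symm⟩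
    have hxz : x * z = z * x := hxc z ((hmem z).1 hzC).1 rfl
    have h1 := cen h ht hu htu ((hmem x).2 ⟨hx, hxz⟩)
      (fun c hc => hxc c ((hmem c).1 hc).1 ((hmem c).1 hc).2)
    tauto

end

/-- From `BigG` to `Big`. -/
theorem _root_.Cfsg.Agent.MonsterN.KEq.BigG.toBig {L : Subgroup Γ} {t l : Γ} (hB : BigG L t l)
    {B : Type*} [Group B] (e : B →* Γ) (he : Function.Injective e) (hr : e.range = L) {τ l' : B}
    (hτ : e τ = t) (hl : e l' = l) : Big B τ l' := by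
  have hmem : ∀ b : B, e b ∈ L := fun b => by rw [← hr]; exact ⟨b, rfl⟩
  have hc : ∀ x y : B, e x * e y = e y * e x ↔ x * y = y * x := by
    intro x y
    rw [← map_mul, ← map_mul]
    exact he.eq_iff
  have four : ∀ x : B, (e x = 1 ∨ e x = t ∨ e x = l ∨ e x = t * l) →
      x = 1 ∨ x = τ ∨ x = l' ∨ x = τ * l' := by
    intro x hx
    rcases hx with h | h | h | h
    · left; apply he; rw [h, map_one]
    · right; left; apply he; rw [h, hτ]
    · right; right; left; apply he; rw [h, hl]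
    · right; right; right; apply he; rw [h, map_mul, hτ, hl]
  subst hτ hl
  refine ⟨?_, ?_, ?_⟩
  · intro N h1 h2 h3 n hn
    refine four n (hB.nrm (N.map e) ?_ ?_ ?_ ?_ (e n) ⟨n, hn, rfl⟩)
    · rintro _ ⟨m, -, rfl⟩; exact hmem m
    · rintro _ ⟨m, hm, rfl⟩; exact (hc m l').2 (h1 m hm)
    · rintro m hm hml _ ⟨n, hn, rfl⟩
      rw [← hr] at hm
      obtain ⟨m, rfl⟩ := hm
      exact ⟨m * n * m⁻¹, h2 m ((hc m l').1 hml) n hn, by rw [map_mul, map_mul, map_inv]⟩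
    · rintro ⟨x, hx, hxτ⟩
      exact h3 (he hxτ ▸ hx)
  · intro H h1 m hm
    have h2 := hB.ind (H.map e) ?_ (e m) (hmem m) ((hc m l').2 hm)
    · obtain ⟨x, hx, hxm⟩ := h2
      exact he hxm ▸ hx
    · intro m1 hm1 m2 hm2 h3 h4 h5 h6
      rw [← hr] at hm1 hm2
      obtain ⟨m1, rfl⟩ := hm1
      obtain ⟨m2, rfl⟩ := hm2
      exact ⟨m1 * m2, h1 m1 m2 ((hc m1 l').1 h3) ((hc m2 l').1 h4) (fun h => h5 ⟨m1, h, rfl⟩)
        (fun h => h6 ⟨m2, h, rfl⟩), map_mul _ _ _⟩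
  · intro x hx
    refine four x (hB.cen (e x) (hmem x) ?_)
    intro m hm hml
    rw [← hr] at hm
    obtain ⟨m, rfl⟩ := hm
    exact (hc x m).2 (hx m ((hc m l').1 hml))

end Cfsg.Agent.MonsterN.BigZ
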