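import Cfsg.Agent.MonsterX.BabyInst
import Cfsg.Agent.MonsterN.BigZ

/-!
# S1737: `Big` for `z` in `C_M(t)`, `M` the model group, `t` a short element of `P`

`big_z`: `Big ↥(centralizer {M.ι t}) ⟨M.ι t, _⟩ ⟨M.z, _⟩` for the `K`-side structures `Link`, `Lift`.
`Big.conj`: `Big` is invariant under conjugation.
-/

set_option autoImplicit false

namespace Cfsg.Agent.MonsterN.BigZModel

open Cfsg Cfsg.Agent.MonsterX.KSide Cfsg.Agent.MonsterX.KLift Cfsg.Agent.MonsterX.KModel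
open Cfsg.Agent.MonsterX.Model Cfsg.Agent.BabyM.CoTwoMod Cfsg.Agent.MonsterX.BabyInst
open Cfsg.Agent.MonsterN.KEq
open Cfsg.Agent.SporadicStructure.Co2RankThree (dt dt_comm)

/-- `Big` is invariant under conjugation. -/
theorem _root_.Cfsg.Agent.MonsterN.KEq.Big.conj {B : Type*} [Group B] {τ l l' : B} (hB : Big B τ l)
    (hτ : ∀ x, τ * x = x * τ) (h : IsConj l l') : Big B τ l' := by
  obtain ⟨g, rfl⟩ := isConj_iff.1 h
  have hc : ∀ x : B, x * (g * l * g⁻¹) = (g * l * g⁻¹) * x ↔ (g⁻¹ * x * g) * l = l * (g⁻¹ * x * g) := by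
    intro x
    constructor
    · intro hx
      calc (g⁻¹ * x * g) * l = g⁻¹ * (x * (g * l * g⁻¹)) * g := by group
        _ = g⁻¹ * ((g * l * g⁻¹) * x) * g := by rw [hx]
        _ = l * (g⁻¹ * x * g) := by group
    · intro hx
      calc x * (g * l * g⁻¹) = g * ((g⁻¹ * x * g) * l) * g⁻¹ := by group
        _ = g * (l * (g⁻¹ * x * g)) * g⁻¹ := by rw [hx]
        _ = (g * l * g⁻¹) * x := by group
  have hc' : ∀ x : B, x * l = l * x ↔ (g * x * g⁻¹) * (g * l * g⁻¹) = (g * l * g⁻¹) * (g * x * g⁻¹) := by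
    intro x
    rw [hc, show g⁻¹ * (g * x * g⁻¹) * g = x by group]
  have four : ∀ x : B, (g⁻¹ * x * g = 1 ∨ g⁻¹ * x * g = τ ∨ g⁻¹ * x * g = l ∨ g⁻¹ * x * g = τ * l) →
      x = 1 ∨ x = τ ∨ x = g * l * g⁻¹ ∨ x = τ * (g * l * g⁻¹) := by
    intro x hx
    have e : x = g * (g⁻¹ * x * g) * g⁻¹ := by group
    rcases hx with h | h | h | h <;> rw [h] at e
    · left; rw [e]; group
    · right; left; rw [e, ← hτ]; group
    · right; right; left; exact e
    · right; right; right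
      rw [e]
      calc g * (τ * l) * g⁻¹ = (g * τ) * l * g⁻¹ := by group
        _ = (τ * g) * l * g⁻¹ := by rw [hτ]
        _ = _ := by group
  refine ⟨?_, ?_, ?_⟩
  · intro N h1 h2 h3 n hn
    refine four n (hB.nrm (N.comap (MulAut.conj g).toMonoidHom) ?_ ?_ ?_ _ ?_)
    · intro m hm
      have hm' : g * m * g⁻¹ ∈ N := hm
      exact (hc' m).2 (h1 _ hm')
    · intro m hm n hn
      have hn' : g * n * g⁻¹ ∈ N := hn
      change g * (m * n * m⁻¹) * g⁻¹ ∈ N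
      have := h2 _ ((hc' m).1 hm) _ hn'
      rwa [show g * m * g⁻¹ * (g * n * g⁻¹) * (g * m * g⁻¹)⁻¹ = g * (m * n * m⁻¹) * g⁻¹ by group] at this
    · intro hx
      have hx' : g * τ * g⁻¹ ∈ N := hx
      rw [← hτ, mul_inv_cancel_right] at hx'
      exact h3 hx'
    · change g * (g⁻¹ * n * g) * g⁻¹ ∈ N
      rwa [show g * (g⁻¹ * n * g) * g⁻¹ = n by group]
  · intro H h1 m hm
    have h2 : g⁻¹ * m * g ∈ H.comap (MulAut.conj g).toMonoidHom := by
      refine hB.ind _ ?_ _ ((hc m).1 hm)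
      intro m1 m2 h3 h4 h5 h6
      change g * (m1 * m2) * g⁻¹ ∈ H
      have h7 := h1 (g * m1 * g⁻¹) (g * m2 * g⁻¹) ((hc' m1).1 h3) ((hc' m2).1 h4) h5 h6
      rwa [show g * m1 * g⁻¹ * (g * m2 * g⁻¹) = g * (m1 * m2) * g⁻¹ by group] at h7
    have h3 : g * (g⁻¹ * m * g) * g⁻¹ ∈ H := h2
    rwa [show g * (g⁻¹ * m * g) * g⁻¹ = m by group] at h3
  · intro x hx
    refine four x (hB.cen _ ?_)
    intro m hm
    have h1 := hx _ ((hc' m).1 hm)
    calc g⁻¹ * x * g * m = g⁻¹ * (x * (g * m * g⁻¹)) * g := by group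
      _ = g⁻¹ * ((g * m * g⁻¹) * x) * g := by rw [h1]
      _ = m * (g⁻¹ * x * g) := by group

variable {V P W : Type} [AddCommGroup V] [Module ℚ V] [Group P] [AddCommGroup W] [Module ℚ W]
variable {D : MData V} {M : KS ↥D.G V P W} {x₀ : P} {θ : leechLattice → P}

theorem self_mem {G : Type*} [Group G] (t : G) : t ∈ Subgroup.centralizer ({t} : Set G) :=
  Subgroup.mem_centralizer_singleton_iff.2 rfl

theorem z_mem (M : KS ↥D.G V P W) (t : P) : M.z ∈ Subgroup.centralizer ({M.ι t} : Set ↥D.G) := by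
  rw [Subgroup.mem_centralizer_singleton_iff]
  show M.ι M.zc * M.ι t = M.ι t * M.ι M.zc
  rw [← map_mul, ← map_mul, M.zc_comm]

/-- **`Big` for `z`** in `C(ι t)`, `t` short. -/
theorem big_z (H : Link D M x₀) (L : Lift M θ) (hcent : ∀ g : D.G, g * M.z = M.z * g → g ∈ M.K)
    {t : P} (ht : t ∈ M.Sh) :
    Big (↥(Subgroup.centralizer ({M.ι t} : Set ↥D.G))) ⟨M.ι t, self_mem _⟩ ⟨M.z, z_mem M t⟩ := by
  let e : ↥(Subgroup.centralizer ({M.ι t} : Set ↥D.G)) →* (V ≃ₗ[ℚ] V) :=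
    D.G.subtype.comp (Subgroup.subtype _)
  have he : Function.Injective e := fun x y h => Subtype.ext (Subtype.ext h)
  have hmem : ∀ g, g ∈ e.range ↔ g ∈ D.G ∧ g * (M.ι t : V ≃ₗ[ℚ] V) = (M.ι t : V ≃ₗ[ℚ] V) * g := by
    intro g
    constructor
    · rintro ⟨x, rfl⟩
      refine ⟨x.1.2, ?_⟩
      have := Subgroup.mem_centralizer_singleton_iff.1 x.2
      exact congrArg Subtype.val this
    · rintro ⟨hg, hgt⟩
      exact ⟨⟨⟨g, hg⟩, Subgroup.mem_centralizer_singleton_iff.2 (Subtype.ext hgt)⟩, rfl⟩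
  have hdt : dt (M.lam t) (M.lam t) = 32 := by
    have h := M.lam_norm t ht
    rw [← KS.dot_self] at h
    exact h
  have hth : th H L (M.ι t : V ≃ₗ[ℚ] V) - M.lam t ∈ dbl := by
    rw [th_ι]
    apply vec_congr
    have h : Eqz M (θ (M.lam t)) t := L.lam t ht
    exact h.symm
  have hC : ∀ g, g ∈ D.G → g * (M.z : V ≃ₗ[ℚ] V) = (M.z : V ≃ₗ[ℚ] V) * g → g ∈ D.C := by
    intro g hg hgz
    have h1 : (⟨g, hg⟩ : D.G) ∈ M.K := hcent _ (Subtype.ext hgz)
    exact (H.C_iff _).1 h1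
  have hbig := BigZ.bigG (qData H L) (H.ι_mem_Q t) hdt hth e.range
    (fun g hg hgz => hC g ((hmem g).1 hg).1 (by rw [H.z_eq] at hgz; exact hgz))
    (fun g hg => ((hmem g).1 hg).2)
    (fun c hc hct => (hmem c).2 ⟨H.C_le hc, hct⟩)
  refine hbig.toBig e he rfl rfl ?_
  rw [H.z_eq]
  rfl

end Cfsg.Agent.MonsterN.BigZModel
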