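import Cfsg.Agent.MonsterN.Local
import Cfsg.Agent.BabyU.IdentGen
import Cfsg.Agent.BM.KHAll

/-!
# The projection of `C_B(f₁)` onto `²E₆(2)` (helper925)

`B` a double cover of the presented Baby Monster with kernel `⟨y 10⟩` and the thirteen nodes `Pre y`, `f₁ = y 5`
conjugate to `f₁ f₂`.  Then `|C_B(f₁)| = 4 |²E₆(2)|` (`card_KK`), `C_B(f₁)` is generated by the ten nodes of `Y₃₃₃` and
`C_B(f₁)/⟨f₁, f₂⟩` is isomorphic to `²E₆(2)` compatibly with any generating configuration `Good e0` (`exists_KD`).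
-/

set_option autoImplicit false

namespace Cfsg.Agent.MonsterN.CardK

open Cfsg Cfsg.Agent.Bimonster Cfsg.Agent.TwoESix.Cox10 Cfsg.Agent.TwoESix.Lift Cfsg.Agent.TwoESix.Cover
open Cfsg.Agent.BabyU.OutFree Cfsg.Agent.R01.Lifts

section abs

variable {G : Type*} [Group G] {y : ℕ → G}

/-! ### The subgroup `⟨f₁, f₂⟩` -/

/-- `⟨f₁, f₂⟩` -/
def V (h : Pre y) : Subgroup (KK y) where
  carrier := {k | k = 1 ∨ k = h.f2 ∨ k = h.f1 ∨ k = h.f2 * h.f1}
  one_mem' := Or.inl rfl
  mul_mem' := by
    have e1 := h.f1_sq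
    have e2 := h.f2_sq
    have c : h.f1 * h.f2 = h.f2 * h.f1 := h.f1_comm _
    rintro a b (rfl | rfl | rfl | rfl) (rfl | rfl | rfl | rfl)
    · left; rw [one_mul]
    · right; left; rw [one_mul]
    · right; right; left; rw [one_mul]
    · right; right; right; rw [one_mul]
    · right; left; rw [mul_one]
    · left; exact e2
    · right; right; right; rfl
    · right; right; left; rw [← mul_assoc, e2, one_mul]
    · right; right; left; rw [mul_one]
    · right; right; right; exact c
    · left; exact e1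
    · right; left; rw [← mul_assoc, c, mul_assoc, e1, mul_one]
    · right; right; right; rw [mul_one]
    · right; right; left; rw [mul_assoc, c, ← mul_assoc, e2, one_mul]
    · right; left; rw [mul_assoc, e1, mul_one]
    · left; rw [mul_assoc, ← mul_assoc h.f1, c, mul_assoc h.f2, e1, mul_one, e2]
  inv_mem' := by
    have e1 := h.f1_sq
    have e2 := h.f2_sq
    have c : h.f1 * h.f2 = h.f2 * h.f1 := h.f1_comm _
    rintro a (rfl | rfl | rfl | rfl)
    · left; exact inv_one
    · right; left; exact inv_eq_of_mul_eq_one_left e2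
    · right; right; left; exact inv_eq_of_mul_eq_one_left e1
    · right; right; right
      apply inv_eq_of_mul_eq_one_left
      rw [mul_assoc, ← mul_assoc h.f1, c, mul_assoc h.f2, e1, mul_one, e2]

theorem mem_V {h : Pre y} {k : KK y} : k ∈ V h ↔ k = 1 ∨ k = h.f2 ∨ k = h.f1 ∨ k = h.f2 * h.f1 := Iff.rfl

theorem V_comm {h : Pre y} {v : KK y} (hv : v ∈ V h) (k : KK y) : v * k = k * v := by
  rcases mem_V.1 hv with rfl | rfl | rfl | rfl
  · rw [one_mul, mul_one]
  · exact h.f2_comm k
  · exact h.f1_comm k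
  · rw [mul_assoc, h.f1_comm, ← mul_assoc, h.f2_comm, mul_assoc]

instance V_normal (h : Pre y) : (V h).Normal := by
  refine ⟨fun v hv g => ?_⟩
  rw [← V_comm hv g, mul_inv_cancel_right]
  exact hv

theorem card_V (h : Pre y) (ne : y 10 ≠ y 5) (ne1 : y 5 ≠ 1) (ne2 : y 10 ≠ 1) : Nat.card (V h) = 4 := by
  have n1 : h.f1 ≠ 1 := fun e => ne1 (congrArg Subtype.val e)
  have n2 : h.f2 ≠ 1 := fun e => ne2 (congrArg Subtype.val e)
  have n12 : h.f2 ≠ h.f1 := fun e => ne (congrArg Subtype.val e)
  have n3 : h.f2 * h.f1 ≠ 1 := fun e => by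
    have := mul_eq_one_iff_eq_inv.1 e
    rw [inv_eq_of_mul_eq_one_left h.f1_sq] at this
    exact n12 this
  have n4 : h.f2 * h.f1 ≠ h.f2 := fun e => n1 (mul_eq_left.1 e)
  have n5 : h.f2 * h.f1 ≠ h.f1 := fun e => n2 (mul_eq_right.1 e)
  have e : (V h : Set (KK y)) = {1, h.f2, h.f1, h.f2 * h.f1} := by
    ext k
    simp only [Set.mem_insert_iff, Set.mem_singleton_iff]
    exact mem_V
  have : Nat.card (V h) = (V h : Set (KK y)).ncard := rfl
  rw [this, e, Set.ncard_insert_of_notMem, Set.ncard_insert_of_notMem, Set.ncard_pair n5.symm]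
  · simp only [Set.mem_insert_iff, Set.mem_singleton_iff, not_or]
    exact ⟨n12, n4.symm⟩
  · simp only [Set.mem_insert_iff, Set.mem_singleton_iff, not_or]
    exact ⟨n2.symm, n1.symm, n3.symm⟩

/-! ### The nodes modulo `⟨f₁, f₂⟩` -/

theorem good_mk (h : Pre y) : Good (fun i => (QuotientGroup.mk' (V h)) (h.nd i)) := by
  have key : ∀ k ∈ V h, (QuotientGroup.mk' (V h)) k = 1 := fun k hk => (QuotientGroup.eq_one_iff k).2 hk
  have hs : ∀ k, (QuotientGroup.mk' (V h)) (sig h.nd k) = 1 →
      ev (fun i => (QuotientGroup.mk' (V h)) (h.nd i)) (W k) ^ 9 = 1 := by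
    intro k hk
    rw [← ev_map, ← map_pow]
    exact hk
  refine ⟨?_, ?_, ?_, ?_, ?_⟩
  · intro i j
    rw [← map_mul, ← map_pow, h.liftableK i j, map_one]
  · rw [← ev_map, ← map_pow, h.cs.spider, map_one]
  · exact hs 0 (by rw [h.sigK0]; exact key _ (Or.inr (Or.inr (Or.inl rfl))))
  · exact hs 1 (by rw [h.sigK1]; exact key _ (Or.inr (Or.inl rfl)))
  · exact hs 2 (by rw [h.sigK2]; exact map_one _)

/-- The nodes do not all lie in `⟨f₁, f₂⟩`. -/
theorem exists_nd_notMem (h : Pre y) (ne : y 10 ≠ y 5) : ∃ i, h.nd i ∉ V h := by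
  by_contra hc
  have hc : ∀ i, h.nd i ∈ V h := fun i => not_not.1 fun hi => hc ⟨i, hi⟩
  have hb : ∀ i j, adj i j = true → h.nd i = h.nd j := by
    intro i j hij
    have b := braid h.liftableK hij
    rw [mul_assoc, V_comm (hc i), mul_assoc, TwoESix.Cox10.sq h.liftableK i, mul_one, mul_assoc, V_comm (hc j) (h.nd i * h.nd j),
      mul_assoc, TwoESix.Cox10.sq h.liftableK j, mul_one] at b
    exact b.symm
  have hall : ∀ i, h.nd i = h.nd 3 :=
    all_nodes (fun i => h.nd i = h.nd 3) (fun i j hij hi => by rw [← hb i j hij, hi]) rfl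
  have hev : ∀ w : List (Fin 10), ev h.nd w = h.nd 3 ^ w.length := by
    intro w
    induction w with
    | nil => simp [ev_nil]
    | cons i w ih => rw [ev_cons, ih, hall i, List.length_cons, pow_succ']
  have h0 : sig h.nd 0 = sig h.nd 1 := by
    rw [sig, sig, hev, hev, W_length, W_length]
  rw [h.sigK0, h.sigK1] at h0
  exact ne (congrArg Subtype.val h0).symm

/-- **The projection of `C_G(f₂, f₁)`** onto `E`, from the order. -/
theorem exists_KD [Finite HB] {E : Type*} [Group E] [IsSimpleGroup E] {e0 : Fin 10 → E} (he0 : Good e0)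
    (hgen : Subgroup.closure (Set.range e0) = ⊤) (hcard : Nat.card HB ≤ Nat.card E) {R : Set E}
    (hR : ∀ i, e0 i ∈ R) (h : Pre y) (ne : y 10 ≠ y 5) (ne1 : y 5 ≠ 1) (ne2 : y 10 ≠ 1) [Finite (KK y)]
    (hK : Nat.card (KK y) ≤ 4 * Nat.card E) : ∃ π : KK y →* E, KD h R π ∧ ∀ i, π (h.nd i) = e0 i := by
  have hsimp := BabyU.IdentGen.isSimple_HB he0 hgen hcard
  have hcHB := BabyU.IdentGen.card_HB he0 hgen hcard
  set f := toHom (good_mk h) with hf
  have hfs : ∀ i, f (s0 i) = (QuotientGroup.mk' (V h)) (h.nd i) := fun i => toHom_s0 _ i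
  have hinj : Function.Injective f := by
    rw [← MonoidHom.ker_eq_bot_iff]
    rcases hsimp.eq_bot_or_eq_top_of_normal f.ker inferInstance with hk | hk
    · exact hk
    · exfalso
      obtain ⟨i, hi⟩ := exists_nd_notMem h ne
      apply hi
      have : s0 i ∈ f.ker := by rw [hk]; exact Subgroup.mem_top _
      rw [MonoidHom.mem_ker, hfs] at this
      exact (QuotientGroup.eq_one_iff _).1 this
  have hcard2 : Nat.card (KK y ⧸ V h) ≤ Nat.card HB := by
    have e := Subgroup.card_eq_card_quotient_mul_card_subgroup (V h)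
    rw [card_V h ne ne1 ne2] at e
    rw [hcHB]
    omega
  have hbij : Function.Bijective f :=
    (Nat.bijective_iff_injective_and_card f).2 ⟨hinj, le_antisymm (Nat.card_le_card_of_injective _ hinj) hcard2⟩
  have hbij0 : Function.Bijective (toHom he0) := toHom_bijective he0 hgen hcard
  set F := MulEquiv.ofBijective f hbij with hF
  let π : KK y →* E := (toHom he0).comp (F.symm.toMonoidHom.comp (QuotientGroup.mk' (V h)))
  have hπ : ∀ i, π (h.nd i) = e0 i := by
    intro i
    show toHom he0 (F.symm ((QuotientGroup.mk' (V h)) (h.nd i))) = e0 i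
    rw [← hfs i]
    have : F.symm (F (s0 i)) = s0 i := F.symm_apply_apply _
    have this' : F.symm (f (s0 i)) = s0 i := this
    rw [this', toHom_s0]
  refine ⟨π, ⟨?_, ?_, ?_, ?_, ne, ne1, ne2⟩, hπ⟩
  · exact hbij0.2.comp (F.symm.surjective.comp (QuotientGroup.mk'_surjective _))
  · intro k
    show toHom he0 (F.symm ((QuotientGroup.mk' (V h)) k)) = 1 ↔ _
    rw [← map_one (toHom he0), hbij0.1.eq_iff, ← map_one F.symm, F.symm.injective.eq_iff]
    exact (QuotientGroup.eq_one_iff k).trans mem_V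
  · intro i
    rw [hπ]; exact hR i
  · have : (Set.range fun i => π (h.nd i)) = Set.range e0 := by
      congr 1
      funext i
      exact hπ i
    rw [this]; exact hgen

end abs

/-! ### The order of `C_B(f₁)` -/

section order

/-- A central extension by a group of order two: if `x` is conjugate to `z x` then the centraliser of `x` has the order
of the centraliser of its image. -/
theorem card_centralizer_of_ext {B Q : Type*} [Group B] [Finite B] [Group Q] {q : B →* Q} {z : B} (h : Ext q z) {x : B}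
    (hx : IsConj x (z * x)) : Nat.card (Subgroup.centralizer ({x} : Set B)) =
      Nat.card (Subgroup.centralizer ({q x} : Set Q)) := by
  have hfQ : Finite Q := Finite.of_surjective q h.surj
  obtain ⟨g, hg⟩ := isConj_iff.1 hx
  have hzx : z * x ≠ x := fun e => h.zne (mul_eq_right.1 e)
  have hmem : ∀ b : B, q b ∈ Subgroup.centralizer ({q x} : Set Q) ↔ b * x * b⁻¹ = x ∨ b * x * b⁻¹ = z * x := by
    intro b
    rw [Subgroup.mem_centralizer_singleton_iff, ← map_mul, ← map_mul, h.map_eq]
    constructor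
    · rintro (e | e)
      · left; rw [e, mul_inv_cancel_right]
      · right; rw [e, h.comm]; group
    · rintro (e | e)
      · left
        calc b * x = b * x * b⁻¹ * b := by group
          _ = x * b := by rw [e]
      · right
        calc b * x = b * x * b⁻¹ * b := by group
          _ = z * (x * b) := by rw [e, mul_assoc]
          _ = x * b * z := (h.comm _).symm
  have hmemC : ∀ b : B, b ∈ Subgroup.centralizer ({x} : Set B) ↔ b * x * b⁻¹ = x := by
    intro b
    rw [Subgroup.mem_centralizer_singleton_iff, mul_inv_eq_iff_eq_mul]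
  set D := (Subgroup.centralizer ({q x} : Set Q)).comap q with hD
  set C := Subgroup.centralizer ({x} : Set B) with hC
  have hCD : C ≤ D := by
    intro b hb
    rw [hD, Subgroup.mem_comap, hmem]
    exact Or.inl ((hmemC b).1 hb)
  have hgD : g ∈ D := (hmem g).2 (Or.inr hg)
  have hrel : C.relIndex D = 2 := by
    rw [Subgroup.relIndex, Subgroup.index_eq_two_iff']
    refine ⟨⟨g, hgD⟩, ?_⟩
    rintro ⟨b, hb⟩
    have hb' := (hmem b).1 hb
    rw [Subgroup.mem_subgroupOf, Subgroup.mem_subgroupOf, hmemC, hmemC]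
    show Xor (g * b * x * (g * b)⁻¹ = x) (b * x * b⁻¹ = x)
    have e1 : g * b * x * (g * b)⁻¹ = g * (b * x * b⁻¹) * g⁻¹ := by group
    rcases hb' with e | e
    · right
      refine ⟨e, ?_⟩
      rw [e1, e, hg]
      exact hzx
    · left
      refine ⟨?_, by rw [e]; exact hzx⟩
      rw [e1, e]
      calc g * (z * x) * g⁻¹ = (g * z) * x * g⁻¹ := by group
        _ = z * (g * x * g⁻¹) := by rw [h.comm]; group
        _ = x := by rw [hg, ← mul_assoc, h.zz, one_mul]
  have hDi : D.index = (Subgroup.centralizer ({q x} : Set Q)).index := Subgroup.index_comap_of_surjective _ h.surj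
  have hi := Subgroup.relIndex_mul_index hCD
  rw [hrel, hDi] at hi
  have h1 := C.card_mul_index
  have h2 := (Subgroup.centralizer ({q x} : Set Q)).card_mul_index
  have h3 := card_of_ext h
  rw [h3, ← h2, ← hi] at h1
  have h0 : (Subgroup.centralizer ({q x} : Set Q)).index ≠ 0 := Subgroup.index_ne_zero_of_finite
  have h4 : 2 * (Subgroup.centralizer ({q x} : Set Q)).index ≠ 0 := by omega
  refine Nat.eq_of_mul_eq_mul_right (Nat.pos_of_ne_zero h4) ?_
  rw [h1]; ring

variable {B : Type*} [Group B] {y : ℕ → B}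

/-- `f₁` and `e₁` are conjugate. -/
theorem isConj_four (h : Pre y) : IsConj (y 4) (y 5) := by
  have hb := h.br 4 (by norm_num) 5 (by norm_num) (by norm_num) (by norm_num) (by decide)
  have h4 := h.sq 4 (by norm_num) (by norm_num)
  have h5 := h.sq 5 (by norm_num) (by norm_num)
  exact BM.KH.isConj_of_braid h4 h5 hb

/-- `C_B(f₂, f₁) = C_B(f₁)`, `f₂` central -/
theorem KK_eq (hc : ∀ b : B, b * y 10 = y 10 * b) : KK y = Subgroup.centralizer ({y 5} : Set B) := by
  ext b
  rw [mem_KK, Subgroup.mem_centralizer_singleton_iff]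
  exact ⟨fun hb => hb.2, fun hb => ⟨hc b, hb⟩⟩

theorem card_centralizer_isConj {Q : Type*} [Group Q] {a b : Q} (h : IsConj a b) :
    Nat.card (Subgroup.centralizer ({a} : Set Q)) = Nat.card (Subgroup.centralizer ({b} : Set Q)) := by
  obtain ⟨c, rfl⟩ := isConj_iff.1 h
  have : Subgroup.centralizer ({c * a * c⁻¹} : Set Q) =
      (Subgroup.centralizer ({a} : Set Q)).map (MulAut.conj c).toMonoidHom := by
    ext x
    rw [Subgroup.mem_centralizer_singleton_iff, Subgroup.mem_map]
    constructor
    · intro hx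
      refine ⟨c⁻¹ * x * c, ?_, by simp [mul_assoc]⟩
      rw [Subgroup.mem_centralizer_singleton_iff]
      calc c⁻¹ * x * c * a = c⁻¹ * (x * (c * a * c⁻¹)) * c := by group
        _ = c⁻¹ * (c * a * c⁻¹ * x) * c := by rw [hx]
        _ = a * (c⁻¹ * x * c) := by group
    · rintro ⟨z, hz, rfl⟩
      have hz' := Subgroup.mem_centralizer_singleton_iff.1 hz
      show c * z * c⁻¹ * (c * a * c⁻¹) = c * a * c⁻¹ * (c * z * c⁻¹)
      calc c * z * c⁻¹ * (c * a * c⁻¹) = c * (z * a) * c⁻¹ := by group
        _ = c * (a * z) * c⁻¹ := by rw [hz']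
        _ = _ := by group
  rw [this, Subgroup.card_map_of_injective (MulAut.conj c).injective]

/-- **The order of `C_B(f₁)`.** -/
theorem card_KK [Finite B] {q : B →* Spor.BabyMonster} (hq : Ext q (y 10))
    (hc : IsConj (y 5) (y 10 * y 5)) {t : Spor.BabyMonster.Gen} (ht : IsConj (q (y 5)) (PresentedGroup.of t)) :
    Nat.card (KK y) = 4 * 76532479683774853939200 := by
  rw [KK_eq hq.comm, card_centralizer_of_ext hq hc, card_centralizer_isConj ht]
  exact BM.KHAll.card_cent t

/-- **The projection of `C_B(f₁)` onto `²E₆(2)`.**  `B` is a central extension of the presented Baby Monster by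
`⟨y 10⟩`, `y 5` conjugate to `y 10 * y 5` and a node of the presented group `q (y 4)`. -/
theorem exists_KD_of_ext [Finite HB] {E : Type*} [Group E] [IsSimpleGroup E] {e0 : Fin 10 → E} (he0 : Good e0)
    (hgen : Subgroup.closure (Set.range e0) = ⊤) (hcard : Nat.card HB ≤ Nat.card E)
    (hE : Nat.card E = 76532479683774853939200) {R : Set E} (hR : ∀ i, e0 i ∈ R) [Finite B] (h : Pre y)
    {q : B →* Spor.BabyMonster} (hq : Ext q (y 10)) (hc : IsConj (y 5) (y 10 * y 5))
    {t : Spor.BabyMonster.Gen} (ht : IsConj (q (y 4)) (PresentedGroup.of t)) :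
    ∃ π : KK y →* E, KD h R π ∧ ∀ i, π (h.nd i) = e0 i := by
  have h45 : IsConj (q (y 4)) (q (y 5)) := by
    obtain ⟨c, hc⟩ := isConj_iff.1 (isConj_four h)
    exact isConj_iff.2 ⟨q c, by rw [← map_inv, ← map_mul, ← map_mul, hc]⟩
  have ht' : IsConj (q (y 5)) (PresentedGroup.of t) := h45.symm.trans ht
  have hK := card_KK (y := y) hq hc ht'
  have hne1 : y 5 ≠ 1 := by
    intro e
    rw [e, mul_one] at hc
    have : y 10 = 1 := isConj_one_right.1 hc
    exact hq.zne this
  have hne : y 10 ≠ y 5 := by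
    intro e
    rw [← e, hq.zz, isConj_one_left] at hc
    exact hq.zne hc
  exact exists_KD he0 hgen hcard hR h hne hne1 hq.zne (by rw [hK, hE])

end order

end Cfsg.Agent.MonsterN.CardK
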