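import Cfsg.Agent.MonsterN.Rev

/-!
# `e₂` commutes with `e₁`
-/

set_option autoImplicit false

namespace Cfsg.Agent.MonsterN

open Cfsg Cfsg.Agent.Bimonster Cfsg.Agent.Bimonster.Tits Cfsg.Agent.BabyU.OutFree Cfsg.Agent.BabyU.RootCfg

variable {G : Type*} [Group G] {y : ℕ → G} {e : G}

theorem sand_comm {v a b a' b' : G} (hv : v * v = 1) (ha : v * a * v = a') (hb : v * b * v = b')
    (h : a * b = b * a) : a' * b' = b' * a' := by
  rw [← ha, ← hb]
  calc v * a * v * (v * b * v) = v * a * (v * v) * b * v := by group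
    _ = v * (a * b) * v := by rw [hv]; group
    _ = v * (b * a) * v := by rw [h]
    _ = v * b * (v * v) * a * v := by rw [hv]; group
    _ = v * b * v * (v * a * v) := by group

theorem sand_braid {v a b a' b' : G} (hv : v * v = 1) (ha : v * a * v = a') (hb : v * b * v = b')
    (h : a * b * a = b * a * b) : a' * b' * a' = b' * a' * b' := by
  rw [← ha, ← hb]
  calc v * a * v * (v * b * v) * (v * a * v) = v * a * (v * v) * b * (v * v) * a * v := by group
    _ = v * (a * b * a) * v := by rw [hv]; group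
    _ = v * (b * a * b) * v := by rw [h]
    _ = v * b * (v * v) * a * (v * v) * b * v := by rw [hv]; group
    _ = v * b * v * (v * a * v) * (v * b * v) := by group

theorem sand_flip {v a a' : G} (hv : v * v = 1) (ha : v * a * v = a') : v * a' * v = a := by
  rw [← ha]
  calc v * (v * a * v) * v = (v * v) * a * (v * v) := by group
    _ = a := by rw [hv, one_mul, mul_one]

variable {E : Type*} [Group E] {h : Pre y} {R : Set E} {π : KK y →* E}
variable {F : Type*} [Field F] [Fintype F] {hF : Fintype.card F = 2 ^ 2}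

/-- Two lifts with products of order three with the same element are equal. -/
theorem KD.eq_of_cube (D : KD h R π) {a b r : KK y} (hab : π a = π b) (ha : (a * r) ^ 3 = 1) (hb : (b * r) ^ 3 = 1) :
    a = b := by
  set u : KK y := b⁻¹ * a with hu
  have hu1 : π u = 1 := by rw [hu, map_mul, map_inv, hab, inv_mul_cancel]
  have huc := D.ker_comm hu1
  have hu2 := D.ker_sq hu1
  have hau : a = b * u := by rw [hu, mul_inv_cancel_left]
  have h3 : (a * r) ^ 3 = (b * r) ^ 3 * u ^ 3 := by
    have e1 : a * r = (b * r) * u := by rw [hau, mul_assoc, huc, ← mul_assoc]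
    have hc : Commute (b * r) u := (huc (b * r)).symm
    rw [e1, hc.mul_pow]
  rw [ha, hb, one_mul] at h3
  have h4 : u = 1 := by
    have : u ^ 3 = u * u * u := by rw [pow_succ, pow_two]
    rw [this, hu2, one_mul] at h3
    exact h3.symm
  rw [hau, h4, mul_one]

theorem comm (D : KD h R π) (RF : RootFacts hF R) (hE : ∃ a b : E, ¬ Commute a b) (he : Ten y e)
    (hne : e ≠ y 10) : e * y 4 = y 4 * e := by
  have cfg := BabyU.Out.cfg_of_gg D.gg D.node hE
  set v := vB y e with hv
  have vv : v * v = 1 := vB_sq h he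
  set s := rv y e with hs
  have ss : s * s = 1 := rv_sq h he
  have sc := rv_comm h he
  -- conjugates under `v`
  have v10 : v * y 10 * v = y 13 := vB_conj h he 10 13 (by decide +kernel)
  have v9 : v * e * v = y 12 := vB_conj h he 9 12 (by decide +kernel)
  have v8 : v * y 8 * v = y 11 := vB_conj h he 8 11 (by decide +kernel)
  have v7 : v * y 7 * v = y 0 := vB_conj h he 7 0 (by decide +kernel)
  have v6 : v * y 6 * v = y 6 := vB_conj h he 6 6 (by decide +kernel)
  have v5 : v * y 5 * v = y 5 := vB_conj h he 5 5 (by decide +kernel)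
  have v2 : v * y 2 * v = y 2 := vB_conj h he 2 2 (by decide +kernel)
  have v3 : v * y 3 * v = y 3 := vB_conj h he 3 3 (by decide +kernel)
  have v0 : v * y 0 * v = y 7 := sand_flip vv v7
  have v11 : v * y 11 * v = y 8 := sand_flip vv v8
  have v13 : v * y 13 * v = y 10 := sand_flip vv v10
  -- the element `q`
  set q := v * s * v with hq
  have q10 : q * y 10 = y 10 * q := sand_comm vv rfl v13 (sc 13 (by decide))
  have q5 : q * y 5 = y 5 * q := sand_comm vv rfl v5 (sc 5 (by decide))
  have q0 : q * y 0 = y 0 * q := sand_comm vv rfl v7 (sc 7 (by decide))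
  have q6 : q * y 6 = y 6 * q := sand_comm vv rfl v6 (sc 6 (by decide))
  have q7 : q * y 7 = y 7 * q := sand_comm vv rfl v0 (sc 0 (by decide))
  have q8 : q * y 8 = y 8 * q := sand_comm vv rfl v11 (sc 11 (by decide))
  have q2 : q * y 2 = y 2 * q := sand_comm vv rfl v2 (sc 2 (by decide))
  have q3 : q * y 3 = y 3 * q := sand_comm vv rfl v3 (sc 3 (by decide))
  have q13 : q * y 13 * q = y 13 * q * y 13 := sand_braid vv rfl v10 (rv_braid h he)
  have qq : q * q = 1 := by
    calc q * q = v * s * (v * v) * s * v := by rw [hq]; group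
      _ = v * (s * s) * v := by rw [vv]; group
      _ = 1 := by rw [ss, mul_one, vv]
  have hqm : q ∈ KK y := mem_KK.2 ⟨q10, q5⟩
  set Q : KK y := ⟨q, hqm⟩ with hQ
  have QQ : Q * Q = 1 := Subtype.ext qq
  have r2 : h.nd 9 * h.nd 9 = 1 := TwoESix.Cox10.sq h.liftableK 9
  have x2 : h.nd 8 * h.nd 8 = 1 := TwoESix.Cox10.sq h.liftableK 8
  have hb : Q * h.nd 9 * Q = h.nd 9 * Q * h.nd 9 := Subtype.ext q13
  have hQ3 : (Q * h.nd 9) ^ 3 = 1 := cube_of QQ r2 hb
  have hx3 : (h.nd 8 * h.nd 9) ^ 3 = 1 := by
    have := h.liftableK 8 9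
    exact this
  have cE : ∀ {a b : KK y}, a * b = b * a → π a * π b = π b * π a := by
    intro a b hab
    rw [← map_mul, ← map_mul, hab]
  have hcm : ∀ i j, TwoESix.Cox10.adj i j = false → π (h.nd i) * π (h.nd j) = π (h.nd j) * π (h.nd i) :=
    fun i j hij => cfg.non i j hij
  -- `π Q ∈ R`
  have hQR : π Q ∈ R := by
    have e1 : Q = (h.nd 9 * Q) * h.nd 9 * (h.nd 9 * Q)⁻¹ := by
      have : h.nd 9 * Q * h.nd 9 = Q * (h.nd 9 * Q) := by rw [← hb]; group
      rw [this]; group
    rw [e1, map_mul, map_mul, map_inv]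
    exact RF.conj _ (D.node 9) _
  have hrR := D.node 9
  have hne' : q ≠ y 13 := by
    intro hqe
    apply rv_ne h hne
    have : v * q * v = s := sand_flip vv rfl
    rw [← hs, ← this, hqe, v13]
  -- the line
  have hline := Line.main RF (c := π (h.nd 1)) (d := π (h.nd 0)) (p1 := π (h.nd 3)) (p2 := π (h.nd 4))
    (p3 := π (h.nd 5)) (p4 := π (h.nd 6)) (r := π (h.nd 9)) (x := π (h.nd 8)) (x' := π Q)
    (D.node 1) (D.node 0) ⟨?_, ?_⟩ (D.node 3) (D.node 4) (D.node 5) (D.node 6) (D.node 9) (D.node 8) hQR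
    ?_ (cfg.nadj 3 4 (by decide)) (cfg.nadj 4 5 (by decide)) (cfg.nadj 5 6 (by decide))
    (hcm 3 5 (by decide)) (hcm 3 6 (by decide)) (hcm 4 6 (by decide)) ?_ ?_ ?_ (cfg.nadj 9 8 (by decide)) ?_
  · rcases hline with hl | hl
    · -- `q = c₃`, i.e. `w e w = e`
      have h1 : Q = h.nd 8 := D.eq_of_cube hl hQ3 hx3
      have h2 : q = y 12 := congrArg Subtype.val h1
      have h3 : s = e := by
        have e1 : v * q * v = s := sand_flip vv rfl
        rw [← e1, h2]
        exact sand_flip vv v9
      rw [← h3]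
      exact sc 4 (by decide)
    · have hxr : (h.nd 9 * h.nd 8 * h.nd 9 * h.nd 9) ^ 3 = 1 := by
        rw [mul_assoc _ (h.nd 9) (h.nd 9), r2, mul_one]
        have := h.liftableK 9 8
        exact this
      have h1 : Q = h.nd 9 * h.nd 8 * h.nd 9 :=
        D.eq_of_cube (by rw [hl, map_mul, map_mul]) hQ3 hxr
      have h2 : q = y 13 * y 12 * y 13 := congrArg Subtype.val h1
      have h3 : s = y 10 * e * y 10 := by
        have e1 : v * q * v = s := sand_flip vv rfl
        have v12 : v * y 12 * v = e := sand_flip vv v9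
        rw [← e1, h2]
        calc v * (y 13 * y 12 * y 13) * v = v * y 13 * (v * v) * y 12 * (v * v) * y 13 * v := by rw [vv]; group
          _ = (v * y 13 * v) * (v * y 12 * v) * (v * y 13 * v) := by group
          _ = y 10 * e * y 10 := by rw [v13, v12]
      have t2 : y 10 * y 10 = 1 := h.sq 10 (by norm_num) (by norm_num)
      have t4 : y 10 * y 4 = y 4 * y 10 :=
        h.cm 10 (by norm_num) 4 (by norm_num) (by norm_num) (by norm_num) (by decide)
      have h4 : e = y 10 * s * y 10 := by
        rw [h3]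
        calc e = (y 10 * y 10) * e * (y 10 * y 10) := by rw [t2, one_mul, mul_one]
          _ = _ := by group
      have sc4 : s * y 4 = y 4 * s := sc 4 (by decide)
      rw [h4]
      calc y 10 * s * y 10 * y 4 = y 10 * s * (y 10 * y 4) := by group
        _ = y 10 * (s * y 4) * y 10 := by rw [t4]; group
        _ = (y 10 * y 4) * s * y 10 := by rw [sc4]; group
        _ = y 4 * (y 10 * s * y 10) := by rw [t4]; group
  · intro h01
    exact cfg.nadj 1 0 (by decide) (by rw [h01])
  · exact cfg.three 1 0 (by decide)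
  · intro a ha
    simp only [Set.mem_insert_iff, Set.mem_singleton_iff] at ha
    rcases ha with rfl | rfl | rfl | rfl | rfl | rfl | rfl
    · exact ⟨hcm 3 1 (by decide), hcm 3 0 (by decide)⟩
    · exact ⟨hcm 4 1 (by decide), hcm 4 0 (by decide)⟩
    · exact ⟨hcm 5 1 (by decide), hcm 5 0 (by decide)⟩
    · exact ⟨hcm 6 1 (by decide), hcm 6 0 (by decide)⟩
    · exact ⟨hcm 9 1 (by decide), hcm 9 0 (by decide)⟩
    · exact ⟨hcm 8 1 (by decide), hcm 8 0 (by decide)⟩
    · exact ⟨cE (Subtype.ext q2), cE (Subtype.ext q3)⟩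
  · intro a ha
    simp only [Set.mem_insert_iff, Set.mem_singleton_iff] at ha
    rcases ha with rfl | rfl | rfl | rfl
    · exact hcm 9 3 (by decide)
    · exact hcm 9 4 (by decide)
    · exact hcm 9 5 (by decide)
    · exact hcm 9 6 (by decide)
  · intro a ha
    simp only [Set.mem_insert_iff, Set.mem_singleton_iff] at ha
    rcases ha with rfl | rfl | rfl | rfl
    · exact hcm 8 3 (by decide)
    · exact hcm 8 4 (by decide)
    · exact hcm 8 5 (by decide)
    · exact hcm 8 6 (by decide)
  · intro a ha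
    simp only [Set.mem_insert_iff, Set.mem_singleton_iff] at ha
    rcases ha with rfl | rfl | rfl | rfl
    · exact cE (Subtype.ext q0)
    · exact cE (Subtype.ext q6)
    · exact cE (Subtype.ext q7)
    · exact cE (Subtype.ext q8)
  · intro hc
    apply hne'
    have h1 : π Q = π (h.nd 9) := by
      refine BabyU.Out.eq_of_commute ?_ ?_ ?_ hc.symm
      · rw [← map_mul, QQ, map_one]
      · rw [← map_mul, r2, map_one]
      · rw [← map_mul, ← map_pow, hQ3, map_one]
    have h2 : Q = h.nd 9 := by
      refine D.eq_of_cube h1 hQ3 ?_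
      rw [r2, one_pow]
    exact congrArg Subtype.val h2

end Cfsg.Agent.MonsterN
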