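import Cfsg.Agent.MonsterN.Local

/-!
# A nonsplit double cover of `E`

`KD.exists_cover`: `C(f₁, f₂) / ⟨f₁⟩` is a nonsplit double cover of `E`: in a direct product `E × ⟨z⟩` the words
`sig 1 = f₂` and `sig 2 = 1` (both `63` letters, all letters conjugate) would have the same image in `⟨z⟩`.
-/

set_option autoImplicit false

namespace Cfsg.Agent.MonsterN

open Cfsg Cfsg.Agent.Bimonster Cfsg.Agent.TwoESix.Cox10 Cfsg.Agent.TwoESix.Lift Cfsg.Agent.BabyU.OutFree

/-- Words in conjugate elements of an abelian group. -/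
theorem ev_const {A : Type*} [Group A] {m : Fin 10 → A} (hm : M10.IsLiftable m) (hA : ∀ a b : A, a * b = b * a)
    (w : List (Fin 10)) : ev m w = m 3 ^ w.length := by
  have h1 : ∀ i j, adj i j = true → m i = m j := by
    intro i j hij
    have hb := braid hm hij
    have hc := hA (m i) (m j)
    rw [← hc] at hb
    exact mul_left_cancel hb
  have h2 : ∀ i, m i = m 3 := all_nodes (fun i => m i = m 3)
    (fun i j hij hi => (h1 i j hij).symm.trans hi) rfl
  induction w with
  | nil => simp [ev_nil]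
  | cons i w ih => rw [ev_cons, ih, h2 i, List.length_cons, pow_succ']

/-- A double cover with lifts of the nodes whose words `sig` differ is nonsplit. -/
theorem isNonsplit {M E : Type*} [Group M] [Group E] (ρ : M →* E) (z : M) (hs : Function.Surjective ρ)
    (hz : z ≠ 1) (hker : ∀ m, ρ m = 1 ↔ m = 1 ∨ m = z) (hcen : ∀ m, z * m = m * z)
    (hE : ∀ e : E, (∀ x, e * x = x * e) → e = 1) {m : Fin 10 → M} (hm : M10.IsLiftable m)
    {k l : Fin 3} (hk : sig m k = z) (hl : sig m l = 1) : IsNonsplitDoubleCover M E := by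
  have hcenter : ∀ x : M, x ∈ Subgroup.center M ↔ x = 1 ∨ x = z := by
    intro x
    rw [Subgroup.mem_center_iff]
    constructor
    · intro hx
      rw [← hker]
      apply hE
      intro e
      obtain ⟨g, rfl⟩ := hs e
      rw [← map_mul, ← map_mul, hx g]
    · rintro (rfl | rfl) g
      · rw [one_mul, mul_one]
      · exact (hcen g).symm
  have hcard : Nat.card (Subgroup.center M) = 2 := by
    have : ((Subgroup.center M : Subgroup M) : Set M) = {1, z} := by
      ext x
      rw [SetLike.mem_coe, hcenter]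
      simp
    have h2 : Nat.card (Subgroup.center M) = ((Subgroup.center M : Subgroup M) : Set M).ncard := rfl
    rw [h2, this, Set.ncard_pair hz.symm]
  have hk' : ρ.ker = Subgroup.center M := by
    ext x
    rw [MonoidHom.mem_ker, hker, hcenter]
  refine ⟨hcard, ⟨(QuotientGroup.quotientMulEquivOfEq hk'.symm).trans
    (QuotientGroup.quotientKerEquivOfSurjective ρ hs)⟩, ?_⟩
  intro L hL
  have hdec : ∀ x : M, ∃ c ∈ Subgroup.center M, ∃ y ∈ L, c * y = x := by
    intro x
    obtain ⟨⟨⟨c, hc⟩, ⟨y, hy⟩⟩, hxy⟩ := hL.2 x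
    exact ⟨c, hc, y, hy, hxy⟩
  have hnorm : L.Normal := by
    refine ⟨fun n hn g => ?_⟩
    obtain ⟨c, hc, y, hy, rfl⟩ := hdec g
    have hc' := Subgroup.mem_center_iff.1 hc
    have : c * y * n * (c * y)⁻¹ = y * n * y⁻¹ := by
      calc c * y * n * (c * y)⁻¹ = c * (y * n * y⁻¹) * c⁻¹ := by group
        _ = (y * n * y⁻¹) * c * c⁻¹ := by rw [hc']
        _ = y * n * y⁻¹ := by group
    rw [this]
    exact L.mul_mem (L.mul_mem hy hn) (L.inv_mem hy)
  let q := QuotientGroup.mk' L
  have hq : ∀ x : M, ∃ c ∈ Subgroup.center M, q x = q c := by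
    intro x
    obtain ⟨c, hc, y, hy, rfl⟩ := hdec x
    refine ⟨c, hc, ?_⟩
    rw [map_mul, (QuotientGroup.eq_one_iff y).2 hy |> (fun h => show q y = 1 from h), mul_one]
  have hA : ∀ a b : M ⧸ L, a * b = b * a := by
    intro a b
    obtain ⟨x, rfl⟩ := QuotientGroup.mk'_surjective L a
    obtain ⟨y, rfl⟩ := QuotientGroup.mk'_surjective L b
    obtain ⟨c, hc, hx⟩ := hq x
    rw [show QuotientGroup.mk' L x = q c from hx, ← show q y = QuotientGroup.mk' L y from rfl, ← map_mul, ← map_mul,
      Subgroup.mem_center_iff.1 hc]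
  have hqm : M10.IsLiftable (fun i => q (m i)) := by
    intro i j
    rw [← map_mul, ← map_pow, hm i j, map_one]
  have key : ∀ k : Fin 3, q (sig m k) = q (m 3) ^ 63 := by
    intro k
    rw [sig, map_pow, ev_map, ev_const hqm hA, W_length, ← pow_mul]
  have hzL : z ∈ L := by
    rw [← QuotientGroup.eq_one_iff]
    show q z = 1
    rw [← hk, key, ← key l, hl, map_one]
  have hz1 : z ∈ Subgroup.center M := (hcenter z).2 (Or.inr rfl)
  exact hz (Subgroup.disjoint_def.1 hL.disjoint hz1 hzL)

universe u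

variable {G : Type u} [Group G] {y : ℕ → G} {E : Type*} [Group E] {h : Pre y} {R : Set E} {π : KK y →* E}

/-- **The existence of a nonsplit double cover of `E`.** -/
theorem KD.exists_cover (D : KD h R π) (hE : ∀ e : E, (∀ x, e * x = x * e) → e = 1) :
    ∃ (M' : Type u) (_ : Group M'), IsNonsplitDoubleCover M' E := by
  have h12 : h.f2 ≠ h.f1 := fun e => D.ne (congrArg Subtype.val e)
  have h20 : h.f2 ≠ 1 := fun e => D.ne2 (congrArg Subtype.val e)
  have hN : (Subgroup.zpowers h.f1).Normal := by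
    refine ⟨fun n hn g => ?_⟩
    obtain ⟨i, rfl⟩ := Subgroup.mem_zpowers_iff.1 hn
    have hc : Commute h.f1 g := h.f1_comm g
    have : g * h.f1 ^ i * g⁻¹ = h.f1 ^ i := by
      rw [← (hc.zpow_left i).eq, mul_assoc, mul_inv_cancel, mul_one]
    rw [this]; exact hn
  have memN : ∀ x : KK y, x ∈ Subgroup.zpowers h.f1 → x = 1 ∨ x = h.f1 := by
    intro x hx
    obtain ⟨i, rfl⟩ := Subgroup.mem_zpowers_iff.1 hx
    rcases Int.even_or_odd' i with ⟨j, rfl | rfl⟩
    · left
      rw [zpow_mul, show h.f1 ^ (2 : ℤ) = 1 by rw [zpow_two, h.f1_sq], one_zpow]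
    · right
      rw [zpow_add, zpow_mul, show h.f1 ^ (2 : ℤ) = 1 by rw [zpow_two, h.f1_sq], one_zpow, one_mul, zpow_one]
  have hker : ∀ x ∈ Subgroup.zpowers h.f1, π x = 1 := by
    intro x hx
    rw [D.ker]
    rcases memN x hx with rfl | rfl
    · exact Or.inl rfl
    · exact Or.inr (Or.inr (Or.inl rfl))
  let ρ : KK y ⧸ Subgroup.zpowers h.f1 →* E := QuotientGroup.lift _ π hker
  have hρ : ∀ x : KK y, ρ (QuotientGroup.mk' _ x) = π x := fun x => rfl
  have hf1 : (QuotientGroup.mk' (Subgroup.zpowers h.f1)) h.f1 = 1 :=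
    (QuotientGroup.eq_one_iff _).2 (Subgroup.mem_zpowers _)
  refine ⟨KK y ⧸ Subgroup.zpowers h.f1, inferInstance, ?_⟩
  refine isNonsplit ρ (QuotientGroup.mk' _ h.f2) ?_ ?_ ?_ ?_ hE
    (m := fun i => QuotientGroup.mk' (Subgroup.zpowers h.f1) (h.nd i)) ?_ (k := 1) (l := 2) ?_ ?_
  · intro e
    obtain ⟨k, rfl⟩ := D.surj e
    exact ⟨QuotientGroup.mk' _ k, rfl⟩
  · intro h1
    rcases memN _ ((QuotientGroup.eq_one_iff _).1 h1) with h2 | h2
    · exact h20 h2
    · exact h12 h2
  · intro m
    obtain ⟨x, rfl⟩ := QuotientGroup.mk'_surjective _ m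
    rw [hρ, D.ker]
    constructor
    · rintro (rfl | rfl | rfl | rfl)
      · exact Or.inl (map_one _)
      · exact Or.inr rfl
      · exact Or.inl hf1
      · right; rw [map_mul, hf1, mul_one]
    · rintro (h1 | h1)
      · rcases memN _ ((QuotientGroup.eq_one_iff _).1 h1) with h2 | h2
        · exact Or.inl h2
        · exact Or.inr (Or.inr (Or.inl h2))
      · have h2 : (QuotientGroup.mk' (Subgroup.zpowers h.f1)) (x * h.f2⁻¹) = 1 := by
          rw [map_mul, map_inv, h1, mul_inv_cancel]
        rcases memN _ ((QuotientGroup.eq_one_iff _).1 h2) with h3 | h3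
        · right; left; exact mul_inv_eq_one.1 h3
        · right; right; right
          have : x = h.f1 * h.f2 := by rw [← h3]; group
          rw [this, h.f1_comm]
  · intro m
    obtain ⟨x, rfl⟩ := QuotientGroup.mk'_surjective _ m
    rw [← map_mul, ← map_mul, h.f2_comm]
  · intro i j
    rw [← map_mul, ← map_pow, h.liftableK i j, map_one]
  · have := h.sigK1
    rw [sig] at this ⊢
    rw [← ev_map, ← map_pow, this]
  · have := h.sigK2
    rw [sig] at this ⊢
    rw [← ev_map, ← map_pow, this, map_one]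

/-- A non-commutative simple group has trivial centre. -/
theorem centerless {E : Type*} [Group E] [IsSimpleGroup E] (nc : ∃ a b : E, ¬ Commute a b) (e : E)
    (he : ∀ x, e * x = x * e) : e = 1 := by
  have hmem : e ∈ Subgroup.center E := Subgroup.mem_center_iff.2 fun g => (he g).symm
  rcases (inferInstance : IsSimpleGroup E).eq_bot_or_eq_top_of_normal (Subgroup.center E) inferInstance with h | h
  · rw [h] at hmem
    exact Subgroup.mem_bot.1 hmem
  · exfalso
    obtain ⟨a, b, hab⟩ := nc
    apply hab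
    have ha : a ∈ Subgroup.center E := by rw [h]; exact Subgroup.mem_top a
    exact (Subgroup.mem_center_iff.1 ha b).symm

/-- **The existence of a nonsplit double cover of the simple group `E`.** -/
theorem KD.exists_cover' [IsSimpleGroup E] (nc : ∃ a b : E, ¬ Commute a b) (D : KD h R π) :
    ∃ (M' : Type u) (_ : Group M'), IsNonsplitDoubleCover M' E :=
  D.exists_cover (centerless nc)

end Cfsg.Agent.MonsterN
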