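import Cfsg.Agent.MonsterN.Node

/-!
# The class of `f₁` is distinguished by the prime 19

`card_centralizer_five`: `|C_B(f₁)| = 4 |E|`; `hdist_of`: the hypothesis `hdist` of `node`, from 19.
-/

set_option autoImplicit false

namespace Cfsg.Agent.MonsterN

open Cfsg

section

variable {B : Type*} [Group B] {yB : ℕ → B} {E : Type*} [Group E] {h : Pre yB} {R : Set E} {π : KK yB →* E}

/-- `|C(f₁, f₂)| = 4 |E|` -/
theorem KD.card_KK (D : KD h R π) : Nat.card (KK yB) = 4 * Nat.card E := by
  have h1 : Nat.card (KK yB) = Nat.card (KK yB ⧸ π.ker) * Nat.card π.ker := Subgroup.card_eq_card_quotient_mul_card_subgroup _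
  have h2 : Nat.card (KK yB ⧸ π.ker) = Nat.card E :=
    Nat.card_congr (QuotientGroup.quotientKerEquivOfSurjective π D.surj).toEquiv
  have h12 : h.f2 ≠ h.f1 := fun e => D.ne (congrArg Subtype.val e)
  have h10 : h.f1 ≠ 1 := fun e => D.ne1 (congrArg Subtype.val e)
  have h20 : h.f2 ≠ 1 := fun e => D.ne2 (congrArg Subtype.val e)
  have hsq : h.f2 * h.f2 = 1 := Subtype.ext (h.sq 10 (by norm_num) (by norm_num))
  have hsq1 : h.f1 * h.f1 = 1 := Subtype.ext (h.sq 5 (by norm_num) (by norm_num))
  have h3 : Nat.card π.ker = 4 := by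
    classical
    have hs : (π.ker : Set (KK yB)) = (({1, h.f2, h.f1, h.f2 * h.f1} : Finset (KK yB)) : Set (KK yB)) := by
      ext k
      rw [SetLike.mem_coe, MonoidHom.mem_ker, D.ker]
      simp
    have : Nat.card π.ker = Nat.card ((π.ker : Set (KK yB))) := rfl
    rw [this, Nat.card_coe_set_eq, hs, Set.ncard_coe_finset]
    have e1 : h.f1 ≠ h.f2 * h.f1 := fun e => h20 (mul_right_cancel (b := h.f1) (by rw [one_mul]; exact e.symm))
    have e2 : h.f2 ≠ h.f2 * h.f1 := fun e => h10 (mul_left_cancel (a := h.f2) (by rw [mul_one]; exact e.symm))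
    have e3 : (1 : KK yB) ≠ h.f2 * h.f1 := by
      intro e
      apply h12
      calc h.f2 = h.f2 * (h.f1 * h.f1) := by rw [hsq1, mul_one]
        _ = h.f2 * h.f1 * h.f1 := by rw [mul_assoc]
        _ = h.f1 := by rw [← e, one_mul]
    rw [Finset.card_insert_of_notMem, Finset.card_insert_of_notMem, Finset.card_insert_of_notMem,
      Finset.card_singleton]
    · simpa using e1
    · simp only [Finset.mem_insert, Finset.mem_singleton, not_or]
      exact ⟨h12, e2⟩
    · simp only [Finset.mem_insert, Finset.mem_singleton, not_or]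
      exact ⟨h20.symm, h10.symm, e3⟩
  rw [h1, h2, h3, mul_comm]

/-- `|C_B(f₁)| = 4 |E|` for `f₂` central -/
theorem KD.card_centralizer_five (D : KD h R π) (cen : ∀ x : B, x * yB 10 = yB 10 * x) :
    Nat.card (Subgroup.centralizer ({yB 5} : Set B)) = 4 * Nat.card E := by
  rw [← D.card_KK]
  have : Subgroup.centralizer ({yB 5} : Set B) = KK yB := by
    ext x
    rw [Subgroup.mem_centralizer_singleton_iff, mem_KK]
    exact ⟨fun hx => ⟨cen x, hx⟩, fun hx => hx.2⟩
  rw [this]

end

section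

variable {B X : Type*} [Group B] [Group X] {τ f₁ f₂ f₃ : B} {θ : B →* X}

theorem card_centralizer_dvd (hθ : Function.Injective θ) {u : B} {z : X} (hz : IsConj z (θ u)) :
    Nat.card (Subgroup.centralizer ({u} : Set B)) ∣ Nat.card (Subgroup.centralizer ({z} : Set X)) := by
  rw [card_centralizer_conj hz, ← Subgroup.card_map_of_injective hθ]
  apply Subgroup.card_dvd_of_le
  rintro _ ⟨b, hb, rfl⟩
  rw [Subgroup.mem_centralizer_singleton_iff, ← map_mul, ← map_mul, Subgroup.mem_centralizer_singleton_iff.1 hb]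

/-- **The hypothesis `hdist` of `node`.** -/
theorem hdist_of (hθ : Function.Injective θ) (cen : ∀ x : B, x * τ = τ * x) {p : ℕ} {z : X}
    (hz : ¬ p ∣ Nat.card (Subgroup.centralizer ({z} : Set X))) (hZ : IsConj z (θ (τ * (f₁ * f₂))))
    (hD : IsConj z (θ (f₁ * f₂ * f₃))) (h1 : p ∣ Nat.card (Subgroup.centralizer ({f₁} : Set B))) :
    ∀ u ∈ ({f₁ * f₂, τ * (f₁ * f₂), f₁ * f₂ * f₃} : Set B),
      Nat.card (Subgroup.centralizer ({u} : Set B)) ≠ Nat.card (Subgroup.centralizer ({f₁} : Set B)) := by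
  have key : ∀ u : B, IsConj z (θ u) →
      Nat.card (Subgroup.centralizer ({u} : Set B)) ≠ Nat.card (Subgroup.centralizer ({f₁} : Set B)) := by
    intro u hu he
    apply hz
    exact (h1.trans (dvd_of_eq he.symm)).trans (card_centralizer_dvd hθ hu)
  have hYZ : Subgroup.centralizer ({f₁ * f₂} : Set B) = Subgroup.centralizer ({τ * (f₁ * f₂)} : Set B) := by
    ext x
    rw [Subgroup.mem_centralizer_singleton_iff, Subgroup.mem_centralizer_singleton_iff]
    constructor
    · intro hx
      calc x * (τ * (f₁ * f₂)) = x * τ * (f₁ * f₂) := by rw [mul_assoc]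
        _ = τ * (x * (f₁ * f₂)) := by rw [cen, mul_assoc]
        _ = τ * (f₁ * f₂) * x := by rw [hx, mul_assoc τ]
    · intro hx
      apply mul_left_cancel (a := τ)
      calc τ * (x * (f₁ * f₂)) = x * τ * (f₁ * f₂) := by rw [cen, mul_assoc]
        _ = x * (τ * (f₁ * f₂)) := by rw [mul_assoc]
        _ = τ * (f₁ * f₂) * x := hx
        _ = τ * (f₁ * f₂ * x) := by rw [mul_assoc τ]
  rintro u (rfl | rfl | rfl)
  · rw [hYZ]; exact key _ hZ
  · exact key _ hZ
  · exact key _ hD

end

end Cfsg.Agent.MonsterN
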