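import Cfsg.Agent.MonsterX.MainBasic
import Cfsg.Agent.S1066

/-!
# The prime 19

`19` divides the order of `²E₆(2)` and does not divide the order of the centraliser of `z` in the Monster.
-/

set_option autoImplicit false

namespace Cfsg.Agent.MonsterN.Nineteen

open Cfsg.Agent.MonsterX.Model Cfsg.Agent.MonsterX.MainBasic

/-- `|²E₆(2)|` -/
theorem card_E (K : Type*) [Field K] [Fintype K] (hK : Fintype.card K = 4) :
    Nat.card (Cfsg.Lie.twistedE6 K 2) = 76532479683774853939200 := by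
  have h := Cfsg.Agent.S1066.result (K := K) (q := 2) Nat.prime_two.isPrimePow (by rw [hK]; norm_num)
  norm_num at h
  omega

/-- `19` divides the order of `²E₆(2)`. -/
theorem dvd_card_E (K : Type*) [Field K] [Fintype K] (hK : Fintype.card K = 4) :
    19 ∣ Nat.card (Cfsg.Lie.twistedE6 K 2) := by
  rw [card_E K hK]; norm_num

theorem dvd_four_mul (K : Type*) [Field K] [Fintype K] (hK : Fintype.card K = 4) {n : ℕ}
    (hn : n = 4 * Nat.card (Cfsg.Lie.twistedE6 K 2)) : 19 ∣ n := by
  rw [hn]; exact Dvd.dvd.mul_left (dvd_card_E K hK) 4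

variable {W : Type} [AddCommGroup W] [Module ℚ W] {M : MData W} {K₀ : Type} [Group K₀]

/-- `19` does not divide `|C|`. -/
theorem not_dvd_card_C (hG : MGroup M K₀) : ¬ 19 ∣ Nat.card M.C := by
  rw [card_C hG]; norm_num

theorem z_mem_G (hG : MGroup M K₀) : M.z ∈ M.G := Subgroup.subset_closure (Or.inl (hG.Q_le hG.z_mem))

/-- `19` does not divide the order of the centraliser of `z`. -/
theorem not_dvd_card_centralizer (hG : MGroup M K₀) (hcent : ∀ g ∈ M.G, g * M.z = M.z * g → g ∈ M.C) {z : M.G}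
    (hz : (z : W ≃ₗ[ℚ] W) = M.z) : ¬ 19 ∣ Nat.card (Subgroup.centralizer ({z} : Set M.G)) := by
  intro h
  apply not_dvd_card_C hG
  refine h.trans ?_
  rw [← Subgroup.card_map_of_injective M.G.subtype_injective]
  apply Subgroup.card_dvd_of_le
  rintro _ ⟨g, hg, rfl⟩
  apply hcent g g.2
  have h1 := congrArg (Subgroup.subtype M.G) (Subgroup.mem_centralizer_singleton_iff.1 hg)
  rw [map_mul, map_mul] at h1
  change (g : W ≃ₗ[ℚ] W) * (z : W ≃ₗ[ℚ] W) = (z : W ≃ₗ[ℚ] W) * g at h1
  rwa [hz] at h1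

end Cfsg.Agent.MonsterN.Nineteen
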