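import Cfsg.Agent.MonsterN.Lit
import Cfsg.Agent.MonsterN.Cov
import Cfsg.Agent.MonsterN.Nineteen
import Cfsg.Agent.TwoESix.LeviG
import Cfsg.Agent.TwoESix.LeviHyp
import Cfsg.Agent.TwoESix.ExtTwisted
import Cfsg.Agent.S1070

/-!
# The facts on `²E₆(2)` used for S1737

`eFacts`: `Lit.EFacts` for `twistedE6 K 2`, `|K| = 4`, and its class of root involutions, from the order of the presented
group `HB` and the nodes of the double cover of the Baby Monster.
-/

set_option autoImplicit false

namespace Cfsg.Agent.MonsterN.EInst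

open Cfsg Cfsg.Lie Cfsg.Agent.BabyU Cfsg.Agent.BabyU.RootCfg Cfsg.Agent.TwoESix.Cover Cfsg.Agent.TwoESix

variable (K : Type) [Field K] [Fintype K] (hK : Fintype.card K = 4)

include hK

theorem isSimple : IsSimpleGroup (twistedE6 K 2) :=
  (Cfsg.Agent.S1070.result (K := K) (q := 2) Nat.prime_two.isPrimePow (by rw [hK]; norm_num)).1

theorem nc : ∃ a b : twistedE6 K 2, ¬ Commute a b := by
  have B := ExtTwisted.basic K hK
  obtain ⟨r, hr, s, hs, hne, h3⟩ := B.opp
  refine ⟨r, s, fun h => hne ?_⟩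
  have h2 : (r * s) ^ 2 = 1 := by rw [h.mul_pow, pow_two, pow_two, B.sq r hr, B.sq s hs, one_mul]
  have h1 : r * s = 1 := by
    calc r * s = (r * s) ^ 3 * ((r * s) ^ 2)⁻¹ := by group
      _ = 1 := by rw [h3, h2]; simp
  calc r = r * (s * s) := by rw [B.sq s hs, mul_one]
    _ = (r * s) * s := by rw [mul_assoc]
    _ = s := by rw [h1, one_mul]

theorem eFacts {F : Type} [Field F] [Fintype F] (hF : Fintype.card F = 2 ^ 2) (hfin : Finite HB)
    (hcard : Nat.card HB ≤ Nat.card (twistedE6 K 2)) {B : Type} [Group B] {yB : ℕ → B} {h : Pre yB}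
    {π : KK yB →* twistedE6 K 2} (D : KD h (rootClass K) π) :
    Lit.EFacts hF (twistedE6 K 2) (rootClass K) where
  fin := hfin
  cov := by
    have := isSimple K hK
    exact D.exists_cover' (nc K hK)
  card := hcard
  nc := nc K hK
  hyp := LeviHyp.outHyp (LeviG.rootFacts hK hF) (ExtTwisted.basic K hK).opp_trans
  root := LeviG.rootFacts hK hF
  aut := fun α r hr => (ExtTwisted.auto K K hK hK α r).1 hr
  nineteen := Nineteen.dvd_card_E K hK

end Cfsg.Agent.MonsterN.EInst
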