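import Cfsg.Agent.Bimonster.FiFacts

/-!
# A word identity in `Fi₂₃`

Letters as in `Bimonster/Fi.lean`: `0 = a`, `1 2 3 4 = b₁ c₁ d₁ e₁`, `6 7 = b₂ c₂`,
`11 12 13 = b₃ c₃ d₃`; the letter `5` is `f₁ = (a b₁ b₂ b₃ c₁ c₂ d₁)⁹`.
With `w` the longest element of the `S₁₀` on the chain `d₃ c₃ b₃ a b₁ c₁ d₁ e₁ f₁`:
`w` reverses the chain, commutes with `c₂`, and `w b₂ w = g b₂ g⁻¹` where `g` is a word in
`a, b₁, c₁, b₂, b₃, c₃, d₃`.
-/

set_option autoImplicit false
set_option maxRecDepth 100000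
set_option linter.constructorNameAsVariable false
set_option linter.unusedSimpArgs false

namespace Cfsg.Agent.MonsterN.FiWord

open Cfsg.Agent.Bimonster Cfsg.Agent.Bimonster.Tits Cfsg.Spor

/-- the letter `5` is replaced by the word of `f₁` -/
def ex5 (w : List ℕ) : List ℕ := w.flatMap fun i => if i = 5 then rep 9 f1a else [i]

/-- the longest element of the `S₁₀` on the chain `13 12 11 0 1 2 3 4 5` -/
def wA : List ℕ :=
  [13, 12, 13, 11, 12, 13, 0, 11, 12, 13, 1, 0, 11, 12, 13, 2, 1, 0, 11, 12, 13,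
    3, 2, 1, 0, 11, 12, 13, 4, 3, 2, 1, 0, 11, 12, 13, 5, 4, 3, 2, 1, 0, 11, 12, 13]

/-- the conjugating word, in the letters `0 1 2 6 11 12 13` -/
def gW : List ℕ := [2, 1, 0, 6, 11, 0, 1, 2, 12, 11, 0, 1, 13, 12, 11, 0]

/-- evaluation of words with the letter `5` -/
theorem ev_ex5 {Q : Type*} [Group Q] {v : ℕ → Q} (h5 : v 5 = ev v f1a ^ 9) (w : List ℕ) :
    ev v (ex5 w) = ev v w := by
  induction w with
  | nil => rfl
  | cons i w ih =>
    have hc : ex5 (i :: w) = (if i = 5 then rep 9 f1a else [i]) ++ ex5 w := by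
      simp only [ex5, List.flatMap_cons]
    rw [hc, ev_append, ih, ev_cons]
    by_cases hi : i = 5
    · rw [if_pos hi, ev_rep, hi, h5]
    · rw [if_neg hi, ev_cons, ev_nil, mul_one]

/-- every equality of words in the presented group `Fi₂₃` holds for all families satisfying
the relations -/
theorem ev_transport {Q : Type*} [Group Q] {v : ℕ → Q} (h : FiRel v) {w w' : List ℕ}
    (hw : (∀ i ∈ w, fiIdx (fiGen i) = i) ∧ ∀ i ∈ w', fiIdx (fiGen i) = i)
    (he : ev fiW w = ev fiW w') : ev v w = ev v w' := by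
  have hr : ∀ r ∈ coxRelators Fi23.edges ∪ {r | r ∈ Fi23.extra},
      FreeGroup.lift (fun g => v (fiIdx g)) r = 1 := by
    intro r hr
    rcases hr with ⟨a, -, b, -, rfl⟩ | hr
    · rw [map_pow, map_mul, FreeGroup.lift_apply_of, FreeGroup.lift_apply_of]
      exact h.cox a b
    · have hr' : r ∈ Fi23.extra := hr
      rw [Fi23.extra, List.mem_cons, List.mem_singleton] at hr'
      rcases hr' with rfl | rfl
      · have := h.spider
        rw [map_pow]
        simp only [map_mul, FreeGroup.lift_apply_of, Fi23.a, Fi23.b, Fi23.c, Fi23.d, Fi23.e,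
          Fi23.f, Fi23.h, Fi23.i, fiIdx]
        simpa only [ev_cons, ev_nil, mul_one, mul_assoc] using this
      · have := h.e7
        rw [map_pow]
        simp only [map_mul, FreeGroup.lift_apply_of, Fi23.a, Fi23.b, Fi23.c, Fi23.d, Fi23.e,
          Fi23.f, Fi23.h, Fi23.i, fiIdx]
        simpa only [ev_cons, ev_nil, mul_one, mul_assoc] using this
  let θ : Fi23 →* Q := PresentedGroup.toGroup hr
  have hθ : ∀ g : Fi23.Gen, θ (PresentedGroup.of g) = v (fiIdx g) := fun g =>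
    PresentedGroup.toGroup.of hr
  have hev : ∀ w : List ℕ, (∀ i ∈ w, fiIdx (fiGen i) = i) → θ (ev fiW w) = ev v w := by
    intro w hw
    rw [map_ev]
    apply ev_congr
    intro i hi
    show θ (PresentedGroup.of (fiGen i)) = v i
    rw [hθ, hw i hi]
  have := congrArg θ he
  rwa [hev _ hw.1, hev _ hw.2] at this

/-- the check for a pair of words with the letter `5` -/
theorem ev5 {Q : Type*} [Group Q] {v : ℕ → Q} (h : FiRel v) (h5 : v 5 = ev v f1a ^ 9)
    {w w' : List ℕ}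
    (hw : (∀ i ∈ ex5 w, fiIdx (fiGen i) = i) ∧ ∀ i ∈ ex5 w', fiIdx (fiGen i) = i)
    (he : Cfsg.Agent.BM.Psi.eqB ((ex5 w).map fiGen) ((ex5 w').map fiGen) = true) :
    ev v w = ev v w' := by
  rw [← ev_ex5 h5, ← ev_ex5 h5 w']
  exact ev_transport h hw (fi_eq he)

/-- the pairs `(i, j)` with `w i w = j` -/
def prs : List (ℕ × ℕ) := [(13, 5), (12, 4), (11, 3), (0, 2), (1, 1), (2, 0), (3, 11), (4, 12),
  (5, 13), (7, 7)]

theorem sq_check : Cfsg.Agent.BM.Psi.eqB ((ex5 (wA ++ wA)).map fiGen) ((ex5 []).map fiGen)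
    = true := by decide +kernel

theorem main_check : Cfsg.Agent.BM.Psi.eqB ((ex5 (wA ++ [6])).map fiGen)
    ((ex5 (gW ++ [6] ++ gW.reverse ++ wA)).map fiGen) = true := by decide +kernel

theorem c13 : Cfsg.Agent.BM.Psi.eqB ((ex5 (wA ++ [13])).map fiGen)
    ((ex5 ([5] ++ wA)).map fiGen) = true := by decide +kernel

theorem c12 : Cfsg.Agent.BM.Psi.eqB ((ex5 (wA ++ [12])).map fiGen)
    ((ex5 ([4] ++ wA)).map fiGen) = true := by decide +kernel

theorem c11 : Cfsg.Agent.BM.Psi.eqB ((ex5 (wA ++ [11])).map fiGen)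
    ((ex5 ([3] ++ wA)).map fiGen) = true := by decide +kernel

theorem c0 : Cfsg.Agent.BM.Psi.eqB ((ex5 (wA ++ [0])).map fiGen)
    ((ex5 ([2] ++ wA)).map fiGen) = true := by decide +kernel

theorem c1 : Cfsg.Agent.BM.Psi.eqB ((ex5 (wA ++ [1])).map fiGen)
    ((ex5 ([1] ++ wA)).map fiGen) = true := by decide +kernel

theorem c7 : Cfsg.Agent.BM.Psi.eqB ((ex5 (wA ++ [7])).map fiGen)
    ((ex5 ([7] ++ wA)).map fiGen) = true := by decide +kernel

variable {Q : Type*} [Group Q] {v : ℕ → Q}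

/-- `w² = 1` -/
theorem sq (h : FiRel v) (h5 : v 5 = ev v f1a ^ 9) : ev v wA * ev v wA = 1 := by
  have := ev5 h h5 (by decide) sq_check
  rwa [ev_append, ev_nil] at this

/-- `w b₂ w = g b₂ g⁻¹` with `g` in `⟨a, b₁, c₁, b₂, b₃, c₃, d₃⟩` -/
theorem main (h : FiRel v) (h5 : v 5 = ev v f1a ^ 9) :
    ev v wA * v 6 * ev v wA = ev v gW * v 6 * ev v gW.reverse := by
  have := ev5 h h5 (by decide) main_check
  rw [ev_append, ev_append, ev_append, ev_append, ev_cons, ev_nil, mul_one] at this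
  rw [this, mul_assoc _ (ev v wA), sq h h5, mul_one]

theorem conj_aux (h : FiRel v) (h5 : v 5 = ev v f1a ^ 9) {i j : ℕ}
    (hw : (∀ k ∈ ex5 (wA ++ [i]), fiIdx (fiGen k) = k) ∧
      ∀ k ∈ ex5 ([j] ++ wA), fiIdx (fiGen k) = k)
    (he : Cfsg.Agent.BM.Psi.eqB ((ex5 (wA ++ [i])).map fiGen) ((ex5 ([j] ++ wA)).map fiGen)
      = true) : ev v wA * v i * ev v wA = v j := by
  have := ev5 h h5 hw he
  rw [ev_append, ev_append, ev_cons, ev_cons, ev_nil, mul_one, mul_one] at this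
  rw [this, mul_assoc, sq h h5, mul_one]

theorem conj13 (h : FiRel v) (h5 : v 5 = ev v f1a ^ 9) : ev v wA * v 13 * ev v wA = v 5 :=
  conj_aux h h5 (by decide) c13

theorem conj12 (h : FiRel v) (h5 : v 5 = ev v f1a ^ 9) : ev v wA * v 12 * ev v wA = v 4 :=
  conj_aux h h5 (by decide) c12

theorem conj11 (h : FiRel v) (h5 : v 5 = ev v f1a ^ 9) : ev v wA * v 11 * ev v wA = v 3 :=
  conj_aux h h5 (by decide) c11

theorem conj0 (h : FiRel v) (h5 : v 5 = ev v f1a ^ 9) : ev v wA * v 0 * ev v wA = v 2 :=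
  conj_aux h h5 (by decide) c0

theorem conj1 (h : FiRel v) (h5 : v 5 = ev v f1a ^ 9) : ev v wA * v 1 * ev v wA = v 1 :=
  conj_aux h h5 (by decide) c1

theorem conj7 (h : FiRel v) (h5 : v 5 = ev v f1a ^ 9) : ev v wA * v 7 * ev v wA = v 7 :=
  conj_aux h h5 (by decide) c7

theorem flip (h : FiRel v) (h5 : v 5 = ev v f1a ^ 9) {x y : Q}
    (hxy : ev v wA * x * ev v wA = y) : ev v wA * y * ev v wA = x := by
  have hs := sq h h5
  rw [← hxy]
  calc ev v wA * (ev v wA * x * ev v wA) * ev v wA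
      = (ev v wA * ev v wA) * x * (ev v wA * ev v wA) := by group
    _ = x := by rw [hs, one_mul, mul_one]

theorem conj5 (h : FiRel v) (h5 : v 5 = ev v f1a ^ 9) : ev v wA * v 5 * ev v wA = v 13 :=
  flip h h5 (conj13 h h5)

theorem conj4 (h : FiRel v) (h5 : v 5 = ev v f1a ^ 9) : ev v wA * v 4 * ev v wA = v 12 :=
  flip h h5 (conj12 h h5)

theorem conj3 (h : FiRel v) (h5 : v 5 = ev v f1a ^ 9) : ev v wA * v 3 * ev v wA = v 11 :=
  flip h h5 (conj11 h h5)

theorem conj2 (h : FiRel v) (h5 : v 5 = ev v f1a ^ 9) : ev v wA * v 2 * ev v wA = v 0 :=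
  flip h h5 (conj0 h h5)

theorem inv (h : FiRel v) (h5 : v 5 = ev v f1a ^ 9) : (ev v wA)⁻¹ = ev v wA :=
  inv_eq_of_mul_eq_one_left (sq h h5)

/-- an element which commutes with `w i w` gives one which commutes with `i` -/
theorem comm_of (h : FiRel v) (h5 : v 5 = ev v f1a ^ 9) {x y z : Q}
    (hyz : ev v wA * y * ev v wA = z) (hx : x * z = z * x) :
    (ev v wA * x * ev v wA) * y = y * (ev v wA * x * ev v wA) := by
  have hs := sq h h5
  rw [← flip h h5 hyz]
  calc ev v wA * x * ev v wA * (ev v wA * z * ev v wA)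
      = ev v wA * x * (ev v wA * ev v wA) * z * ev v wA := by group
    _ = ev v wA * (x * z) * ev v wA := by rw [hs]; group
    _ = ev v wA * z * (ev v wA * ev v wA) * x * ev v wA := by rw [hx, hs]; group
    _ = ev v wA * z * ev v wA * (ev v wA * x * ev v wA) := by group

theorem comm_ev {x : Q} {w : List ℕ} (hx : ∀ i ∈ w, x * v i = v i * x) :
    x * ev v w = ev v w * x := by
  induction w with
  | nil => rw [ev_nil, one_mul, mul_one]
  | cons i w ih =>
    rw [ev_cons, ← mul_assoc, hx i (by simp), mul_assoc, ih fun j hj => hx j (by simp [hj]),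
      mul_assoc]

/-- if `x` commutes with `a, b₁, c₁, b₂, b₃, c₃, d₃` then `w x w` commutes with `b₂` -/
theorem comm6 (h : FiRel v) (h5 : v 5 = ev v f1a ^ 9) {x : Q}
    (hx : ∀ i ∈ [0, 1, 2, 6, 11, 12, 13], x * v i = v i * x) :
    (ev v wA * x * ev v wA) * v 6 = v 6 * (ev v wA * x * ev v wA) := by
  have hx' : ∀ w : List ℕ, (∀ i ∈ w, i ∈ [0, 1, 2, 6, 11, 12, 13]) →
      x * ev v w = ev v w * x := fun w hw => comm_ev fun i hi => hx i (hw i hi)
  apply comm_of h h5 (main h h5)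
  have e : ev v gW * v 6 * ev v gW.reverse = ev v (gW ++ [6] ++ gW.reverse) := by
    rw [ev_append, ev_append, ev_cons, ev_nil, mul_one]
  rw [e]
  exact hx' _ (by decide)

end Cfsg.Agent.MonsterN.FiWord
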