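import Cfsg.Agent.Bimonster.FiFacts

/-!
# The thirteen nodes of `Y553` in the centraliser of the node `f₂`

Letters as in `Bimonster.Graph`: `a = 0`, `b₁ c₁ d₁ e₁ f₁ = 1 … 5`, `b₂ c₂ d₂ e₂ f₂ = 6 … 10`, `b₃ c₃ d₃ = 11, 12, 13`.
`Pre y`: all relations of `PRel y` not involving `e₂ = y 9`.
-/

set_option autoImplicit false

namespace Cfsg.Agent.MonsterN

open Cfsg.Agent.Bimonster Cfsg.Agent.Bimonster.Tits Cfsg.Spor

variable {G : Type*} [Group G]

/-- The relations of `PRel` not involving the letter `9`. -/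
structure Pre (y : ℕ → G) : Prop where
  sq : ∀ i < 14, i ≠ 9 → y i * y i = 1
  cm : ∀ i < 14, ∀ j < 14, i ≠ 9 → j ≠ 9 → adjB i j = false → y i * y j = y j * y i
  br : ∀ i < 14, ∀ j < 14, i ≠ 9 → j ≠ 9 → adjB i j = true → y i * y j * y i = y j * y i * y j
  spider : ev y spW ^ 10 = 1
  f1a : y 5 = ev y f1a ^ 9
  f1b : y 5 = ev y f1b ^ 9
  f2a : y 10 = ev y f2a ^ 9
  f2b : y 10 = ev y f2b ^ 9
  f3a : ev y f3a ^ 9 = 1
  f3b : ev y f3b ^ 9 = 1

theorem PRel.pre {y : ℕ → G} (h : PRel y) : Pre y where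
  sq i hi _ := h.cox.sq i hi
  cm i hi j hj _ _ := h.cox.cm i hi j hj
  br i hi j hj _ _ := h.cox.br i hi j hj
  spider := h.spider
  f1a := h.f1a
  f1b := h.f1b
  f2a := h.f2a
  f2b := h.f2b
  f3a := h.f3a
  f3b := h.f3b

theorem Pre.map {H : Type*} [Group H] (f : G →* H) {y : ℕ → G} (h : Pre y) : Pre (fun i => f (y i)) where
  sq i hi h9 := by simp only [← map_mul, h.sq i hi h9, map_one]
  cm i hi j hj h9 h9' hij := by simp only [← map_mul, h.cm i hi j hj h9 h9' hij]
  br i hi j hj h9 h9' hij := by simp only [← map_mul, h.br i hi j hj h9 h9' hij]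
  spider := by rw [← map_ev, ← map_pow, h.spider, map_one]
  f1a := by rw [← map_ev, ← map_pow, ← h.f1a]
  f1b := by rw [← map_ev, ← map_pow, ← h.f1b]
  f2a := by rw [← map_ev, ← map_pow, ← h.f2a]
  f2b := by rw [← map_ev, ← map_pow, ← h.f2b]
  f3a := by rw [← map_ev, ← map_pow, h.f3a, map_one]
  f3b := by rw [← map_ev, ← map_pow, h.f3b, map_one]

theorem adj_nine : ∀ i < 14, adjB i 9 = true ↔ i = 8 ∨ i = 10 := by decide

theorem adj_nine_self : adjB 9 9 = false := by decide

/-- **The relations of `PRel` from the fourteenth node.** -/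
theorem Pre.prel {y : ℕ → G} (h : Pre y) {e : G} (he : e * e = 1)
    (hc : ∀ i < 14, i ≠ 8 → i ≠ 9 → i ≠ 10 → e * y i = y i * e)
    (h8 : e * y 8 * e = y 8 * e * y 8) (h10 : e * y 10 * e = y 10 * e * y 10) :
    PRel (fun i => if i = 9 then e else y i) := by
  have hev : ∀ w : List ℕ, (∀ i ∈ w, i ≠ 9) → ev (fun i => if i = 9 then e else y i) w = ev y w := by
    intro w hw
    exact ev_congr fun i hi => if_neg (hw i hi)
  have cm9 : ∀ i < 14, i ≠ 9 → adjB i 9 = false → e * y i = y i * e := by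
    intro i hi h9 ha
    have h1 := (adj_nine i hi).not.1 (by rw [ha]; exact Bool.false_ne_true)
    exact hc i hi (fun h => h1 (Or.inl h)) h9 (fun h => h1 (Or.inr h))
  refine ⟨⟨?_, ?_, ?_⟩, ?_, ?_, ?_, ?_, ?_, ?_, ?_⟩
  · intro i hi
    by_cases h9 : i = 9
    · simp only [h9, if_true]; exact he
    · simp only [if_neg h9]; exact h.sq i hi h9
  · intro i hi j hj hij
    by_cases hi9 : i = 9 <;> by_cases hj9 : j = 9
    · simp only [hi9, hj9]
    · simp only [hi9, if_true, if_neg hj9]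
      rw [hi9, adjB_comm] at hij
      exact cm9 j hj hj9 hij
    · simp only [hj9, if_true, if_neg hi9]
      rw [hj9] at hij
      exact (cm9 i hi hi9 hij).symm
    · simp only [if_neg hi9, if_neg hj9]
      exact h.cm i hi j hj hi9 hj9 hij
  · intro i hi j hj hij
    by_cases hi9 : i = 9 <;> by_cases hj9 : j = 9
    · rw [hi9, hj9, adj_nine_self] at hij
      exact absurd hij Bool.false_ne_true
    · simp only [hi9, if_true, if_neg hj9]
      rw [hi9, adjB_comm] at hij
      rcases (adj_nine j hj).1 hij with rfl | rfl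
      · exact h8
      · exact h10
    · simp only [hj9, if_true, if_neg hi9]
      rw [hj9] at hij
      rcases (adj_nine i hi).1 hij with rfl | rfl
      · exact h8.symm
      · exact h10.symm
    · simp only [if_neg hi9, if_neg hj9]
      exact h.br i hi j hj hi9 hj9 hij
  · rw [hev _ (by decide)]; exact h.spider
  · rw [hev _ (by decide)]; exact h.f1a
  · rw [hev _ (by decide)]; exact h.f1b
  · rw [hev _ (by decide)]; exact h.f2a
  · rw [hev _ (by decide)]; exact h.f2b
  · rw [hev _ (by decide)]; exact h.f3a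
  · rw [hev _ (by decide)]; exact h.f3b

end Cfsg.Agent.MonsterN
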