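import Cfsg.Agent.MonsterN.CoverB
import Cfsg.Agent.MonsterN.Pre
import Cfsg.Agent.MonsterU.BabyCover

/-!
# The thirteen nodes of `Y553` in a double cover of the Baby Monster

`exists_pre`: a non-split double cover `π : L →* Spor.BabyMonster` with kernel `{1, z}` contains elements `y i` with
`Pre y` and `y 10 = z` lifting the generators.  `exists_mulEquiv`: two such systems are exchanged by an isomorphism.
-/

set_option autoImplicit false
set_option linter.constructorNameAsVariable false

namespace Cfsg.Agent.MonsterN.LiftB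

open Cfsg Cfsg.Agent.TwoESix.Cox10 Cfsg.Agent.TwoESix.Lift Cfsg.Agent.R01.Lifts Cfsg.Agent.BabyU.IdentHom
open Cfsg.Spor Cfsg.Spor.BabyMonster Cfsg.Agent.MonsterN.CoverB Cfsg.Agent.Bimonster
open Cfsg.Agent.MonsterU.BabyCover (lt)

/-- the index of a letter among `t2, …, t11` -/
def ix : ℕ → Fin 10
  | 0 => 3
  | 1 => 2
  | 2 => 1
  | 3 => 0
  | 6 => 4
  | 7 => 5
  | 8 => 6
  | 11 => 7
  | 12 => 8
  | 13 => 9
  | _ => 0

/-- the letters of `t2, …, t11` -/
def isN (i : ℕ) : Bool := [0, 1, 2, 3, 6, 7, 8, 11, 12, 13].contains i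

variable {G : Type*} [Group G]

/-- the system of elements -/
def sys (m : Fin 10 → G) (b f z : G) (i : ℕ) : G :=
  if i = 4 then b else if i = 5 then f else if i = 9 then 1 else if i = 10 then z else m (ix i)

theorem sys_isN (m : Fin 10 → G) (b f z : G) {i : ℕ} (h : isN i = true) : sys m b f z i = m (ix i) := by
  have h4 : i ≠ 4 := by rintro rfl; exact absurd h (by decide)
  have h5 : i ≠ 5 := by rintro rfl; exact absurd h (by decide)
  have h9 : i ≠ 9 := by rintro rfl; exact absurd h (by decide)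
  have h10 : i ≠ 10 := by rintro rfl; exact absurd h (by decide)
  rw [sys, if_neg h4, if_neg h5, if_neg h9, if_neg h10]

theorem letters : ∀ i < 14, i ≠ 9 → isN i = true ∨ i = 4 ∨ i = 5 ∨ i = 10 := by decide

theorem adj_N_chk : ∀ i < 14, ∀ j < 14, (!(isN i && isN j) || (adjB i j && adj (ix i) (ix j)) ||
    (!adjB i j && (ix i == ix j || lab (ix i) (ix j) == 2))) = true := by decide +kernel

theorem adj_N (i : ℕ) (hi : i < 14) (j : ℕ) (hj : j < 14) (h1 : isN i = true) (h2 : isN j = true) :
    (adjB i j = true ∧ adj (ix i) (ix j) = true) ∨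
    (adjB i j = false ∧ (ix i = ix j ∨ lab (ix i) (ix j) = 2)) := by
  have h := adj_N_chk i hi j hj
  rw [h1, h2] at h
  simpa using h

theorem adj_4 : ∀ i < 14, isN i = true →
    (adjB i 4 = true ∧ ix i = 0) ∨ (adjB i 4 = false ∧ ix i ≠ 0) := by decide

theorem adj_5 : ∀ i < 14, isN i = true → adjB i 5 = false := by decide

theorem adj_10 : ∀ i < 14, i ≠ 9 → adjB i 10 = false := by decide

/-- a word of letters evaluated on the system -/
theorem ev_sys (m : Fin 10 → G) (b f z : G) {w : List ℕ} (h : w.all isN = true) :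
    Tits.ev (sys m b f z) w = ev m (w.map ix) := by
  rw [Tits.ev, ev, List.map_map]
  congr 1
  refine List.map_congr_left fun i hi => ?_
  exact sys_isN m b f z (List.all_eq_true.1 h i hi)

/-- The commutation of `f₁` with the nodes. -/
theorem f1_comm {s : Fin 10 → G} (hl : M10.IsLiftable s) (hsp : ev s spider ^ 10 = 1) (i : Fin 10) :
    Commute (s i) (ev s W321 ^ 9) := by
  have e312 : ev s W312 ^ 9 = ev s W321 ^ 9 := W321_eq hl hsp
  have key1 : ∀ i : Fin 10, (i == 0 || i == 1 || i == 2 || i == 3 || i == 4 || i == 5 || i == 7) = true →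
      Commute (s i) (ev s W321 ^ 9) := by
    intro i hi
    have := ev_eq_ev hl (chk_c i hi)
    rw [ev_append, ev_append, ev_rep, ev_cons, ev_nil, mul_one] at this
    exact this.symm
  have key2 : ∀ i : Fin 10, (i == 0 || i == 1 || i == 2 || i == 3 || i == 4 || i == 7 || i == 8) = true →
      Commute (s i) (ev s W321 ^ 9) := by
    intro i hi
    have := ev_eq_ev hl (chk_c' i hi)
    rw [ev_append, ev_append, ev_rep, e312, ev_cons, ev_nil, mul_one] at this
    exact this.symm
  have k6 : Commute (s 6) (ev s W321 ^ 9) := by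
    rw [← e312]
    exact (comm_word hl (by decide)).pow_right 9
  have k9 : Commute (s 9) (ev s W321 ^ 9) := (comm_word hl (by decide)).pow_right 9
  fin_cases i
  · exact key1 _ (by decide)
  · exact key1 _ (by decide)
  · exact key1 _ (by decide)
  · exact key1 _ (by decide)
  · exact key1 _ (by decide)
  · exact key1 _ (by decide)
  · exact k6
  · exact key1 _ (by decide)
  · exact key2 _ (by decide)
  · exact k9

theorem chk_f1a : chk (rep 9 (f1a.map ix)) (rep 9 W321) = true := by decide +kernel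
theorem chk_f1b : chk (rep 9 (f1b.map ix)) (rep 9 W312) = true := by decide +kernel
theorem chk_f2a : chk (rep 9 (f2a.map ix)) (rep 9 W231) = true := by decide +kernel
theorem chk_f2b : chk (rep 9 (f2b.map ix)) (rep 9 W132) = true := by decide +kernel
theorem chk_f3a : chk (rep 9 (f3a.map ix)) (rep 9 W213) = true := by decide +kernel
theorem chk_f3b : chk (rep 9 (f3b.map ix)) (rep 9 W123) = true := by decide +kernel
theorem chk_e7 : chk (rep 9 (([13, 12, 11, 0, 1, 2, 6] : List ℕ).map ix)) (rep 9 W213) = true := by decide +kernel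
theorem spW_map : spW.map ix = spider := by decide

/-- The relations: all relations of `Y₄₃₃`, the spider relation, `f₃ = 1`, `f₂ = z`. -/
structure NRels (s : Fin 10 → G) (b z : G) : Prop where
  lift : M10.IsLiftable s
  spider : ev s spider ^ 10 = 1
  e231 : ev s W231 ^ 9 = z
  e213 : ev s W213 ^ 9 = 1
  sqb : b * b = 1
  b0 : (b * s 0) ^ 3 = 1
  bc : ∀ i, i ≠ 0 → b * s i = s i * b

/-- multiplying all nodes by the central involution -/
theorem NRels.of_brels {E : Type*} [Group E] {π : G →* E} {z : G} (h : Ext π z) {s : Fin 10 → G} {b : G}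
    (hs : BRels s b z) : NRels (fun i => s i * z) (b * z) z where
  lift := lift_mul_z h hs.lift
  spider := spider_mul_z h hs.spider
  e231 := by rw [ev7_mul_z h s (w := W231) rfl, hs.e231, one_mul]
  e213 := by rw [ev7_mul_z h s (w := W213) rfl, hs.e213, h.zz]
  sqb := by rw [mul_z_mul h, hs.sqb]
  b0 := by
    show (b * z * (s 0 * z)) ^ 3 = 1
    rw [mul_z_mul h, hs.b0]
  bc := by
    intro i hi
    show b * z * (s i * z) = s i * z * (b * z)
    rw [mul_z_mul h, mul_z_mul h, hs.bc i hi]

/-- and back -/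
theorem NRels.brels {E : Type*} [Group E] {π : G →* E} {z : G} (h : Ext π z) {s : Fin 10 → G} {b : G}
    (hs : NRels s b z) : BRels (fun i => s i * z) (b * z) z where
  lift := lift_mul_z h hs.lift
  spider := spider_mul_z h hs.spider
  e231 := by rw [ev7_mul_z h s (w := W231) rfl, hs.e231, h.zz]
  e213 := by rw [ev7_mul_z h s (w := W213) rfl, hs.e213, one_mul]
  sqb := by rw [mul_z_mul h, hs.sqb]
  b0 := by
    show (b * z * (s 0 * z)) ^ 3 = 1
    rw [mul_z_mul h, hs.b0]
  bc := by
    intro i hi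
    show b * z * (s i * z) = s i * z * (b * z)
    rw [mul_z_mul h, mul_z_mul h, hs.bc i hi]

theorem braid_of_cube {p q : G} (hp : p * p = 1) (hq : q * q = 1) (h : (p * q) ^ 3 = 1) :
    p * q * p = q * p * q := by
  have h2 : (p * q * p) * (q * p * q) = 1 := by
    rw [← h]; simp only [pow_succ, pow_zero, one_mul, mul_assoc]
  rw [eq_inv_of_mul_eq_one_left h2]
  simp only [mul_inv_rev, inv_eq_of_mul_eq_one_left hp, inv_eq_of_mul_eq_one_left hq, mul_assoc]

theorem cube_of_braid {p q : G} (hp : p * p = 1) (hq : q * q = 1) (h : p * q * p = q * p * q) :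
    (p * q) ^ 3 = 1 := by
  calc (p * q) ^ 3 = (p * q * p) * (q * p * q) := by
        simp only [pow_succ, pow_zero, one_mul, mul_assoc]
    _ = (q * p * q) * (q * p * q) := by rw [h]
    _ = q * p * (q * q) * p * q := by group
    _ = q * (p * p) * q := by rw [hq]; group
    _ = 1 := by rw [hp, mul_one, hq]

theorem fi_lab : ∀ i j : Fi23.Gen, i ≠ .j → j ≠ .j → isN (fiIdx i) = true ∧ isN (fiIdx j) = true ∧
    coxLabel Fi23.edges i j = lab (ix (fiIdx i)) (ix (fiIdx j)) := by
  intro i j; cases i <;> cases j <;> decide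

theorem fi_lab_j : ∀ i : Fi23.Gen, i ≠ .j → isN (fiIdx i) = true ∧
    ((ix (fiIdx i) = 0 ∧ coxLabel Fi23.edges i .j = 3 ∧ coxLabel Fi23.edges .j i = 3) ∨
      (ix (fiIdx i) ≠ 0 ∧ coxLabel Fi23.edges i .j = 2 ∧ coxLabel Fi23.edges .j i = 2)) := by
  intro i; cases i <;> decide

/-- The relations of `Fi23` on the nodes of `Y₄₂₃`. -/
theorem NRels.fiRel {s : Fin 10 → G} {b z : G} (h : NRels s b z) (f : G) : FiRel (sys s b f z) := by
  have hsq : ∀ i, s i * s i = 1 := fun i => sq h.lift i
  have h4 : sys s b f z 4 = b := if_pos rfl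
  have inv3 : ∀ p q : G, p * p = 1 → q * q = 1 → (p * q) ^ 3 = 1 → (q * p) ^ 3 = 1 := by
    intro p q hp hq hpq
    have : q * p = (p * q)⁻¹ := by
      rw [mul_inv_rev, inv_eq_of_mul_eq_one_left hp, inv_eq_of_mul_eq_one_left hq]
    rw [this, inv_pow, hpq, inv_one]
  have sq_of_comm : ∀ p q : G, p * p = 1 → q * q = 1 → p * q = q * p → (p * q) ^ 2 = 1 := by
    intro p q hp hq hpq
    rw [pow_two]
    calc p * q * (p * q) = p * (q * p) * q := by group
      _ = p * (p * q) * q := by rw [hpq]
      _ = (p * p) * (q * q) := by group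
      _ = 1 := by rw [hp, hq, one_mul]
  refine ⟨?_, ?_, ?_⟩
  · intro i j
    by_cases hi : i = .j
    · subst hi
      by_cases hj : j = .j
      · subst hj
        show (sys s b f z 4 * sys s b f z 4) ^ 1 = 1
        rw [pow_one, h4, h.sqb]
      · obtain ⟨h1, h2⟩ := fi_lab_j j hj
        rw [sys_isN s b f z h1]
        show (sys s b f z 4 * s _) ^ _ = 1
        rw [h4]
        rcases h2 with ⟨h2, _, h3⟩ | ⟨h2, _, h3⟩
        · rw [h2, h3]; exact h.b0
        · rw [h3]; exact sq_of_comm _ _ h.sqb (hsq _) (h.bc _ h2)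
    · by_cases hj : j = .j
      · subst hj
        obtain ⟨h1, h2⟩ := fi_lab_j i hi
        rw [sys_isN s b f z h1]
        show (s _ * sys s b f z 4) ^ _ = 1
        rw [h4]
        rcases h2 with ⟨h2, h3, _⟩ | ⟨h2, h3, _⟩
        · rw [h2, h3]; exact inv3 _ _ h.sqb (hsq _) h.b0
        · rw [h3]; exact sq_of_comm _ _ (hsq _) h.sqb (h.bc _ h2).symm
      · obtain ⟨h1, h2, h3⟩ := fi_lab i j hi hj
        rw [sys_isN s b f z h1, sys_isN s b f z h2, h3]
        exact h.lift _ _
  · rw [ev_sys s b f z (by decide)]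
    have h2 : ([0, 11, 12, 0, 1, 2, 0, 6, 7] : List ℕ).map ix = [3, 7, 8, 3, 2, 1, 3, 4, 5] := by decide
    rw [h2]
    have h4' : ev s ([3, 7, 8, 3, 2, 1, 3, 4, 5] : List (Fin 10)) =
        ev s ([3, 7, 8] : List (Fin 10)) * ev s ([3, 2, 1, 3, 4, 5] : List (Fin 10)) := by
      rw [← ev_append]; rfl
    have h5 : ev s TwoESix.Cox10.spider = ev s ([3, 2, 1, 3, 4, 5] : List (Fin 10)) * ev s ([3, 7, 8] : List (Fin 10)) := by
      rw [← ev_append]; rfl
    rw [h4']
    apply rot_pow
    rw [← h5]; exact h.spider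
  · rw [ev_sys s b f z (by decide), pow9_eq h.lift chk_e7, h.e213]

/-- **The thirteen nodes.** -/
theorem NRels.pre (hF : FiFacts) {s : Fin 10 → G} {b z : G} (h : NRels s b z) (hz : ∀ g : G, g * z = z * g)
    (hzz : z * z = 1) : Pre (sys s b (ev s W321 ^ 9) z) := by
  set f : G := ev s W321 ^ 9 with hf
  have hsq : ∀ i, s i * s i = 1 := fun i => sq h.lift i
  have h4 : sys s b f z 4 = b := rfl
  have h5 : sys s b f z 5 = f := rfl
  have h10 : sys s b f z 10 = z := rfl
  have hff : f * f = 1 := by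
    have := ev_eq_ev h.lift chk_sq1
    rw [ev_append, ev_rep, ev_nil, ← hf] at this
    exact this
  have hfc : ∀ i, s i * f = f * s i := fun i => f1_comm h.lift h.spider i
  have hfi := h.fiRel f
  have hw : ∀ w : List ℕ, w.all isN = true → Tits.ev (sys s b f z) w = ev s (w.map ix) :=
    fun w hw => ev_sys s b f z hw
  have efa : Tits.ev (sys s b f z) f1a ^ 9 = f := by
    rw [hw _ (by decide), pow9_eq h.lift chk_f1a]
  have hbr : b * f * b = f * b * f := by
    obtain ⟨_, _, h3⟩ := fi_conc hF hfi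
    rw [efa] at h3
    exact h3.symm
  refine ⟨?_, ?_, ?_, ?_, ?_, ?_, ?_, ?_, ?_, ?_⟩
  · intro i hi h9
    rcases letters i hi h9 with h1 | rfl | rfl | rfl
    · rw [sys_isN s b f z h1]; exact hsq _
    · rw [h4]; exact h.sqb
    · rw [h5]; exact hff
    · rw [h10]; exact hzz
  · intro i hi j hj h9 h9' hij
    rcases letters j hj h9' with hj1 | rfl | rfl | rfl
    · rcases letters i hi h9 with hi1 | rfl | rfl | rfl
      · rw [sys_isN s b f z hi1, sys_isN s b f z hj1]
        rcases adj_N i hi j hj hi1 hj1 with ⟨h1, _⟩ | ⟨_, h1 | h1⟩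
        · rw [hij] at h1; exact absurd h1 Bool.false_ne_true
        · rw [h1]
        · exact comm_of h.lift h1
      · rw [sys_isN s b f z hj1, h4]
        rcases adj_4 j hj hj1 with ⟨h1, _⟩ | ⟨_, h1⟩
        · rw [adjB_comm, h1] at hij; exact absurd hij.symm Bool.false_ne_true
        · exact h.bc _ h1
      · rw [sys_isN s b f z hj1, h5]; exact (hfc _).symm
      · rw [h10]; exact (hz _).symm
    · rcases letters i hi h9 with hi1 | rfl | rfl | rfl
      · rw [sys_isN s b f z hi1, h4]
        rcases adj_4 i hi hi1 with ⟨h1, _⟩ | ⟨_, h1⟩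
        · rw [h1] at hij; exact absurd hij.symm Bool.false_ne_true
        · exact (h.bc _ h1).symm
      · rfl
      · exact absurd hij (by decide)
      · rw [h10]; exact (hz _).symm
    · rcases letters i hi h9 with hi1 | rfl | rfl | rfl
      · rw [sys_isN s b f z hi1, h5]; exact hfc _
      · exact absurd hij (by decide)
      · rfl
      · rw [h10]; exact (hz _).symm
    · rw [h10]; exact hz _
  · intro i hi j hj h9 h9' hij
    rcases letters j hj h9' with hj1 | rfl | rfl | rfl
    · rcases letters i hi h9 with hi1 | rfl | rfl | rfl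
      · rw [sys_isN s b f z hi1, sys_isN s b f z hj1]
        rcases adj_N i hi j hj hi1 hj1 with ⟨_, h1⟩ | ⟨h1, _⟩
        · exact braid h.lift h1
        · rw [hij] at h1; exact absurd h1.symm Bool.false_ne_true
      · rw [sys_isN s b f z hj1, h4]
        rcases adj_4 j hj hj1 with ⟨_, h1⟩ | ⟨h1, _⟩
        · rw [h1]; exact braid_of_cube h.sqb (hsq 0) h.b0
        · rw [adjB_comm, h1] at hij; exact absurd hij Bool.false_ne_true
      · rw [adjB_comm, adj_5 j hj hj1] at hij; exact absurd hij Bool.false_ne_true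
      · rw [adjB_comm, adj_10 j hj h9'] at hij; exact absurd hij Bool.false_ne_true
    · rcases letters i hi h9 with hi1 | rfl | rfl | rfl
      · rw [sys_isN s b f z hi1, h4]
        rcases adj_4 i hi hi1 with ⟨_, h1⟩ | ⟨h1, _⟩
        · rw [h1]; exact (braid_of_cube h.sqb (hsq 0) h.b0).symm
        · rw [h1] at hij; exact absurd hij Bool.false_ne_true
      · exact absurd hij (by decide)
      · rw [h4, h5]; exact hbr.symm
      · exact absurd hij (by decide)
    · rcases letters i hi h9 with hi1 | rfl | rfl | rfl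
      · rw [adj_5 i hi hi1] at hij; exact absurd hij Bool.false_ne_true
      · rw [h4, h5]; exact hbr
      · exact absurd hij (by decide)
      · exact absurd hij (by decide)
    · rw [adj_10 i hi h9] at hij; exact absurd hij Bool.false_ne_true
  · rw [hw _ (by decide), spW_map]; exact h.spider
  · rw [efa, h5]
  · rw [h5, hw _ (by decide), pow9_eq h.lift chk_f1b, W321_eq h.lift h.spider]
  · rw [h10, hw _ (by decide), pow9_eq h.lift chk_f2a, h.e231]
  · rw [h10, hw _ (by decide), pow9_eq h.lift chk_f2b, W231_eq h.lift h.spider, h.e231]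
  · rw [hw _ (by decide), pow9_eq h.lift chk_f3a, h.e213]
  · rw [hw _ (by decide), pow9_eq h.lift chk_f3b, W213_eq h.lift h.spider, h.e213]

/-! ### Conversely, the relations of a system with `Pre` -/

/-- the letter of an index -/
def lx : Fin 10 → ℕ := ![3, 2, 1, 0, 6, 7, 8, 11, 12, 13]

theorem lx_lt : ∀ i, lx i < 14 ∧ lx i ≠ 9 := by decide
theorem lx_isN : ∀ i, isN (lx i) = true ∧ ix (lx i) = i := by decide
theorem ix_lx : ∀ i < 14, isN i = true → lx (ix i) = i := by decide

theorem adj_lx : ∀ i j : Fin 10, (lab i j = 1 ∧ i = j) ∨ (lab i j = 2 ∧ adjB (lx i) (lx j) = false) ∨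
    (lab i j = 3 ∧ adjB (lx i) (lx j) = true) := by decide

theorem adj_lx4 : ∀ i : Fin 10, i ≠ 0 → adjB 4 (lx i) = false := by decide

theorem lt_eq (x : Gen) (h : x ≠ .t1) : lt x = lx (idx x) := by
  revert h; cases x <;> decide

theorem lt_gen (i : Fin 10) : lt (gen i) = lx i := by
  revert i; decide

theorem ev_lx (y : ℕ → G) {w : List ℕ} (h : w.all isN = true) (h14 : ∀ i ∈ w, i < 14) :
    ev (fun i => y (lx i)) (w.map ix) = Tits.ev y w := by
  rw [Tits.ev, ev, List.map_map]
  congr 1
  refine List.map_congr_left fun i hi => ?_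
  show y (lx (ix i)) = y i
  rw [ix_lx i (h14 i hi) (List.all_eq_true.1 h i hi)]

theorem nrels_of_pre {y : ℕ → G} (h : Pre y) : NRels (fun i => y (lx i)) (y 4) (y 10) := by
  have hl : M10.IsLiftable (fun i => y (lx i)) := by
    intro i j
    show (y (lx i) * y (lx j)) ^ lab i j = 1
    have s1 := h.sq _ (lx_lt i).1 (lx_lt i).2
    have s2 := h.sq _ (lx_lt j).1 (lx_lt j).2
    rcases adj_lx i j with ⟨h1, rfl⟩ | ⟨h1, h2⟩ | ⟨h1, h2⟩
    · rw [h1, pow_one, s1]
    · have hc := h.cm _ (lx_lt i).1 _ (lx_lt j).1 (lx_lt i).2 (lx_lt j).2 h2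
      rw [h1, pow_two]
      calc y (lx i) * y (lx j) * (y (lx i) * y (lx j)) = y (lx i) * (y (lx j) * y (lx i)) * y (lx j) := by group
        _ = y (lx i) * (y (lx i) * y (lx j)) * y (lx j) := by rw [hc]
        _ = (y (lx i) * y (lx i)) * (y (lx j) * y (lx j)) := by group
        _ = 1 := by rw [s1, s2, one_mul]
    · have hc := h.br _ (lx_lt i).1 _ (lx_lt j).1 (lx_lt i).2 (lx_lt j).2 h2
      rw [h1]
      exact cube_of_braid s1 s2 hc
  refine ⟨hl, ?_, ?_, ?_, ?_, ?_, ?_⟩
  · rw [← spW_map, ev_lx y (by decide) (by decide)]; exact h.spider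
  · rw [← pow9_eq hl chk_f2a, ev_lx y (by decide) (by decide)]; exact h.f2a.symm
  · rw [← pow9_eq hl chk_f3a, ev_lx y (by decide) (by decide)]; exact h.f3a
  · exact h.sq 4 (by norm_num) (by norm_num)
  · exact cube_of_braid (h.sq 4 (by norm_num) (by norm_num)) (h.sq 3 (by norm_num) (by norm_num))
      (h.br 4 (by norm_num) 3 (by norm_num) (by norm_num) (by norm_num) (by decide))
  · intro i hi
    exact h.cm 4 (by norm_num) _ (lx_lt i).1 (by norm_num) (lx_lt i).2 (adj_lx4 i hi)

/-! ### Double covers of the Baby Monster -/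

section Cover

variable {L L' : Type*} [Group L] [Group L']

theorem closure_mul_z {π : L →* Spor.BabyMonster} {z : L} (h : Ext π z) {m : Fin 10 → L} {b : L}
    (hm : ∀ i, π (m i) = e0 i) (hb : π b = b1) (hr : NRels m b z) :
    Subgroup.closure (insert b (Set.range m)) = ⊤ := by
  have hzm : z ∈ Subgroup.closure (insert b (Set.range m)) := by
    rw [← hr.e231]
    refine Subgroup.pow_mem _ ?_ _
    rw [ev]
    apply Subgroup.list_prod_mem
    intro x hx
    obtain ⟨i, _, rfl⟩ := List.mem_map.1 hx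
    exact Subgroup.subset_closure (Set.mem_insert_of_mem _ ⟨i, rfl⟩)
  rw [eq_top_iff]
  intro c _
  have h1 : π c ∈ Subgroup.map π (Subgroup.closure (insert b (Set.range m))) := by
    rw [MonoidHom.map_closure]
    have : insert b1 (Set.range e0) ⊆ π '' insert b (Set.range m) := by
      rintro x (rfl | ⟨y, rfl⟩)
      · exact ⟨b, Set.mem_insert _ _, hb⟩
      · exact ⟨m y, Set.mem_insert_of_mem _ ⟨y, rfl⟩, hm y⟩
    exact Subgroup.closure_mono this (closure_std ▸ Subgroup.mem_top _)
  obtain ⟨c', hc', hcc⟩ := h1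
  rcases h.map_eq.1 hcc with h2 | h2
  · rw [← h2]; exact hc'
  · have e : c = c' * z := by rw [h2, h.mul_z_mul_z]
    rw [e]
    exact Subgroup.mul_mem _ hc' hzm

/-- The eleven nodes of a system with `Pre` lifting the generators generate. -/
theorem closure_lt {π : L →* Spor.BabyMonster} {z : L} (h : Ext π z) {y : ℕ → L} (hy : Pre y) (h10 : y 10 = z)
    (hg : ∀ x : Gen, π (y (lt x)) = PresentedGroup.of x) :
    Subgroup.closure (Set.range fun x : Gen => y (lt x)) = ⊤ := by
  have hn : NRels (fun i => y (lx i)) (y 4) z := h10 ▸ nrels_of_pre hy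
  have h1 := closure_mul_z h (m := fun i => y (lx i)) (b := y 4) (fun i => by
    show π (y (lx i)) = PresentedGroup.of (gen i)
    rw [← lt_gen, hg]) (hg .t1) hn
  rw [eq_top_iff, ← h1]
  apply Subgroup.closure_mono
  rintro _ (rfl | ⟨i, rfl⟩)
  · exact ⟨.t1, rfl⟩
  · exact ⟨gen i, by show y (lt (gen i)) = y (lx i); rw [lt_gen]⟩

/-- **The thirteen nodes in a non-split double cover of the Baby Monster.** -/
theorem exists_pre (hF : FiFacts) {π : L →* Spor.BabyMonster} {z : L} (h : Ext π z)
    (hno : ∀ σ : Spor.BabyMonster →* L, ¬ ∀ x, π (σ x) = x) :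
    ∃ y : ℕ → L, Pre y ∧ y 10 = z ∧ (∀ x : Gen, π (y (lt x)) = PresentedGroup.of x) ∧
      Subgroup.closure (Set.range fun x : Gen => y (lt x)) = ⊤ := by
  obtain ⟨m, b, hm, hb, hr, -⟩ := exists_nodes' h hno
  have hn := NRels.of_brels h hr
  have hp := hn.pre hF h.comm h.zz
  have hg : ∀ x : Gen, π (sys (fun i => m i * z) (b * z) (ev (fun i => m i * z) W321 ^ 9) z (lt x)) =
      PresentedGroup.of x := by
    intro x
    by_cases hx : x = .t1
    · subst hx
      show π (b * z) = b1
      rw [map_mul, h.mapz, mul_one, hb]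
    · have h1 : isN (lt x) = true ∧ ix (lt x) = idx x := by
        revert hx; cases x <;> decide
      rw [sys_isN _ _ _ _ h1.1, h1.2]
      show π (m (idx x) * z) = _
      rw [map_mul, h.mapz, mul_one, hm, e0, gen_idx x hx]
  exact ⟨_, hp, rfl, hg, closure_lt h hp rfl hg⟩

/-- The perfect case. -/
theorem exists_pre_of_perfect (hF : FiFacts) {π : L →* Spor.BabyMonster} {z : L} (h : Ext π z)
    (hperf : commutator L = ⊤) :
    ∃ y : ℕ → L, Pre y ∧ y 10 = z ∧ (∀ x : Gen, π (y (lt x)) = PresentedGroup.of x) ∧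
      Subgroup.closure (Set.range fun x : Gen => y (lt x)) = ⊤ :=
  exists_pre hF h fun σ hσ => no_section h hperf σ hσ

/-- **Uniqueness**: two double covers with systems of nodes are isomorphic, compatibly with the nodes. -/
theorem exists_mulEquiv {π : L →* Spor.BabyMonster} {π' : L' →* Spor.BabyMonster} {z : L} {z' : L'}
    (h : Ext π z) (h' : Ext π' z') {y : ℕ → L} {y' : ℕ → L'} (hy : Pre y) (hy' : Pre y') (h10 : y 10 = z)
    (h10' : y' 10 = z') (hg : ∀ x : Gen, π (y (lt x)) = PresentedGroup.of x)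
    (hg' : ∀ x : Gen, π' (y' (lt x)) = PresentedGroup.of x) :
    ∃ α : L ≃* L', (∀ i < 14, i ≠ 9 → α (y i) = y' i) ∧ ∀ x, π' (α x) = π x := by
  have hn : NRels (fun i => y (lx i)) (y 4) z := h10 ▸ nrels_of_pre hy
  have hn' : NRels (fun i => y' (lx i)) (y' 4) z' := h10' ▸ nrels_of_pre hy'
  have hgm : ∀ i, π (y (lx i)) = e0 i := fun i => by
    show π (y (lx i)) = PresentedGroup.of (gen i)
    rw [← lt_gen, hg]
  have hgm' : ∀ i, π' (y' (lx i)) = e0 i := fun i => by
    show π' (y' (lx i)) = PresentedGroup.of (gen i)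
    rw [← lt_gen, hg']
  have hb := hn.brels h
  have hb' := hn'.brels h'
  have hz1 : ∀ i, π (y (lx i) * z) = e0 i := fun i => by rw [map_mul, h.mapz, mul_one, hgm]
  have hz1' : ∀ i, π' (y' (lx i) * z') = e0 i := fun i => by rw [map_mul, h'.mapz, mul_one, hgm']
  have hz2 : π (y 4 * z) = b1 := by rw [map_mul, h.mapz, mul_one]; exact hg .t1
  have hz2' : π' (y' 4 * z') = b1 := by rw [map_mul, h'.mapz, mul_one]; exact hg' .t1
  obtain ⟨α, a1, a2, a3, a4⟩ := exists_mulEquiv_of_brels hb hb' (closure_eq_top h closure_std hz1 hz2 hb)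
    (closure_eq_top h' closure_std hz1' hz2' hb') h.zne h'.zne hz1 hz2 hz1' hz2'
  have c1 : ∀ i, α (y (lx i)) = y' (lx i) := by
    intro i
    have := a1 i
    rw [map_mul, a3] at this
    exact mul_right_cancel this
  have c2 : α (y 4) = y' 4 := by
    rw [map_mul, a3] at a2
    exact mul_right_cancel a2
  have c3 : ∀ i < 14, isN i = true → α (y i) = y' i := by
    intro i hi h1
    have := c1 (ix i)
    rwa [ix_lx i hi h1] at this
  refine ⟨α, ?_, a4⟩
  intro i hi h9
  rcases letters i hi h9 with h1 | rfl | rfl | rfl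
  · exact c3 i hi h1
  · exact c2
  · rw [hy.f1a, hy'.f1a, map_pow]
    congr 1
    refine (Tits.map_ev α.toMonoidHom y f1a).trans ?_
    apply Tits.ev_congr
    have hf : ∀ i ∈ f1a, i < 14 ∧ isN i = true := by decide
    intro j hj
    exact c3 j (hf j hj).1 (hf j hj).2
  · rw [h10, h10', a3]

end Cover

end Cfsg.Agent.MonsterN.LiftB
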