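import Cfsg.Agent.MonsterN.Lit
import Cfsg.Agent.MonsterN.ModelB
import Cfsg.Agent.MonsterN.RealComB
import Cfsg.Agent.MonsterN.BigZModel
import Cfsg.Agent.MonsterN.LiftB
import Cfsg.Agent.MonsterU.CloseFin

/-!
# S1737 for the `196884`-dimensional model

`BB M t`: the carrier `C_G(ι t)` of the model of `2.B`, `t` a short element.

* `close` : the closing argument;
* `pre` : the nodes of `BB M t` from `LiftB`;
* `isoM` : the literal conclusion of S1737 from the remaining inputs.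
-/

set_option autoImplicit false

open Subgroup

namespace Cfsg.Agent.MonsterN.LitInst

open Cfsg Cfsg.Agent.Bimonster Cfsg.Agent.BabyU.RootCfg Cfsg.Agent.TwoESix.Cover
open Cfsg.Agent.MonsterX.KSide Cfsg.Agent.MonsterX.KLift Cfsg.Agent.MonsterX.KModel
open Cfsg.Agent.MonsterX.Model Cfsg.Agent.MonsterX.MainPack Cfsg.Agent.MonsterX.MainSimple
open Cfsg.Agent.MonsterX.MainBasic Cfsg.Agent.MonsterU.Assembly Cfsg.Agent.MonsterN.Lit

universe u

variable {V P W : Type} [AddCommGroup V] [Module ℚ V] [Group P] [AddCommGroup W] [Module ℚ W]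
  {D : MData V} {M : KS ↥D.G V P W} {x₀ : P} {θ : leechLattice → P} {K₀ : Type} [Group K₀]

/-- The carrier. -/
abbrev BB (M : KS ↥D.G V P W) (t : P) : Subgroup D.G := centralizer ({M.ι t} : Set D.G)

/-- The central involution. -/
def tb (M : KS ↥D.G V P W) (t : P) : BB M t := ⟨M.ι t, mem_centralizer_singleton_iff.2 rfl⟩

theorem tb_cen (t : P) (x : BB M t) : x * tb M t = tb M t * x :=
  Subtype.ext (mem_centralizer_singleton_iff.1 x.2)

theorem hcent (H : Link D M x₀) (A : All D K₀) (g : D.G) (hg : g * M.z = M.z * g) : g ∈ M.K := by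
  have hz : M.z = zG A.hG := Subtype.ext H.z_eq.symm
  rw [H.C_iff]
  rw [hz] at hg
  exact (Cfsg.Agent.MonsterX.MainSimple.mem_cent_iff A.hG A.hR A.hL A.hO A.hT g).1
    (Cfsg.Agent.MonsterU.CloseTop.mem_cent_iff.2 hg)

/-- `19` does not divide the order of the centraliser of `z`. -/
theorem nineteen (H : Link D M x₀) (A : All D K₀) :
    ¬ 19 ∣ Nat.card (centralizer ({M.z} : Set D.G)) := by
  have hz : M.z = zG A.hG := Subtype.ext H.z_eq.symm
  have h1 : Nat.card (Subgroup.centralizer ({zG A.hG} : Set D.G)) = 2 ^ 25 * 4157776806543360000 := by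
    rw [← card_C A.hG]
    refine Nat.card_congr (Equiv.ofBijective
      (fun x => (⟨(x : D.G), (Cfsg.Agent.MonsterX.MainSimple.mem_cent_iff A.hG A.hR A.hL A.hO A.hT _).1
        x.2⟩ : D.C)) ⟨?_, ?_⟩)
    · intro a b hab
      apply Subtype.ext
      apply Subtype.ext
      exact congrArg (fun y : D.C => (y : V ≃ₗ[ℚ] V)) hab
    · intro c
      exact ⟨⟨⟨c, C_le c.2⟩, (Cfsg.Agent.MonsterX.MainSimple.mem_cent_iff A.hG A.hR A.hL A.hO A.hT _).2
        c.2⟩, rfl⟩
  rw [hz, h1]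
  norm_num

/-- The closing argument. -/
theorem close (A : All D K₀) (H : Link D M x₀) (L : Lift M θ) (eD : Nonempty (Spor.Monster ≃* D.G))
    {G : Type*} [Group G] [Finite G] (S : Subgroup G) (e : S ≃* Spor.Monster) (t : G) (htS : t ∈ S)
    (ht : t * t = 1) (ht1 : t ≠ 1) (htc : ¬ 2 ^ 43 ∣ Nat.card (centralizer ({t} : Set G)))
    (hC : ∀ g : G, g * t = t * g → g ∈ S) : S = ⊤ := by
  obtain ⟨e'⟩ := eD
  exact Cfsg.Agent.MonsterU.CloseFin.eq_top_of_equiv H L A.hG A.hR A.hL A.hO A.hT A.classes S (e.trans e')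
    htS ht ht1 htc hC

variable {F : Type*} [Field F] [Fintype F] {hF : Fintype.card F = 2 ^ 2} {E : Type u} [Group E] {R : Set E}

/-- **S1737** from the remaining inputs: the facts on `E`, the fusion facts, `Big` for `f₁`, the conjugacies of
`t f₁ f₂` and `f₁ f₂ f₃` to `z`, the nodes with the projection onto `E`, the nodes of the Monster in the model. -/
theorem isoM (A : All D K₀) (H : Link D M x₀) (L : Lift M θ)
    {y : ℕ → D.G} (hP : PRel y) (hne : y 0 ≠ y 1) (hy : ∃ g : D.G, g * tG A.hG A.hR * g⁻¹ = y 10)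
    (hB : Cfsg.IsB Cfsg.Spor.BabyMonster) (eD : Nonempty (Spor.Monster ≃* D.G))
    [IsSimpleGroup PM] (eM : Nonempty (Spor.Monster ≃* PM))
    (EF : EFacts hF E R) {t : P} (ht : t ∈ M.Sh) {f₁ f₂ f₃ f₄ : BB M t}
    (Fc : FusionType.Facts (tb M t) f₁ f₂ f₃ f₄) (big_a : KEq.Big (BB M t) (tb M t) f₁)
    (conj_z : ∀ h, IsConj (tb M t * (f₁ * f₂)) (⟨M.z, h⟩ : BB M t))
    (conj_d : IsConj M.z ((f₁ * f₂ * f₃ : BB M t) : D.G)) (N : Nodes (tb M t) R)
    {G : Type*} [Group G] [Finite G] [IsSimpleGroup G]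
    (hG : ¬ IsMulCommutative G)
    (hbal : ∀ t : G, orderOf t = 2 → Cfsg.centralizerPPrimeCore 2 t = ⊥)
    (L' : Subgroup G) (hL : Cfsg.IsStandardSubgroup L')
    (hLX : (Nat.card ↥(Subgroup.center ↥L') = 2 ∧
      Nonempty (↥L' ⧸ Subgroup.center ↥L' ≃* Cfsg.Spor.BabyMonster))) :
    Cfsg.Spor.IsoM G := by
  have hfin : Finite D.G := G_finite A.hO
  obtain ⟨⟨h1, h2, h3⟩, h43⟩ := ModelB.fieldsKS A H L hP hne hy hB ht
  have hzm : M.z ∈ BB M t := mem_centralizer_singleton_iff.2 (by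
    show M.ι M.zc * M.ι t = M.ι t * M.ι M.zc
    rw [← map_mul, ← map_mul, M.zc_comm])
  have hcz := conj_z hzm
  have big_z : KEq.Big (BB M t) (tb M t) (tb M t * (f₁ * f₂)) :=
    (BigZModel.big_z H L (hcent H A) ht).conj (fun x => (tb_cen t x).symm) hcz.symm
  have BF : BFacts (BB M t) (tb M t) f₁ f₂ f₃ f₄ :=
    ⟨h1, h2, h3, Fc, big_a, big_z, RealComB.realB L ht h43, RealComB.comB L ht h43⟩
  have hE : Emb (BB M t).subtype M.z (tb M t) f₁ f₂ f₃ :=
    ⟨Subtype.val_injective, nineteen H A, ((BB M t).subtype.map_isConj hcz).symm, conj_d⟩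
  exact Lit.isoM h43 EF BF hE N eM hG hbal L' hL hLX (close A H L eD)

end Cfsg.Agent.MonsterN.LitInst
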