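import Cfsg.Agent.MonsterN.FusF2
import Cfsg.Agent.MonsterN.LitInst

/-!
# The fusion facts for the `196884`-dimensional model

`hyp` : the structure `FusF2.Hyp` for the model; `exists_facts` : the facts `FusionType.Facts` on `BB M t` with the
conjugacies of `t f₁ f₂` and `f₁ f₂ f₃` to `z` and the type of `f₁`.
-/

set_option autoImplicit false

open Subgroup

namespace Cfsg.Agent.MonsterN.FusInst

open Cfsg Cfsg.Agent.Bimonster
open Cfsg.Agent.MonsterX.KSide Cfsg.Agent.MonsterX.KLift Cfsg.Agent.MonsterX.KModel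
open Cfsg.Agent.MonsterX.Model Cfsg.Agent.MonsterX.MainPack Cfsg.Agent.MonsterX.MainSimple
open Cfsg.Agent.MonsterX.MainBasic Cfsg.Agent.MonsterU.Assembly Cfsg.Agent.MonsterN.Lit
open Cfsg.Agent.MonsterN.LitInst Cfsg.Agent.MonsterU.Lam2 Cfsg.Agent.MonsterU.TwoCls

variable {V P W : Type} [AddCommGroup V] [Module ℚ V] [Group P] [AddCommGroup W] [Module ℚ W]
  {D : MData V} {M : KS ↥D.G V P W} {x₀ : P} {θ : leechLattice → P} {K₀ : Type} [Group K₀]

/-- `2 ^ 43` divides the order of the centraliser of `z`. -/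
theorem card_z (H : Link D M x₀) (A : All D K₀) :
    2 ^ 43 ∣ Nat.card (centralizer ({M.z} : Set D.G)) := by
  have hz : M.z = zG A.hG := Subtype.ext H.z_eq.symm
  have h1 : Nat.card (Subgroup.centralizer ({zG A.hG} : Set D.G)) = 2 ^ 25 * 4157776806543360000 := by
    rw [← card_C A.hG]
    refine Nat.card_congr (Equiv.ofBijective
      (fun x => (⟨(x : D.G), (Cfsg.Agent.MonsterX.MainSimple.mem_cent_iff A.hG A.hR A.hL A.hO A.hT _).1
        x.2⟩ : D.C)) ⟨?_, ?_⟩)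
    · intro a b hab
      apply Subtype.ext
      apply Subtype.ext
      exact congrArg (fun y : D.C => (y : V ≃ₗ[ℚ] V)) hab
    · intro c
      exact ⟨⟨⟨c, C_le c.2⟩, (Cfsg.Agent.MonsterX.MainSimple.mem_cent_iff A.hG A.hR A.hL A.hO A.hT _).2
        c.2⟩, rfl⟩
  rw [hz, h1]
  norm_num

theorem hyp (A : All D K₀) (H : Link D M x₀) (L : Lift M θ) {τ : D.G} {y : P}
    (T : Cfsg.Agent.MonsterU.InvTwo.TauHyp M θ ⊤ τ y) {t : P} (ht : t ∈ M.Sh) :
    FusF2.Hyp M θ τ y t := by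
  have hfin : Finite D.G := G_finite A.hO
  have hz : M.z = zG A.hG := Subtype.ext H.z_eq.symm
  obtain ⟨k, hk⟩ := ModelB.exists_conj_t A.hG A.hR H L ht
  have h43 := ModelB.h43 A ⟨k, hk⟩
  refine ⟨L, T, hfin, ht, ?_, ?_, ?_⟩
  · rintro ⟨g, hg⟩
    apply h43
    rw [card_centralizer_conj (isConj_iff.2 ⟨g, hg⟩)]
    exact card_z H A
  · have h43' : ¬ 2 ^ 43 ∣ Nat.card ↥((⊤ : Subgroup D.G) ⊓ centralizer {M.ι t}) := by
      rwa [top_inf_eq]
    have h := RealComB.hodd L (le_top (a := M.K)) ht h43'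
    rw [← inf_relIndex_right, top_inf_eq] at h
    rw [top_inf_eq]
    exact h
  · intro g hg
    rw [← hk] at hg ⊢
    have e : g * (k * tG A.hG A.hR * k⁻¹) * g⁻¹ = (g * k) * tG A.hG A.hR * (g * k)⁻¹ := by group
    rw [e, hz] at hg ⊢
    rcases Cfsg.Agent.MonsterU.ClosingModel.out_model A.hG A.hR A.hL A.hO A.hT A.classes (g * k) hg with h | h
    · left
      obtain ⟨p, hp⟩ := (H.Q_iff _).1 h
      exact ⟨p, Subtype.ext hp⟩
    · exact Or.inr h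

/-- **The fusion facts for the model.** -/
theorem exists_facts (A : All D K₀) (H : Link D M x₀) (L : Lift M θ) {τ : D.G} {y : P}
    (T : Cfsg.Agent.MonsterU.InvTwo.TauHyp M θ ⊤ τ y) {t : P} (ht : t ∈ M.Sh) :
    ∃ f₁ f₂ f₃ f₄ : BB M t, FusionType.Facts (tb M t) f₁ f₂ f₃ f₄ ∧
      (∀ h, IsConj (tb M t * (f₁ * f₂)) (⟨M.z, h⟩ : BB M t)) ∧
      IsConj M.z ((f₁ * f₂ * f₃ : BB M t) : D.G) ∧
      ∃ p : P, ((f₁ : BB M t) : D.G) = M.ι p ∧ IsType 2 (clP L p) ∧ IsType 2 (clP L t + clP L p) := by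
  have F := hyp A H L T ht
  obtain ⟨p₁, p₂, p₃, p₄, C⟩ := FusF2.exists_conf L ht
  refine ⟨_, _, _, _, F.facts C (F.c₁ C) (F.c₂ C) (F.c₃ C) (F.c₄ C), fun h => F.conj_z C _ _, ?_,
    p₁, rfl, C.s₁, C.t₁⟩
  obtain ⟨g, hg⟩ := F.four_z (q := p₁ * p₂ * p₃) (by rw [clP_mul, clP_mul]; exact C.s123)
  have h1 : IsConj (M.ι (p₁ * p₂ * p₃)) M.z := isConj_iff.2 ⟨g, hg⟩
  have e : ((FusF2.elt M p₁ (F.c₁ C) * FusF2.elt M p₂ (F.c₂ C) * FusF2.elt M p₃ (F.c₃ C) :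
      FusF2.B M t) : D.G) = M.ι (p₁ * p₂ * p₃) := by
    rw [map_mul, map_mul]
    rfl
  rw [e]
  exact h1.symm

end Cfsg.Agent.MonsterN.FusInst
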