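import Cfsg.Agent.MonsterU.TwoQ
import Cfsg.Agent.MonsterU.PlaneM2
import Cfsg.Agent.MonsterP.LeechPairs

/-!
# Conjugation of pairs of elements of the extraspecial group

`conj_pair`: an element of `K` mapping the pair `(t, p)` of elements of `ι P` to `(t, p')`, from an element of `Co0`
doing this modulo the centre.  `conj_lat`: from an element of `Co0` acting on lattice vectors.
-/

set_option autoImplicit false

namespace Cfsg.Agent.MonsterN.FusPair

open Cfsg Cfsg.Agent.LeechMat.Core Cfsg.Agent.MonsterX.KSide Cfsg.Agent.MonsterX.KLift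
open Cfsg.Agent.MonsterX.FrameKS
open Cfsg.Agent.MonsterU.Lam2 Cfsg.Agent.MonsterU.TwoCls Cfsg.Agent.MonsterU.TwoQ
open Cfsg.Agent.MonsterP.LeechTriple Cfsg.Agent.MonsterP.LeechPairs

variable {G V P W : Type*} [Group G] [AddCommGroup V] [Module ℚ V]
  [DistribMulAction G V] [SMulCommClass G ℚ V] [Group P] [AddCommGroup W] [Module ℚ W]
  {M : KS G V P W} {θ : leechLattice → P}

theorem conj_zc (q x : P) : q * (M.zc * x) * q⁻¹ = M.zc * (q * x * q⁻¹) := by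
  rw [← mul_assoc, ← M.zc_comm q]
  group

/-- The pair `(t, p)` is mapped to `(t, p')`. -/
theorem conj_pair (L : Lift M θ) {t p p' : P} (h1 : clP L p' ≠ 0) (h2 : clP L p' ≠ clP L t)
    (h3 : clP L t ≠ 0) {A : Co0} (hA : A • clP L t = clP L t) (hp : A • clP L p = clP L p') :
    ∃ g ∈ M.K, g * M.ι t * g⁻¹ = M.ι t ∧ g * M.ι p * g⁻¹ = M.ι p' := by
  obtain ⟨g, hgK, hg⟩ := exists_ind M A
  obtain ⟨α, a1, a2⟩ := aut L hgK hg
  have e1 : α t = t ∨ α t = M.zc * t := (clP_eq' L).1 (by rw [a2, hA])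
  have e2 : α p = p' ∨ α p = M.zc * p' := (clP_eq' L).1 (by rw [a2, hp])
  have n1 : ¬ Eqz M p' 1 := fun h => h1 (by
    rw [(clP_eq L).2 h]; exact clP_one L)
  have n2 : ¬ Eqz M p' t := fun h => h2 ((clP_eq L).2 h)
  have n3 : ¬ Eqz M t 1 := fun h => h3 (by
    rw [(clP_eq L).2 h]; exact clP_one L)
  have n4 : ¬ Eqz M t p' := fun h => n2 h.symm
  -- the correcting element
  have key : ∃ x : P, x * α t * x⁻¹ = t ∧ x * α p * x⁻¹ = p' := by
    obtain ⟨x, x1, x2⟩ := Cfsg.Agent.MonsterU.PlaneM2.exists_flip L (p := t) (q := p') n3 n4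
    obtain ⟨y, y1, y2⟩ := Cfsg.Agent.MonsterU.PlaneM2.exists_flip L (p := p') (q := t) n1 n2
    rcases e1 with e1 | e1 <;> rcases e2 with e2 | e2 <;> rw [e1, e2]
    · exact ⟨1, by group, by group⟩
    · refine ⟨y, y2, ?_⟩
      rw [conj_zc, y1, M.zc_zc]
    · refine ⟨x, ?_, x2⟩
      rw [conj_zc, x1, M.zc_zc]
    · refine ⟨x * y, ?_, ?_⟩
      · have : x * y * (M.zc * t) * (x * y)⁻¹ = x * (y * (M.zc * t) * y⁻¹) * x⁻¹ := by group
        rw [this, conj_zc, y2, conj_zc, x1, M.zc_zc]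
      · have : x * y * (M.zc * p') * (x * y)⁻¹ = x * (y * (M.zc * p') * y⁻¹) * x⁻¹ := by group
        rw [this, conj_zc, y1, M.zc_zc, x2]
  obtain ⟨x, x1, x2⟩ := key
  refine ⟨M.ι x * g, M.K.mul_mem (M.ι_mem x) hgK, ?_, ?_⟩
  · have h : M.ι x * g * M.ι t * (M.ι x * g)⁻¹ = M.ι x * (g * M.ι t * g⁻¹) * (M.ι x)⁻¹ := by group
    rw [h, a1, mul_inv_cancel_right, ← map_inv, ← map_mul, ← map_mul, x1]
  · have h : M.ι x * g * M.ι p * (M.ι x * g)⁻¹ = M.ι x * (g * M.ι p * g⁻¹) * (M.ι x)⁻¹ := by group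
    rw [h, a1, mul_inv_cancel_right, ← map_inv, ← map_mul, ← map_mul, x2]

/-- A version with lattice vectors. -/
theorem conj_lat (L : Lift M θ) {t p p' : P} {o v w : leechLattice} (ht : clP L t = cl o)
    (hv : clP L p = cl v) (hw : clP L p' = cl w) (h1 : cl w ≠ 0) (h2 : cl w ≠ cl o) (h3 : cl o ≠ 0)
    (g : Co0) (hg : g • o = o) (hgv : g • v = w ∨ g • v = -w) :
    ∃ g ∈ M.K, g * M.ι t * g⁻¹ = M.ι t ∧ g * M.ι p * g⁻¹ = M.ι p' := by
  refine conj_pair L (by rw [hw]; exact h1) (by rw [hw, ht]; exact h2) (by rw [ht]; exact h3)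
    (A := g) (by rw [ht, smul_cl, hg]) ?_
  rw [hv, hw, smul_cl]
  rcases hgv with e | e
  · rw [e]
  · rw [e, cl_neg]

/-! ### Short vectors modulo `2 Λ` -/

theorem dot_add_add (b c : leechLattice) : nrm (b + c) = nrm b + 2 * dot b c + nrm c := by
  show sqNorm _ = sqNorm _ + 2 * dotInt _ _ + sqNorm _
  rw [sqNorm_eq_dotInt, sqNorm_eq_dotInt, sqNorm_eq_dotInt]
  unfold dotInt
  rw [Finset.mul_sum, ← Finset.sum_add_distrib, ← Finset.sum_add_distrib]
  refine Finset.sum_congr rfl fun i _ => ?_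
  rw [AddSubgroup.coe_add, Pi.add_apply]
  ring

/-- Pairs of short vectors with inner product `16`. -/
theorem conj_sixteen (L : Lift M θ) {t p p' : P} {o v w : leechLattice} (ht : clP L t = cl o)
    (hv : clP L p = cl v) (hw : clP L p' = cl w) (h1 : cl w ≠ 0) (h2 : cl w ≠ cl o) (h3 : cl o ≠ 0)
    (ho : nrm o = 32) (hvn : nrm v = 32) (hwn : nrm w = 32) (hov : dot o v = 16) (how : dot o w = 16) :
    ∃ g ∈ M.K, g * M.ι t * g⁻¹ = M.ι t ∧ g * M.ι p * g⁻¹ = M.ι p' := by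
  obtain ⟨g, g1, g2⟩ := exists_pair o v o w ho hvn ho hwn hov how
  exact conj_lat L ht hv hw h1 h2 h3 g g1 (Or.inl g2)

/-- Pairs of orthogonal short vectors. -/
theorem conj_zero (L : Lift M θ) {t p p' : P} {o v w : leechLattice} (ht : clP L t = cl o)
    (hv : clP L p = cl v) (hw : clP L p' = cl w) (h1 : cl w ≠ 0) (h2 : cl w ≠ cl o) (h3 : cl o ≠ 0)
    (ho : nrm o = 32) (hvn : nrm v = 32) (hwn : nrm w = 32) (hov : dot o v = 0) (how : dot o w = 0) :
    ∃ g ∈ M.K, g * M.ι t * g⁻¹ = M.ι t ∧ g * M.ι p * g⁻¹ = M.ι p' := by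
  obtain ⟨g, g1, g2⟩ := exists_pair_zero o v o w ho hvn ho hwn hov how
  exact conj_lat L ht hv hw h1 h2 h3 g g1 (Or.inl g2)

end Cfsg.Agent.MonsterN.FusPair
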