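import Mathlib
import Cfsg.Prelude.Def_Local
import Cfsg.Agent.Lib.Cores
import Cfsg.Agent.S0215
import Cfsg.Agent.SporRec.ClosingZStar

/-!
# S1737, step (N1): the involution `t` with `C_G(t) = 2.B` is conjugate to an involution of type `2A`

`FactsB B τ a z δ`: the facts on the double cover `B` of the Baby Monster which are used.
`fusion`: if `G` is locally balanced, `C_G(t) ≅ B`, `t` is not isolated, and (`isol`) an involution whose
centraliser is `C_B(a) / ⟨a⟩` is isolated, then `t` is conjugate to `a`.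

Proof.  Suppose not.
(0) `C_G(a) ≤ C_G(t)`: in `X = C_G(a)/⟨a⟩` the image of `t` has centraliser `C_B(a)/⟨a⟩`, so it is isolated;
    `Z*` and local balance show that it is central.
(1) `z` or `τ z` is conjugate to `t`.
(2) if `d` is one of them, then `a` is an involution of `C_G(d) ≅ B`, with centraliser
    `C_G(a) ∩ C_G(d) = C_C(a, z)`; the order of this group is different from that of the centralisers of
    all involutions `≠ τ` of `B`.
-/

set_option autoImplicit false

open Subgroup

namespace Cfsg.Agent.MonsterN.Fusion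

universe u v

/-- The facts on the group `B = 2.B` used in the fusion argument. -/
structure FactsB (B : Type v) [Group B] (τ a z δ : B) : Prop where
  τ_comm : ∀ x, τ * x = x * τ
  cls : ∀ x : B, x * x = 1 → x ≠ 1 → x ≠ τ →
    IsConj a x ∨ IsConj z x ∨ IsConj (τ * z) x ∨ IsConj δ x
  a_sq : a * a = 1
  a_conj : IsConj a (τ * a)
  az : a * z = z * a
  δ_conj : IsConj δ (τ * δ)
  δz : δ * z = z * δ
  δz_conj : IsConj δ (δ * z)
  card_a : Nat.card (centralizer {a, z} : Subgroup B) ≠ Nat.card (centralizer {a} : Subgroup B)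
  card_z : Nat.card (centralizer {a, z} : Subgroup B) ≠ Nat.card (centralizer {z} : Subgroup B)
  card_δ : Nat.card (centralizer {a, z} : Subgroup B) ≠ Nat.card (centralizer {δ} : Subgroup B)

section general

variable {G : Type*} [Group G]

theorem mem_cent {x y : G} : y ∈ (centralizer {x} : Subgroup G) ↔ y * x = x * y := by
  rw [mem_centralizer_singleton_iff]

theorem mem_cent2 {x x' y : G} :
    y ∈ (centralizer {x, x'} : Subgroup G) ↔ y * x = x * y ∧ y * x' = x' * y := by
  rw [mem_centralizer_iff]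
  constructor
  · intro h
    exact ⟨(h x (by simp)).symm, (h x' (by simp)).symm⟩
  · rintro ⟨h1, h2⟩ g hg
    rcases hg with rfl | hg
    · exact h1.symm
    · rw [Set.mem_singleton_iff] at hg
      subst hg
      exact h2.symm

/-- Conjugate elements have centralisers of the same order. -/
theorem card_cent_conj {x y : G} (h : IsConj x y) :
    Nat.card (centralizer {x} : Subgroup G) = Nat.card (centralizer {y} : Subgroup G) := by
  obtain ⟨c, hc⟩ := isConj_iff.mp h
  refine Nat.card_congr ((MulAut.conj c).toEquiv.subtypeEquiv fun g => ?_)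
  rw [mem_cent, mem_cent]
  change _ ↔ (c * g * c⁻¹) * y = y * (c * g * c⁻¹)
  rw [← hc]
  constructor
  · intro hg
    calc c * g * c⁻¹ * (c * x * c⁻¹) = c * (g * x) * c⁻¹ := by group
      _ = c * (x * g) * c⁻¹ := by rw [hg]
      _ = c * x * c⁻¹ * (c * g * c⁻¹) := by group
  · intro hg
    have h1 : c * (g * x) * c⁻¹ = c * (x * g) * c⁻¹ := by
      calc c * (g * x) * c⁻¹ = c * g * c⁻¹ * (c * x * c⁻¹) := by group
        _ = c * x * c⁻¹ * (c * g * c⁻¹) := hg
        _ = c * (x * g) * c⁻¹ := by group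
    exact mul_left_cancel (mul_right_cancel h1)

/-- Commuting conjugates equal implies odd products. -/
theorem iso_of_isol [Finite G] {x : G} (hx : x * x = 1)
    (h : ∀ g : G, g * x * g⁻¹ * x = x * (g * x * g⁻¹) → g * x * g⁻¹ = x) :
    Cfsg.Agent.Involutions.ZStar.Iso x := by
  refine ⟨hx, fun g => ?_⟩
  by_contra hodd
  have hy : (g * x * g⁻¹) * (g * x * g⁻¹) = 1 := by
    have : g * x * g⁻¹ * (g * x * g⁻¹) = g * (x * x) * g⁻¹ := by group
    rw [this, hx]; group
  obtain ⟨m, h1, h2, h3, k, hk⟩ :=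
    Cfsg.Agent.SporRec.ClosingZStar.even_case hx hy hodd
  -- `x * w` is a conjugate of `x` commuting with `x`
  have h4 : ∃ c : G, c * x * c⁻¹ = x * (x * (g * x * g⁻¹)) ^ m := by
    rcases hk with hk | hk
    · exact ⟨k, hk⟩
    · refine ⟨k * g, ?_⟩
      rw [← hk]; group
  obtain ⟨c, hc⟩ := h4
  have h5 := h c (by
    rw [hc]
    calc x * (x * (g * x * g⁻¹)) ^ m * x = x * ((x * (g * x * g⁻¹)) ^ m * x) := by group
      _ = x * (x * (x * (g * x * g⁻¹)) ^ m) := by rw [← h3])
  rw [hc] at h5
  exact h1 (mul_left_cancel (h5.trans (mul_one x).symm))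

/-- The odd core of `K / Z`, `Z` central of order two and `O(K) = 1`, is trivial. -/
theorem core_quotient [Finite G] (Z : Subgroup G) [Z.Normal] (hZc : Z ≤ center G)
    (hZcard : Nat.card Z = 2) (hO : Cfsg.pPrimeCore 2 G = ⊥) :
    (Cfsg.pPrimeCore 2 (G ⧸ Z)).comap (QuotientGroup.mk' Z) = Z := by
  set M := (Cfsg.pPrimeCore 2 (G ⧸ Z)).comap (QuotientGroup.mk' Z) with hMdef
  have hMn : M.Normal := inferInstance
  have hZM : Z ≤ M := by
    intro w hw
    rw [hMdef, Subgroup.mem_comap]
    have : (QuotientGroup.mk' Z) w = 1 := by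
      rw [← MonoidHom.mem_ker, QuotientGroup.ker_mk']; exact hw
    rw [this]; exact Subgroup.one_mem _
  have hMcard : Nat.card M = Nat.card Z * Nat.card (Cfsg.pPrimeCore 2 (G ⧸ Z)) :=
    QuotientGroup.card_preimage_mk Z (Cfsg.pPrimeCore 2 (G ⧸ Z) : Set (G ⧸ Z))
  have hMO : Cfsg.oddCore M = ⊥ := by
    have h1 := Cfsg.Agent.Lib.Cores.map_subtype_pPrimeCore (G := G) 2 (N := M) hMn
    rw [hO, inf_bot_eq] at h1
    exact (Subgroup.map_eq_bot_iff_of_injective _ M.subtype_injective).mp h1
  have h3 := Cfsg.Agent.TwoFusion.IsolatedCenter.eq_top_of_central (M := M) (Z.subgroupOf M) (by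
      intro w hw
      rw [Subgroup.mem_center_iff]
      intro v
      ext
      have := Subgroup.mem_center_iff.mp (hZc (Subgroup.mem_subgroupOf.mp hw)) v
      simpa using this) ?_ ?_ hMO
  · exact le_antisymm (Subgroup.subgroupOf_eq_top.mp h3) hZM
  · exact (IsPGroup.of_card (n := 1) (by rw [hZcard]; rfl)).comap_subtype
  · have h4 := Subgroup.card_mul_index (Z.subgroupOf M)
    rw [Nat.card_congr (Subgroup.subgroupOfEquivOfLe hZM).toEquiv, hMcard] at h4
    have h5 : (Z.subgroupOf M).index = Nat.card (Cfsg.pPrimeCore 2 (G ⧸ Z)) :=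
      Nat.eq_of_mul_eq_mul_left (by rw [hZcard]; norm_num) h4
    rw [h5]
    exact Nat.coprime_two_right.mp (Cfsg.Agent.Lib.Cores.pPrimeCore_coprime 2)

end general

section main

variable {G : Type u} [Group G] [Finite G] {B : Type v} [Group B] {τ a z δ : B}

/-- `τ` as an element of `C_B(a)`. -/
def τa (h : FactsB B τ a z δ) : ↥(centralizer {a} : Subgroup B) := ⟨τ, mem_cent.mpr (h.τ_comm a)⟩

/-- The hypothesis `T_B`: an involution whose centraliser is `C_B(a) / ⟨a⟩` is isolated. -/
def Isol (h : FactsB B τ a z δ) : Prop :=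
  ∀ (X : Type u) [Group X] [Finite X] (x : X) (φ : ↥(centralizer {a} : Subgroup B) →* X),
    x * x = 1 → φ.range = centralizer {x} → (∀ y, φ y = 1 ↔ (y : B) = 1 ∨ (y : B) = a) →
    φ (τa h) = x → ∀ g : X, g * x * g⁻¹ * x = x * (g * x * g⁻¹) → g * x * g⁻¹ = x

omit [Finite G] [Group G] in
theorem FactsB.a_ne_one (F : FactsB B τ a z δ) (h : τ ≠ 1) : a ≠ 1 := by
  intro ha
  have h1 := F.a_conj
  rw [ha, mul_one] at h1
  exact h (isConj_one_right.mp h1)

omit [Finite G] [Group G] in
theorem FactsB.z_ne_one (F : FactsB B τ a z δ) : z ≠ 1 := by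
  intro hz
  apply F.card_a
  congr 2
  ext y
  rw [mem_cent2, mem_cent, hz]
  simp

omit [Finite G] [Group G] in
theorem FactsB.a_ne_z (F : FactsB B τ a z δ) : a ≠ z := by
  intro hz
  apply F.card_a
  congr 2
  ext y
  rw [mem_cent2, mem_cent, ← hz]
  simp

omit [Finite G] [Group G] in
theorem FactsB.a_ne_τz (F : FactsB B τ a z δ) : a ≠ τ * z := by
  intro hz
  apply F.card_z
  congr 2
  ext y
  rw [mem_cent2, mem_cent, hz]
  constructor
  · exact fun h => h.2
  · intro h
    refine ⟨?_, h⟩
    calc y * (τ * z) = (y * τ) * z := by group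
      _ = τ * (y * z) := by rw [← F.τ_comm y, mul_assoc]
      _ = τ * z * y := by rw [h]; group

variable {t : G} (F : FactsB B τ a z δ)

omit [Finite G] in
theorem t_mem : t ∈ (centralizer {t} : Subgroup G) := mem_cent.mpr rfl

/-- Step (0): if `a` is not conjugate to `t`, then `C_G(a) ≤ C_G(t)`. -/
theorem cent_le (hbal : ∀ s : G, orderOf s = 2 → Cfsg.centralizerPPrimeCore 2 s = ⊥)
    (ht : orderOf t = 2) (f : ↥(centralizer {t} : Subgroup G) ≃* B) (hf : f ⟨t, t_mem⟩ = τ)
    (isol : Isol.{u} F) (hn : ¬ IsConj t (f.symm a : G)) (g : G)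
    (hg : g * (f.symm a : G) = (f.symm a : G) * g) : g * t = t * g := by
  classical
  set b : G := (f.symm a : G) with hb
  have htt : t * t = 1 := by rw [← pow_two, ← ht, pow_orderOf_eq_one]
  have hti : t⁻¹ = t := inv_eq_of_mul_eq_one_left htt
  have hfτ : (f.symm τ : G) = t := by rw [← hf]; simp
  have ha1 : a ≠ 1 := F.a_ne_one fun h => by
    rw [← hf] at h
    have h1 : (⟨t, t_mem⟩ : ↥(centralizer {t} : Subgroup G)) = 1 := by simpa using h
    have h2 : t = 1 := congrArg Subtype.val h1
    rw [h2, orderOf_one] at ht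
    exact absurd ht (by norm_num)
  have hbb : b * b = 1 := by
    rw [hb, ← Subgroup.coe_mul, ← map_mul, F.a_sq, map_one, Subgroup.coe_one]
  have hb1 : b ≠ 1 := by
    intro h
    apply ha1
    have : f.symm a = 1 := Subtype.ext h
    simpa using this
  have hb2 : orderOf b = 2 := orderOf_eq_prime (by rw [pow_two, hbb]) hb1
  have htb : b * t = t * b := mem_cent.mp (f.symm a).2
  -- `b` and `t * b` are conjugate
  have hconj : IsConj b (t * b) := by
    obtain ⟨c, hc⟩ := isConj_iff.mp F.a_conj
    refine isConj_iff.mpr ⟨(f.symm c : G), ?_⟩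
    have h1 := congrArg (fun y => ((f.symm y : ↥(centralizer {t} : Subgroup G)) : G)) hc
    simp only [map_mul, map_inv, Subgroup.coe_mul, Subgroup.coe_inv] at h1
    rw [hfτ] at h1
    exact h1
  have hntb : ¬ IsConj t (t * b) := fun h => hn (h.trans hconj.symm)
  -- the group `X`
  have hKcore : Cfsg.pPrimeCore 2 ↥(centralizer {b} : Subgroup G) = ⊥ :=
    (Subgroup.map_eq_bot_iff_of_injective _ (Subgroup.subtype_injective _)).mp (hbal b hb2)
  let K := (centralizer {b} : Subgroup G)
  let bK : K := ⟨b, mem_cent.mpr rfl⟩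
  let tK : K := ⟨t, mem_cent.mpr htb.symm⟩
  let Z : Subgroup K := Subgroup.zpowers bK
  have hZmem : ∀ y : K, y ∈ Z ↔ (y : G) = 1 ∨ (y : G) = b := by
    intro y
    have hbKo : orderOf bK = 2 := by rw [← Subgroup.orderOf_coe]; exact hb2
    constructor
    · intro hy
      obtain ⟨n, rfl⟩ := Subgroup.mem_zpowers_iff.mp hy
      rcases Int.even_or_odd' n with ⟨k, rfl | rfl⟩
      · left
        rw [zpow_mul, zpow_ofNat, pow_two]
        have : bK * bK = 1 := Subtype.ext hbb
        rw [this, one_zpow, Subgroup.coe_one]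
      · right
        rw [zpow_add, zpow_mul, zpow_ofNat, pow_two, zpow_one]
        have : bK * bK = 1 := Subtype.ext hbb
        rw [this, one_zpow, one_mul]
    · rintro (h | h)
      · have : y = 1 := Subtype.ext h
        rw [this]; exact Subgroup.one_mem _
      · have : y = bK := Subtype.ext h
        rw [this]; exact Subgroup.mem_zpowers _
  have hZc : Z ≤ center K := by
    rw [Subgroup.zpowers_le, Subgroup.mem_center_iff]
    intro y
    exact Subtype.ext (mem_cent.mp y.2)
  have hZn : Z.Normal := Cfsg.Agent.TwoFusion.IsolatedCenter.normal_of_le_center hZc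
  have hZcard : Nat.card Z = 2 := by
    change Nat.card (Subgroup.zpowers bK) = 2
    rw [Nat.card_zpowers, ← Subgroup.orderOf_coe]; exact hb2
  let π : K →* K ⧸ Z := QuotientGroup.mk' Z
  have hker : ∀ y : K, π y = 1 ↔ (y : G) = 1 ∨ (y : G) = b := by
    intro y
    rw [← hZmem, ← MonoidHom.mem_ker, QuotientGroup.ker_mk']
  let x : K ⧸ Z := π tK
  have hxx : x * x = 1 := by
    change π tK * π tK = 1
    rw [← map_mul]
    have : tK * tK = 1 := Subtype.ext htt
    rw [this, map_one]
  -- commuting with `x`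
  have hcomm : ∀ y : K, π y * x = x * π y → (y : G) * t = t * y := by
    intro y hy
    have h1 : π (y * tK * y⁻¹ * tK⁻¹) = 1 := by
      rw [map_mul, map_mul, map_mul, map_inv, map_inv]
      change π y * x * (π y)⁻¹ * x⁻¹ = 1
      rw [hy]; group
    rcases (hker _).mp h1 with h2 | h2
    · have h3 : (y : G) * t * (y : G)⁻¹ * t⁻¹ = 1 := h2
      calc (y : G) * t = (y : G) * t * (y : G)⁻¹ * t⁻¹ * (t * y) := by group
        _ = t * y := by rw [h3, one_mul]
    · exfalso
      have h3 : (y : G) * t * (y : G)⁻¹ * t⁻¹ = b := h2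
      apply hntb
      refine isConj_iff.mpr ⟨y, ?_⟩
      calc (y : G) * t * (y : G)⁻¹ = (y : G) * t * (y : G)⁻¹ * t⁻¹ * t := by group
        _ = t * b := by rw [h3, htb]
  have hfs : ∀ y : ↥(centralizer {a} : Subgroup B), ((f.symm (y : B) : G)) ∈ K := by
    intro y
    have h1 := mem_cent.mp y.2
    refine mem_cent.mpr ?_
    have h2 := congrArg (fun y => ((f.symm y : ↥(centralizer {t} : Subgroup G)) : G)) h1
    simp only [map_mul, Subgroup.coe_mul] at h2
    exact h2
  let φ : ↥(centralizer {a} : Subgroup B) →* K ⧸ Z :=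
    { toFun := fun y => π ⟨(f.symm (y : B) : G), hfs y⟩
      map_one' := by
        have : (⟨(f.symm ((1 : ↥(centralizer {a} : Subgroup B)) : B) : G), hfs 1⟩ : K) = 1 := by
          apply Subtype.ext
          simp
        rw [this, map_one]
      map_mul' := by
        intro y y'
        rw [← map_mul]
        congr 1
        apply Subtype.ext
        simp }
  have hφ : ∀ y : ↥(centralizer {a} : Subgroup B), φ y = π ⟨(f.symm (y : B) : G), hfs y⟩ :=
    fun _ => rfl
  have hrange : φ.range = centralizer {x} := by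
    apply le_antisymm
    · rintro _ ⟨y, rfl⟩
      rw [mem_cent, hφ]
      change π _ * π tK = π tK * π _
      rw [← map_mul, ← map_mul]
      congr 1
      apply Subtype.ext
      exact mem_cent.mp (f.symm (y : B)).2
    · intro w hw
      obtain ⟨y, rfl⟩ := QuotientGroup.mk'_surjective Z w
      have h1 := hcomm y (mem_cent.mp hw)
      have h2 : (y : G) ∈ (centralizer {t} : Subgroup G) := mem_cent.mpr h1
      have h3 : f ⟨(y : G), h2⟩ ∈ (centralizer {a} : Subgroup B) := by
        rw [mem_cent]
        apply f.symm.injective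
        apply Subtype.ext
        simp only [map_mul, Subgroup.coe_mul, MulEquiv.symm_apply_apply]
        exact mem_cent.mp y.2
      refine ⟨⟨f ⟨(y : G), h2⟩, h3⟩, ?_⟩
      rw [hφ]
      change π _ = π y
      congr 1
      apply Subtype.ext
      simp
  have hkφ : ∀ y : ↥(centralizer {a} : Subgroup B), φ y = 1 ↔ (y : B) = 1 ∨ (y : B) = a := by
    intro y
    rw [hφ, hker]
    change (f.symm (y : B) : G) = 1 ∨ (f.symm (y : B) : G) = b ↔ _
    constructor
    · rintro (h | h)
      · left
        have : f.symm (y : B) = 1 := Subtype.ext h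
        simpa using this
      · right
        exact f.symm.injective (Subtype.ext h)
    · rintro (h | h)
      · left; rw [h]; simp
      · right; rw [h]
  have hτφ : φ (τa F) = x := by
    rw [hφ]
    change π _ = π tK
    congr 1
    exact Subtype.ext hfτ
  have hiso := isol (K ⧸ Z) x φ hxx hrange hkφ hτφ
  have hIso := iso_of_isol hxx hiso
  have hgK : g ∈ K := mem_cent.mpr hg
  have hZs := Cfsg.Agent.S0215.iso_commutator x hIso (π ⟨g, hgK⟩)
  have hc1 : tK * ⟨g, hgK⟩ * tK⁻¹ * (⟨g, hgK⟩ : K)⁻¹ ∈
      (Cfsg.pPrimeCore 2 (K ⧸ Z)).comap (QuotientGroup.mk' Z) := by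
    rw [Subgroup.mem_comap, map_mul, map_mul, map_mul, map_inv, map_inv]
    exact hZs
  rw [core_quotient Z hZc hZcard hKcore, hZmem] at hc1
  rcases hc1 with h2 | h2
  · have h3 : t * g * t⁻¹ * g⁻¹ = 1 := h2
    calc g * t = (t * g * t⁻¹ * g⁻¹)⁻¹ * (t * g) := by group
      _ = t * g := by rw [h3]; group
  · exfalso
    have h3 : t * g * t⁻¹ * g⁻¹ = b := h2
    apply hntb
    refine isConj_iff.mpr ⟨g, ?_⟩
    rw [hti] at h3
    calc g * t * g⁻¹ = t * (t * g * t * g⁻¹) := by
          rw [← mul_assoc, ← mul_assoc, ← mul_assoc, htt, one_mul]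
      _ = t * b := by rw [h3]

/-- `(N1)` the fusion theorem. -/
theorem fusion (hbal : ∀ s : G, orderOf s = 2 → Cfsg.centralizerPPrimeCore 2 s = ⊥)
    (ht : orderOf t = 2) (f : ↥(centralizer {t} : Subgroup G) ≃* B) (hf : f ⟨t, t_mem⟩ = τ)
    (hn : ∃ g : G, g * t * g⁻¹ * t = t * (g * t * g⁻¹) ∧ g * t * g⁻¹ ≠ t)
    (isol : Isol.{u} F) : IsConj t (f.symm a : G) := by
  by_contra hna
  have htt : t * t = 1 := by rw [← pow_two, ← ht, pow_orderOf_eq_one]
  have ht1 : t ≠ 1 := by
    rintro rfl
    rw [orderOf_one] at ht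
    exact absurd ht (by norm_num)
  have hfτ : (f.symm τ : G) = t := by rw [← hf]; simp
  have hcomm_t : ∀ y : B, (f.symm y : G) * t = t * (f.symm y : G) := fun y => mem_cent.mp (f.symm y).2
  have hmul : ∀ y y' : B, (f.symm (y * y') : G) = (f.symm y : G) * (f.symm y' : G) := by
    intro y y'; rw [map_mul, Subgroup.coe_mul]
  have hinj : ∀ y y' : B, (f.symm y : G) = (f.symm y' : G) → y = y' := fun y y' h =>
    f.symm.injective (Subtype.ext h)
  have hconj : ∀ y y' : B, IsConj y y' → IsConj (f.symm y : G) (f.symm y' : G) := by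
    intro y y' h
    obtain ⟨c, hc⟩ := isConj_iff.mp h
    refine isConj_iff.mpr ⟨(f.symm c : G), ?_⟩
    rw [← hc, hmul, hmul, map_inv, Subgroup.coe_inv]
  -- lifting elements commuting with `t`
  have hlift : ∀ y : G, y * t = t * y → ∃ y' : B, (f.symm y' : G) = y := by
    intro y hy
    exact ⟨f ⟨y, mem_cent.mpr hy⟩, by simp⟩
  have hsq : ∀ y : B, (f.symm y : G) * (f.symm y : G) = 1 → y * y = 1 := by
    intro y hy
    apply hinj
    rw [hmul, hy]; simp
  have hcls : ∀ y : B, (f.symm y : G) * (f.symm y : G) = 1 → (f.symm y : G) ≠ 1 →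
      (f.symm y : G) ≠ t → IsConj a y ∨ IsConj z y ∨ IsConj (τ * z) y ∨ IsConj δ y := by
    intro y h1 h2 h3
    apply F.cls y (hsq y h1)
    · rintro rfl; exact h2 (by simp)
    · rintro rfl; exact h3 hfτ
  -- step (1)
  have step1 : IsConj t (f.symm z : G) ∨ IsConj t (f.symm (τ * z) : G) := by
    by_contra hcon
    push Not at hcon
    obtain ⟨hz, hτz⟩ := hcon
    have claim1 : ∀ y : B, IsConj t (f.symm y : G) → (f.symm y : G) ≠ t →
        IsConj δ y ∧ IsConj t (t * (f.symm y : G)) := by
      intro y hy hyt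
      have hyy : (f.symm y : G) * (f.symm y : G) = 1 := by
        obtain ⟨c, hc⟩ := isConj_iff.mp hy
        rw [← hc]
        calc c * t * c⁻¹ * (c * t * c⁻¹) = c * (t * t) * c⁻¹ := by group
          _ = 1 := by rw [htt]; group
      have hy1 : (f.symm y : G) ≠ 1 := by
        intro h
        rw [h] at hy
        exact ht1 (isConj_one_left.mp hy)
      rcases hcls y hyy hy1 hyt with h | h | h | h
      · exact absurd (hy.trans (hconj _ _ h).symm) hna
      · exact absurd (hy.trans (hconj _ _ h).symm) hz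
      · exact absurd (hy.trans (hconj _ _ h).symm) hτz
      · refine ⟨h, ?_⟩
        obtain ⟨c, hc⟩ := isConj_iff.mp h
        have h1 : IsConj (τ * δ) (τ * y) := by
          refine isConj_iff.mpr ⟨c, ?_⟩
          rw [← hc, ← mul_assoc, ← F.τ_comm c]
          group
        have h2 : IsConj y (τ * y) := h.symm.trans (F.δ_conj.trans h1)
        have h3 := hy.trans (hconj _ _ h2)
        rw [hmul, hfτ] at h3
        exact h3
    have claim2 : ∀ d d' : G, IsConj t d → IsConj t d' → d * d' = d' * d → d ≠ d' →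
        IsConj t (d * d') := by
      intro d d' hd hd' hdd hne
      obtain ⟨c, rfl⟩ := isConj_iff.mp hd
      have hy : (c⁻¹ * d' * c) * t = t * (c⁻¹ * d' * c) := by
        calc (c⁻¹ * d' * c) * t = c⁻¹ * (d' * (c * t * c⁻¹)) * c := by group
          _ = c⁻¹ * ((c * t * c⁻¹) * d') * c := by rw [hdd]
          _ = t * (c⁻¹ * d' * c) := by group
      obtain ⟨y, hy'⟩ := hlift _ hy
      have h1 : IsConj t (f.symm y : G) := by
        rw [hy']
        refine hd'.trans (isConj_iff.mpr ⟨c⁻¹, ?_⟩)
        group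
      have h2 : (f.symm y : G) ≠ t := by
        rw [hy']
        intro h
        apply hne
        rw [← h]; group
      have h3 := (claim1 y h1 h2).2
      rw [hy'] at h3
      refine h3.trans (isConj_iff.mpr ⟨c, ?_⟩)
      group
    -- `δ` is a conjugate of `t`
    obtain ⟨g, hg1, hg2⟩ := hn
    obtain ⟨y, hy⟩ := hlift _ hg1
    have hty : IsConj t (f.symm y : G) := by
      rw [hy]; exact isConj_iff.mpr ⟨g, rfl⟩
    have hδy := (claim1 y hty (by rw [hy]; exact hg2)).1
    have hδ : IsConj t (f.symm δ : G) := hty.trans (hconj _ _ hδy).symm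
    have hδz : IsConj t (f.symm (δ * z) : G) := hδ.trans (hconj _ _ F.δz_conj)
    have hδδ : δ * δ = 1 := by
      apply hsq
      obtain ⟨c, hc⟩ := isConj_iff.mp hδ
      rw [← hc]
      calc c * t * c⁻¹ * (c * t * c⁻¹) = c * (t * t) * c⁻¹ := by group
        _ = 1 := by rw [htt]; group
    have h1 := claim2 _ _ hδ hδz (by
      rw [← hmul, ← hmul, mul_assoc, ← F.δz]) (by
      intro h
      have h2 := hinj _ _ h
      exact F.z_ne_one (mul_left_cancel ((mul_one δ).trans h2)).symm)
    rw [← hmul, ← mul_assoc, hδδ, one_mul] at h1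
    exact hz h1
  -- step (2)
  have hcent : ∀ g : G, g * (f.symm a : G) = (f.symm a : G) * g → g * t = t * g :=
    cent_le F hbal ht f hf isol hna
  have card1 : ∀ y : B, Nat.card (centralizer {y} : Subgroup B) =
      Nat.card {g : G // g * t = t * g ∧ g * (f.symm y : G) = (f.symm y : G) * g} := by
    intro y
    refine Nat.card_congr ⟨fun w => ⟨(f.symm (w : B) : G), hcomm_t _, ?_⟩,
      fun g => ⟨f ⟨g.1, mem_cent.mpr g.2.1⟩, ?_⟩, ?_, ?_⟩
    · rw [← hmul, ← hmul, mem_cent.mp w.2]
    · rw [mem_cent]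
      apply hinj
      rw [hmul, hmul]
      simpa using g.2.2
    · intro w
      apply Subtype.ext
      simp
    · intro g
      apply Subtype.ext
      simp
  have card2 : Nat.card (centralizer {a, z} : Subgroup B) =
      Nat.card {g : G // g * t = t * g ∧ g * (f.symm a : G) = (f.symm a : G) * g ∧
        g * (f.symm z : G) = (f.symm z : G) * g} := by
    refine Nat.card_congr ⟨fun w => ⟨(f.symm (w : B) : G), hcomm_t _, ?_, ?_⟩,
      fun g => ⟨f ⟨g.1, mem_cent.mpr g.2.1⟩, ?_⟩, ?_, ?_⟩
    · rw [← hmul, ← hmul, (mem_cent2.mp w.2).1]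
    · rw [← hmul, ← hmul, (mem_cent2.mp w.2).2]
    · rw [mem_cent2]
      constructor
      · apply hinj
        rw [hmul, hmul]
        simpa using g.2.2.1
      · apply hinj
        rw [hmul, hmul]
        simpa using g.2.2.2
    · intro w
      apply Subtype.ext
      simp
    · intro g
      apply Subtype.ext
      simp
  have key : ∀ d : B, IsConj t (f.symm d : G) → a ≠ d → a * d = d * a →
      (∀ g : G, g * t = t * g → (g * (f.symm d : G) = (f.symm d : G) * g ↔
        g * (f.symm z : G) = (f.symm z : G) * g)) → False := by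
    intro d hd had hadc hdz
    obtain ⟨c, hc⟩ := isConj_iff.mp hd
    have hda : (f.symm a : G) * (f.symm d : G) = (f.symm d : G) * (f.symm a : G) := by
      rw [← hmul, ← hmul, hadc]
    have hy : (c⁻¹ * (f.symm a : G) * c) * t = t * (c⁻¹ * (f.symm a : G) * c) := by
      calc (c⁻¹ * (f.symm a : G) * c) * t = c⁻¹ * ((f.symm a : G) * (c * t * c⁻¹)) * c := by group
        _ = c⁻¹ * ((c * t * c⁻¹) * (f.symm a : G)) * c := by rw [hc, hda]
        _ = t * (c⁻¹ * (f.symm a : G) * c) := by group
    obtain ⟨y, hy'⟩ := hlift _ hy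
    have haa : (f.symm a : G) * (f.symm a : G) = 1 := by
      rw [← hmul, F.a_sq]; simp
    have hτ1 : τ ≠ 1 := by
      intro h
      rw [← hfτ, h] at ht1
      exact ht1 (by simp)
    have hyc := hcls y (by
        rw [hy']
        calc c⁻¹ * (f.symm a : G) * c * (c⁻¹ * (f.symm a : G) * c) =
            c⁻¹ * ((f.symm a : G) * (f.symm a : G)) * c := by group
          _ = 1 := by rw [haa]; group) (by
        rw [hy']
        intro h
        apply F.a_ne_one hτ1
        apply hinj
        calc (f.symm a : G) = c * (c⁻¹ * (f.symm a : G) * c) * c⁻¹ := by group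
          _ = (f.symm (1 : B) : G) := by rw [h]; simp) (by
        rw [hy']
        intro h
        apply had
        apply hinj
        refine Eq.trans ?_ hc
        calc (f.symm a : G) = c * (c⁻¹ * (f.symm a : G) * c) * c⁻¹ := by group
          _ = c * t * c⁻¹ := congrArg (fun w => c * w * c⁻¹) h)
    -- the order of the centraliser
    have hcard : Nat.card (centralizer {y} : Subgroup B) =
        Nat.card (centralizer {a, z} : Subgroup B) := by
      rw [card1, card2]
      refine Nat.card_congr ((MulAut.conj c).toEquiv.subtypeEquiv fun g => ?_)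
      change _ ↔ (c * g * c⁻¹) * t = t * (c * g * c⁻¹) ∧
        (c * g * c⁻¹) * (f.symm a : G) = (f.symm a : G) * (c * g * c⁻¹) ∧
        (c * g * c⁻¹) * (f.symm z : G) = (f.symm z : G) * (c * g * c⁻¹)
      have e1 : g * t = t * g ↔
          (c * g * c⁻¹) * (f.symm d : G) = (f.symm d : G) * (c * g * c⁻¹) := by
        rw [← hc]
        constructor
        · intro h
          calc c * g * c⁻¹ * (c * t * c⁻¹) = c * (g * t) * c⁻¹ := by group
            _ = c * (t * g) * c⁻¹ := by rw [h]
            _ = c * t * c⁻¹ * (c * g * c⁻¹) := by group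
        · intro h
          calc g * t = c⁻¹ * (c * g * c⁻¹ * (c * t * c⁻¹)) * c := by group
            _ = c⁻¹ * (c * t * c⁻¹ * (c * g * c⁻¹)) * c := by rw [h]
            _ = t * g := by group
      have e2 : g * (f.symm y : G) = (f.symm y : G) * g ↔
          (c * g * c⁻¹) * (f.symm a : G) = (f.symm a : G) * (c * g * c⁻¹) := by
        rw [hy']
        constructor
        · intro h
          calc c * g * c⁻¹ * (f.symm a : G) = c * (g * (c⁻¹ * (f.symm a : G) * c)) * c⁻¹ := by group
            _ = c * (c⁻¹ * (f.symm a : G) * c * g) * c⁻¹ := by rw [h]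
            _ = (f.symm a : G) * (c * g * c⁻¹) := by group
        · intro h
          calc g * (c⁻¹ * (f.symm a : G) * c) = c⁻¹ * (c * g * c⁻¹ * (f.symm a : G)) * c := by group
            _ = c⁻¹ * ((f.symm a : G) * (c * g * c⁻¹)) * c := by rw [h]
            _ = c⁻¹ * (f.symm a : G) * c * g := by group
      rw [e1, e2]
      constructor
      · rintro ⟨h1, h2⟩
        have h3 := hcent _ h2
        exact ⟨h3, h2, (hdz _ h3).mp h1⟩
      · rintro ⟨h1, h2, h3⟩
        exact ⟨(hdz _ h1).mpr h3, h2⟩
    rcases hyc with h | h | h | h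
    · exact F.card_a (hcard.symm.trans (card_cent_conj h).symm)
    · exact F.card_z (hcard.symm.trans (card_cent_conj h).symm)
    · refine F.card_z (hcard.symm.trans ((card_cent_conj h).symm.trans ?_))
      congr 2
      ext w
      rw [mem_cent, mem_cent]
      have e : w * (τ * z) = τ * (w * z) := by rw [← mul_assoc, ← F.τ_comm w, mul_assoc]
      rw [e, mul_assoc]
      exact ⟨fun h => mul_left_cancel h, fun h => by rw [h]⟩
    · exact F.card_δ (hcard.symm.trans (card_cent_conj h).symm)
  rcases step1 with h | h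
  · exact key z h F.a_ne_z F.az fun g _ => Iff.rfl
  · refine key (τ * z) h F.a_ne_τz ?_ fun g hg => ?_
    · rw [← mul_assoc, ← F.τ_comm a, mul_assoc, F.az, mul_assoc]
    · rw [hmul, hfτ]
      have e : g * (t * (f.symm z : G)) = t * (g * (f.symm z : G)) := by
        rw [← mul_assoc, hg, mul_assoc]
      rw [e, mul_assoc]
      exact ⟨fun h => mul_left_cancel h, fun h => by rw [h]⟩

end main

end Cfsg.Agent.MonsterN.Fusion
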