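import Mathlib

/-!
# S1737: the involution `t` with `C_G(t) = 2.B` is conjugate to an involution of type `2A`

A version of the fusion step which needs only facts on the double cover `B` of the Baby Monster
(structure `FactsS`): no recognition theorem and no local balance.

`τ` is the central involution of `B = C_M(τ)`, `a` an involution such that `a` and `τ a` are of type `2A`,
`z` of type `2B` with `τ z` of type `2A`, and `δ` such that `δ` and `τ δ` are of type `2B`.

Suppose that `t` is not conjugate to `a`.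
(1) `t` is not conjugate to `δ`: otherwise an element of `G` swaps `t` and `δ` and normalises a subgroup `⟨h⟩` of
    order `7` of `C_B(δ)`, but `δ` is a square in `C_B(δ, h)` and `τ` is not.
(2) so all conjugates `≠ t` of `t` in `C_G(t)` are conjugate to `z` or `τ z` in `C_G(t)`; products of commuting
    conjugates give a contradiction.
-/

set_option autoImplicit false

open Subgroup

namespace Cfsg.Agent.MonsterN.FusionSq

/-- The facts on the group `B = 2.B` used in the fusion argument. -/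
structure FactsS (B : Type*) [Group B] (τ a z δ h : B) : Prop where
  τ_comm : ∀ x, τ * x = x * τ
  cls : ∀ x : B, x * x = 1 → x ≠ 1 → x ≠ τ →
    IsConj a x ∨ IsConj z x ∨ IsConj (τ * z) x ∨ IsConj δ x
  card_az : Nat.card (centralizer {a} : Subgroup B) ≠ Nat.card (centralizer {z} : Subgroup B)
  card_δa : Nat.card (centralizer {δ} : Subgroup B) ≠ Nat.card (centralizer {a} : Subgroup B)
  card_δz : Nat.card (centralizer {δ} : Subgroup B) ≠ Nat.card (centralizer {z} : Subgroup B)
  card_δ : ¬ 49 ∣ Nat.card (centralizer {δ} : Subgroup B)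
  δ_ne : δ ≠ 1
  h_ne : h ≠ 1
  h_pow : h ^ 7 = 1
  hδ : h * δ = δ * h
  sq_δ : ∃ u : B, u * δ = δ * u ∧ u * h = h * u ∧ u * u = δ
  sq_τ : ∀ u : B, u * δ = δ * u → u * h = h * u → u * u ≠ τ
  prod1 : ∃ y y' : B, y * y' = y' * y ∧ IsConj (τ * z) y ∧ IsConj (τ * z) y' ∧ IsConj (τ * z) (y * y')
  prod2 : ∃ y y' : B, y * y' = y' * y ∧ IsConj z y ∧ IsConj z y' ∧ IsConj z (y * y')
  prod3 : ∃ y y' : B, y * y' = y' * y ∧ (IsConj z y ∨ IsConj (τ * z) y) ∧
    (IsConj z y' ∨ IsConj (τ * z) y') ∧ IsConj δ (y * y')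

/-- `ι` identifies `B` with the centraliser of the involution `t`. -/
structure Emb {G B : Type*} [Group G] [Group B] (ι : B →* G) (t : G) (τ : B) : Prop where
  inj : Function.Injective ι
  tau : ι τ = t
  mem : ∀ g : G, g * t = t * g → ∃ b, ι b = g
  comm : ∀ b : B, ι b * t = t * ι b
  tt : t * t = 1
  ne : t ≠ 1

section general

variable {G : Type*} [Group G]

theorem mem_cent {x y : G} : y ∈ (centralizer {x} : Subgroup G) ↔ y * x = x * y := by
  rw [mem_centralizer_singleton_iff]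

/-- Conjugate elements have centralisers of the same order. -/
theorem card_cent_conj {x y : G} (h : IsConj x y) :
    Nat.card (centralizer {x} : Subgroup G) = Nat.card (centralizer {y} : Subgroup G) := by
  obtain ⟨c, hc⟩ := isConj_iff.mp h
  refine Nat.card_congr ((MulAut.conj c).toEquiv.subtypeEquiv fun g => ?_)
  rw [mem_cent, mem_cent]
  change _ ↔ (c * g * c⁻¹) * y = y * (c * g * c⁻¹)
  rw [← hc]
  constructor
  · intro hg
    calc c * g * c⁻¹ * (c * x * c⁻¹) = c * (g * x) * c⁻¹ := by group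
      _ = c * (x * g) * c⁻¹ := by rw [hg]
      _ = c * x * c⁻¹ * (c * g * c⁻¹) := by group
  · intro hg
    have h1 : c * (g * x) * c⁻¹ = c * (x * g) * c⁻¹ := by
      calc c * (g * x) * c⁻¹ = c * g * c⁻¹ * (c * x * c⁻¹) := by group
        _ = c * x * c⁻¹ * (c * g * c⁻¹) := hg
        _ = c * (x * g) * c⁻¹ := by group
    exact mul_left_cancel (mul_right_cancel h1)

theorem comm_conj_iff (c g x : G) : (c * g * c⁻¹) * (c * x * c⁻¹) = (c * x * c⁻¹) * (c * g * c⁻¹) ↔
    g * x = x * g := by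
  constructor
  · intro h
    have h1 : c * (g * x) * c⁻¹ = c * (x * g) * c⁻¹ := by
      calc c * (g * x) * c⁻¹ = (c * g * c⁻¹) * (c * x * c⁻¹) := by group
        _ = (c * x * c⁻¹) * (c * g * c⁻¹) := h
        _ = c * (x * g) * c⁻¹ := by group
    exact mul_left_cancel (mul_right_cancel h1)
  · intro h
    calc (c * g * c⁻¹) * (c * x * c⁻¹) = c * (g * x) * c⁻¹ := by group
      _ = c * (x * g) * c⁻¹ := by rw [h]
      _ = (c * x * c⁻¹) * (c * g * c⁻¹) := by group

/-- Two elements of order seven of a finite group whose order is not divisible by `49` generate conjugate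
subgroups. -/
theorem conj_seven [Finite G] {h k : G} (hc : ¬ 49 ∣ Nat.card G) (hh : h ≠ 1) (h7 : h ^ 7 = 1)
    (hk : k ≠ 1) (k7 : k ^ 7 = 1) : ∃ n : G, n * k * n⁻¹ ∈ zpowers h := by
  have : Fact (Nat.Prime 7) := ⟨by norm_num⟩
  have key : ∀ x : G, x ≠ 1 → x ^ 7 = 1 → ∃ P : Sylow 7 G, (P : Subgroup G) = zpowers x := by
    intro x hx x7
    have hox : orderOf x = 7 := orderOf_eq_prime x7 hx
    have hcard : Nat.card (zpowers x) = 7 := by rw [Nat.card_zpowers, hox]
    have hp : IsPGroup 7 (zpowers x) := IsPGroup.of_card (n := 1) (by rw [hcard]; norm_num)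
    obtain ⟨P, hP⟩ := hp.exists_le_sylow
    refine ⟨P, (Subgroup.eq_of_le_of_card_ge hP ?_).symm⟩
    obtain ⟨n, hn⟩ := IsPGroup.iff_card.mp P.2
    have hdiv : Nat.card (P : Subgroup G) ∣ Nat.card G := Subgroup.card_subgroup_dvd_card _
    have hn1 : n ≤ 1 := by
      by_contra hcon
      push Not at hcon
      apply hc
      refine dvd_trans ?_ hdiv
      rw [hn]
      exact ⟨7 ^ (n - 2), by
        rw [show (49 : ℕ) = 7 ^ 2 by norm_num, ← pow_add]
        congr 1
        omega⟩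
    rw [hn, hcard]
    calc 7 ^ n ≤ 7 ^ 1 := Nat.pow_le_pow_right (by norm_num) hn1
      _ = 7 := by norm_num
  obtain ⟨P, hP⟩ := key h hh h7
  obtain ⟨Q, hQ⟩ := key k hk k7
  obtain ⟨n, hn⟩ := MulAction.exists_smul_eq G Q P
  refine ⟨n, ?_⟩
  have h1 : k ∈ (Q : Subgroup G) := by rw [hQ]; exact mem_zpowers k
  have h2 : n * k * n⁻¹ ∈ ((n • Q : Sylow 7 G) : Subgroup G) := by
    rw [Sylow.coe_subgroup_smul, Subgroup.mem_smul_pointwise_iff_exists]
    exact ⟨k, h1, rfl⟩
  rw [hn, hP] at h2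
  exact h2

end general

section main

variable {G B : Type*} [Group G] [Group B] {ι : B →* G} {t : G} {τ a z δ h : B}

theorem Emb.conj (_E : Emb ι t τ) {x y : B} (h : IsConj x y) : IsConj (ι x) (ι y) := by
  obtain ⟨c, hc⟩ := isConj_iff.mp h
  exact isConj_iff.mpr ⟨ι c, by rw [← hc, map_mul, map_mul, map_inv]⟩

theorem Emb.sq (E : Emb ι t τ) {x : B} (h : ι x * ι x = 1) : x * x = 1 :=
  E.inj (by rw [map_mul, h, map_one])

theorem Emb.dsq (E : Emb ι t τ) {d : G} (h : IsConj t d) : d * d = 1 := by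
  obtain ⟨c, rfl⟩ := isConj_iff.mp h
  calc c * t * c⁻¹ * (c * t * c⁻¹) = c * (t * t) * c⁻¹ := by group
    _ = 1 := by rw [E.tt]; group

theorem Emb.dne (E : Emb ι t τ) {d : G} (h : IsConj t d) : d ≠ 1 := by
  rintro rfl
  exact E.ne (isConj_one_left.mp h)

theorem Emb.ττ (E : Emb ι t τ) : τ * τ = 1 := E.sq (by rw [E.tau, E.tt])

/-- The classes of the conjugates of `t` in `C_G(t)`. -/
theorem Emb.cls (E : Emb ι t τ) (F : FactsS B τ a z δ h) {x : B} (hx : IsConj t (ι x)) (hne : ι x ≠ t) :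
    IsConj a x ∨ IsConj z x ∨ IsConj (τ * z) x ∨ IsConj δ x := by
  refine F.cls x (E.sq (E.dsq hx)) ?_ ?_
  · rintro rfl; exact E.dne hx (map_one ι)
  · rintro rfl; exact hne E.tau

/-- The order of the centraliser, computed in `G`. -/
theorem Emb.card (E : Emb ι t τ) (x : B) : Nat.card (centralizer {x} : Subgroup B) =
    Nat.card {g : G // g * t = t * g ∧ g * ι x = ι x * g} := by
  refine Nat.card_congr (Equiv.ofBijective (fun w => ⟨ι (w : B), E.comm _, ?_⟩) ⟨?_, ?_⟩)
  · rw [← map_mul, ← map_mul, mem_cent.mp w.2]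
  · intro w w' hw
    exact Subtype.ext (E.inj (congrArg (fun g => (g : G)) (Subtype.ext_iff.mp hw)))
  · rintro ⟨g, h1, h2⟩
    obtain ⟨b, rfl⟩ := E.mem g h1
    refine ⟨⟨b, mem_cent.mpr (E.inj ?_)⟩, rfl⟩
    rw [map_mul, map_mul, h2]

/-- If `x` is a conjugate of `t` in `C_G(t)` whose class in `C_G(t)` is determined by the order of the centraliser, then
an element of `G` swaps `t` and `x`. -/
theorem Emb.swap (E : Emb ι t τ) (F : FactsS B τ a z δ h) {x : B} (hx : IsConj t (ι x)) (hne : ι x ≠ t)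
    (huniq : ∀ y : B, (IsConj a y ∨ IsConj z y ∨ IsConj (τ * z) y ∨ IsConj δ y) →
      Nat.card (centralizer {y} : Subgroup B) = Nat.card (centralizer {x} : Subgroup B) → IsConj x y) :
    ∃ g : G, g * t * g⁻¹ = ι x ∧ g * ι x * g⁻¹ = t := by
  obtain ⟨g, hg⟩ := isConj_iff.mp hx
  have h1 : (g⁻¹ * t * g) * t = t * (g⁻¹ * t * g) := by
    calc (g⁻¹ * t * g) * t = g⁻¹ * (t * (g * t * g⁻¹)) * g := by group
      _ = g⁻¹ * ((g * t * g⁻¹) * t) * g := by rw [hg, ← E.comm x]
      _ = t * (g⁻¹ * t * g) := by group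
  obtain ⟨y, hy⟩ := E.mem _ h1
  have hty : IsConj t (ι y) := by
    rw [hy]; exact isConj_iff.mpr ⟨g⁻¹, by group⟩
  have hyt : ι y ≠ t := by
    rw [hy]
    intro h
    apply hne
    rw [← hg]
    calc g * t * g⁻¹ = g * (g⁻¹ * t * g) * g⁻¹ := by rw [h]
      _ = t := by group
  have hcard : Nat.card (centralizer {y} : Subgroup B) = Nat.card (centralizer {x} : Subgroup B) := by
    rw [E.card, E.card]
    refine Nat.card_congr ((MulAut.conj g).toEquiv.subtypeEquiv fun k => ?_)
    change _ ↔ (g * k * g⁻¹) * t = t * (g * k * g⁻¹) ∧ (g * k * g⁻¹) * ι x = ι x * (g * k * g⁻¹)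
    have e1 : k * ι y = ι y * k ↔ (g * k * g⁻¹) * t = t * (g * k * g⁻¹) := by
      have := comm_conj_iff g k (g⁻¹ * t * g)
      rw [hy, ← this]
      have e : g * (g⁻¹ * t * g) * g⁻¹ = t := by group
      rw [e]
    have e2 : k * t = t * k ↔ (g * k * g⁻¹) * ι x = ι x * (g * k * g⁻¹) := by
      rw [← hg, comm_conj_iff]
    rw [e1, e2, and_comm]
  obtain ⟨c, hc⟩ := isConj_iff.mp (huniq y (E.cls F hty hyt) hcard)
  refine ⟨g * ι c, ?_, ?_⟩
  · rw [← hg, mul_inv_rev]
    calc g * ι c * t * ((ι c)⁻¹ * g⁻¹) = g * (ι c * t) * (ι c)⁻¹ * g⁻¹ := by group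
      _ = g * (t * ι c) * (ι c)⁻¹ * g⁻¹ := by rw [E.comm c]
      _ = g * t * g⁻¹ := by group
  · calc g * ι c * ι x * (g * ι c)⁻¹ = g * (ι c * ι x * (ι c)⁻¹) * g⁻¹ := by group
      _ = g * ι (c * x * c⁻¹) * g⁻¹ := by rw [map_mul, map_mul, map_inv]
      _ = g * (g⁻¹ * t * g) * g⁻¹ := by rw [hc, hy]
      _ = t := by group

theorem FactsS.card_τz (F : FactsS B τ a z δ h) :
    Nat.card (centralizer {τ * z} : Subgroup B) = Nat.card (centralizer {z} : Subgroup B) := by
  congr 2
  ext y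
  rw [mem_cent, mem_cent]
  constructor
  · intro h
    have h1 : τ * (y * z) = τ * (z * y) := by
      calc τ * (y * z) = (τ * y) * z := by group
        _ = y * (τ * z) := by rw [F.τ_comm y]; group
        _ = τ * z * y := h
        _ = τ * (z * y) := by group
    exact mul_left_cancel h1
  · intro h
    calc y * (τ * z) = (y * τ) * z := by group
      _ = τ * (y * z) := by rw [← F.τ_comm y, mul_assoc]
      _ = τ * z * y := by rw [h]; group

/-- Step (1): `t` is not conjugate to `δ`. -/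
theorem Emb.not_delta [Finite G] (E : Emb ι t τ) (F : FactsS B τ a z δ h) : ¬ IsConj t (ι δ) := by
  intro hδ
  have hne : ι δ ≠ t := by
    intro he
    obtain ⟨u, h1, h2, h3⟩ := F.sq_δ
    refine F.sq_τ u h1 h2 ?_
    rw [h3]
    exact E.inj (he.trans E.tau.symm)
  obtain ⟨g, hg1, hg2⟩ := E.swap F hδ hne (by
    rintro y (hy | hy | hy | hy) hc
    · rw [← card_cent_conj hy] at hc; exact absurd hc.symm F.card_δa
    · rw [← card_cent_conj hy] at hc; exact absurd hc.symm F.card_δz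
    · rw [← card_cent_conj hy, F.card_τz] at hc; exact absurd hc.symm F.card_δz
    · exact hy)
  -- the group `N = C_G(t, δ)`
  let N : Subgroup G := centralizer {t} ⊓ centralizer {ι δ}
  have memN : ∀ x : G, x ∈ N ↔ x * t = t * x ∧ x * ι δ = ι δ * x := fun x => by
    rw [Subgroup.mem_inf, mem_cent, mem_cent]
  have hNcard : Nat.card N = Nat.card (centralizer {δ} : Subgroup B) := by
    rw [E.card]
    exact Nat.card_congr (Equiv.subtypeEquivRight memN)
  have hN49 : ¬ 49 ∣ Nat.card N := by rw [hNcard]; exact F.card_δ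
  have hhN : ι h ∈ N := (memN _).2 ⟨E.comm h, by rw [← map_mul, F.hδ, map_mul]⟩
  have hhN' : g * ι h * g⁻¹ ∈ N := by
    rw [memN]
    obtain ⟨h1, h2⟩ := (memN _).1 hhN
    constructor
    · rw [← comm_conj_iff g, hg2] at h2
      exact h2
    · rw [← comm_conj_iff g, hg1] at h1
      exact h1
  have hh1 : (⟨ι h, hhN⟩ : N) ≠ 1 := by
    intro he
    apply F.h_ne
    apply E.inj
    rw [map_one]
    exact congrArg Subtype.val he
  have hh7 : (⟨ι h, hhN⟩ : N) ^ 7 = 1 := by
    apply Subtype.ext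
    rw [Subgroup.coe_pow, Subgroup.coe_one]
    change (ι h) ^ 7 = 1
    rw [← map_pow, F.h_pow, map_one]
  obtain ⟨n, hn⟩ := conj_seven (G := N) (h := ⟨ι h, hhN⟩) (k := ⟨g * ι h * g⁻¹, hhN'⟩) hN49 hh1 hh7 (by
    intro he
    apply hh1
    apply Subtype.ext
    have h1 : g * ι h * g⁻¹ = 1 := congrArg Subtype.val he
    change ι h = 1
    calc ι h = g⁻¹ * (g * ι h * g⁻¹) * g := by group
      _ = 1 := by rw [h1]; group) (by
    apply Subtype.ext
    rw [Subgroup.coe_pow, Subgroup.coe_one]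
    change (g * ι h * g⁻¹) ^ 7 = 1
    rw [conj_pow, ← map_pow, F.h_pow, map_one]; group)
  obtain ⟨k, hk⟩ := Subgroup.mem_zpowers_iff.mp hn
  -- the element `c = n g`
  have hk' : (ι h) ^ k = (n : G) * (g * ι h * g⁻¹) * (n : G)⁻¹ := by
    have := congrArg (fun w : N => (w : G)) hk
    simpa using this
  set c : G := n * g with hcdef
  obtain ⟨n1, n2⟩ := (memN _).1 n.2
  have hc1 : c * t * c⁻¹ = ι δ := by
    calc c * t * c⁻¹ = n * (g * t * g⁻¹) * (n : G)⁻¹ := by rw [hcdef]; group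
      _ = n * ι δ * (n : G)⁻¹ := by rw [hg1]
      _ = ι δ := by rw [n2]; group
  have hc2 : c * ι δ * c⁻¹ = t := by
    calc c * ι δ * c⁻¹ = n * (g * ι δ * g⁻¹) * (n : G)⁻¹ := by rw [hcdef]; group
      _ = n * t * (n : G)⁻¹ := by rw [hg2]
      _ = t := by rw [n1]; group
  have hc3 : c * ι h * c⁻¹ = (ι h) ^ k := by
    rw [hk', hcdef]; group
  -- `k` is invertible modulo 7
  have hgen : ∀ x : G, x * (ι h) ^ k = (ι h) ^ k * x → x * ι h = ι h * x := by
    intro x hx
    -- `h` is a power of `h ^ k`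
    have h7 : (ι h) ^ (7 : ℤ) = 1 := by
      have : (ι h) ^ 7 = 1 := by rw [← map_pow, F.h_pow, map_one]
      exact_mod_cast this
    have hcop : Int.gcd k 7 = 1 := by
      have hp : Nat.Prime 7 := by norm_num
      rcases Nat.coprime_or_dvd_of_prime hp k.natAbs with h' | h'
      · rw [Int.gcd_eq_natAbs]
        exact Nat.Coprime.symm h'
      · exfalso
        obtain ⟨m, hm⟩ : (7 : ℤ) ∣ k := by
          rw [← Int.natAbs_dvd_natAbs]; exact h'
        rw [hm, zpow_mul, h7, one_zpow] at hc3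
        apply F.h_ne
        apply E.inj
        rw [map_one]
        calc ι h = c⁻¹ * (c * ι h * c⁻¹) * c := by group
          _ = 1 := by rw [hc3]; group
    have hb := Int.gcd_eq_gcd_ab k 7
    rw [hcop] at hb
    have hpow : ι h = ((ι h) ^ k) ^ (Int.gcdA k 7) := by
      have : (ι h) ^ ((1 : ℕ) : ℤ) = (ι h) ^ (k * Int.gcdA k 7 + 7 * Int.gcdB k 7) := by rw [hb]
      rw [zpow_add, zpow_mul, zpow_mul, h7, one_zpow, mul_one] at this
      simpa using this
    have hcomm : Commute x ((ι h) ^ k) := hx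
    have := hcomm.zpow_right (Int.gcdA k 7)
    rw [← hpow] at this
    exact this
  obtain ⟨u, hu1, hu2, hu3⟩ := F.sq_δ
  have hut : ι u * t = t * ι u := E.comm u
  have huδ : ι u * ι δ = ι δ * ι u := by rw [← map_mul, hu1, map_mul]
  have huh : ι u * ι h = ι h * ι u := by rw [← map_mul, hu2, map_mul]
  have hv1 : (c * ι u * c⁻¹) * t = t * (c * ι u * c⁻¹) := by
    rw [← comm_conj_iff c, hc2] at huδ
    exact huδ
  have hv2 : (c * ι u * c⁻¹) * ι δ = ι δ * (c * ι u * c⁻¹) := by
    rw [← comm_conj_iff c, hc1] at hut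
    exact hut
  have hv3 : (c * ι u * c⁻¹) * ι h = ι h * (c * ι u * c⁻¹) := by
    apply hgen
    rw [← hc3, comm_conj_iff]
    exact huh
  have hv4 : (c * ι u * c⁻¹) * (c * ι u * c⁻¹) = t := by
    calc (c * ι u * c⁻¹) * (c * ι u * c⁻¹) = c * (ι u * ι u) * c⁻¹ := by group
      _ = c * ι δ * c⁻¹ := by rw [← map_mul, hu3]
      _ = t := hc2
  obtain ⟨v, hv⟩ := E.mem _ hv1
  refine F.sq_τ v (E.inj ?_) (E.inj ?_) (E.inj ?_)
  · rw [map_mul, map_mul, hv, hv2]
  · rw [map_mul, map_mul, hv, hv3]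
  · rw [map_mul, hv, hv4, E.tau]

/-- The fusion theorem. -/
theorem Emb.fusion [Finite G] (E : Emb ι t τ) (F : FactsS B τ a z δ h)
    (hn : ∃ g : G, g * t * g⁻¹ * t = t * (g * t * g⁻¹) ∧ g * t * g⁻¹ ≠ t) : IsConj t (ι a) := by
  by_contra hna
  have hnδ := E.not_delta F
  -- classes of conjugates
  have claim1 : ∀ x : B, IsConj t (ι x) → ι x ≠ t → IsConj z x ∨ IsConj (τ * z) x := by
    intro x hx hxt
    rcases E.cls F hx hxt with h | h | h | h
    · exact absurd (hx.trans (E.conj h).symm) hna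
    · exact Or.inl h
    · exact Or.inr h
    · exact absurd (hx.trans (E.conj h).symm) hnδ
  have mulτ : ∀ x y : B, IsConj x y → IsConj (τ * x) (τ * y) := by
    intro x y hxy
    obtain ⟨c, hc⟩ := isConj_iff.mp hxy
    refine isConj_iff.mpr ⟨c, ?_⟩
    rw [← hc, ← mul_assoc, ← F.τ_comm c]
    group
  have hττz : τ * (τ * z) = z := by rw [← mul_assoc, E.ττ, one_mul]
  -- products
  have claim2 : ∀ d d' : G, IsConj t d → IsConj t d' → d * d' = d' * d → d ≠ d' →
      (IsConj t (ι z) ∧ IsConj (ι (τ * z)) (d * d')) ∨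
      (IsConj t (ι (τ * z)) ∧ IsConj (ι z) (d * d')) := by
    intro d d' hd hd' hdd hne
    obtain ⟨c, rfl⟩ := isConj_iff.mp hd
    have hy : (c⁻¹ * d' * c) * t = t * (c⁻¹ * d' * c) := by
      calc (c⁻¹ * d' * c) * t = c⁻¹ * (d' * (c * t * c⁻¹)) * c := by group
        _ = c⁻¹ * ((c * t * c⁻¹) * d') * c := by rw [hdd]
        _ = t * (c⁻¹ * d' * c) := by group
    obtain ⟨y, hy'⟩ := E.mem _ hy
    have h1 : IsConj t (ι y) := by
      rw [hy']
      refine hd'.trans (isConj_iff.mpr ⟨c⁻¹, ?_⟩)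
      group
    have h2 : ι y ≠ t := by
      rw [hy']
      intro h
      apply hne
      rw [← h]; group
    have h3 : IsConj (ι (τ * y)) (c * t * c⁻¹ * d') := by
      refine isConj_iff.mpr ⟨c, ?_⟩
      rw [map_mul, E.tau, hy']; group
    rcases claim1 y h1 h2 with h | h
    · exact Or.inl ⟨h1.trans (E.conj h).symm, (E.conj (mulτ _ _ h)).trans h3⟩
    · refine Or.inr ⟨h1.trans (E.conj h).symm, ?_⟩
      have h4 := mulτ _ _ h
      rw [hττz] at h4
      exact (E.conj h4).trans h3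
  obtain ⟨g, hg1, hg2⟩ := hn
  obtain ⟨y0, hy0⟩ := E.mem _ hg1
  have hty0 : IsConj t (ι y0) := by rw [hy0]; exact isConj_iff.mpr ⟨g, rfl⟩
  have hor : IsConj t (ι z) ∨ IsConj t (ι (τ * z)) := by
    rcases claim1 y0 hty0 (by rw [hy0]; exact hg2) with h | h
    · exact Or.inl (hty0.trans (E.conj h).symm)
    · exact Or.inr (hty0.trans (E.conj h).symm)
  have hne_of : ∀ y y' x : B, IsConj t (ι y) → IsConj x (y * y') → x ≠ 1 → ι y ≠ ι y' := by
    intro y y' x hy hx hx1 he
    have h1 : y = y' := E.inj he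
    subst h1
    have h2 : y * y = 1 := E.sq (E.dsq hy)
    rw [h2] at hx
    exact hx1 (isConj_one_left.mp hx)
  by_cases hz : IsConj t (ι z)
  · by_cases hτz : IsConj t (ι (τ * z))
    · -- both classes
      obtain ⟨y, y', hc, h1, h2, h3⟩ := F.prod3
      have hy : IsConj t (ι y) := by
        rcases h1 with h | h
        · exact hz.trans (E.conj h)
        · exact hτz.trans (E.conj h)
      have hy' : IsConj t (ι y') := by
        rcases h2 with h | h
        · exact hz.trans (E.conj h)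
        · exact hτz.trans (E.conj h)
      have hcc : ι y * ι y' = ι y' * ι y := by rw [← map_mul, hc, map_mul]
      have h5 := E.conj h3
      rw [map_mul] at h5
      rcases claim2 _ _ hy hy' hcc (hne_of y y' δ hy h3 F.δ_ne) with ⟨_, h4⟩ | ⟨_, h4⟩
      · exact hnδ ((hτz.trans h4).trans h5.symm)
      · exact hnδ ((hz.trans h4).trans h5.symm)
    · -- only `z`
      obtain ⟨y, y', hc, h1, h2, h3⟩ := F.prod2
      have hy : IsConj t (ι y) := hz.trans (E.conj h1)
      have hy' : IsConj t (ι y') := hz.trans (E.conj h2)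
      have hcc : ι y * ι y' = ι y' * ι y := by rw [← map_mul, hc, map_mul]
      have hz1 : z ≠ 1 := by rintro rfl; exact E.dne hz (map_one ι)
      have h5 := E.conj h3
      rw [map_mul] at h5
      rcases claim2 _ _ hy hy' hcc (hne_of y y' z hy h3 hz1) with ⟨_, h4⟩ | ⟨h4, _⟩
      · exact hτz ((hz.trans h5).trans h4.symm)
      · exact hτz h4
  · have hτz : IsConj t (ι (τ * z)) := hor.resolve_left hz
    obtain ⟨y, y', hc, h1, h2, h3⟩ := F.prod1
    have hy : IsConj t (ι y) := hτz.trans (E.conj h1)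
    have hy' : IsConj t (ι y') := hτz.trans (E.conj h2)
    have hcc : ι y * ι y' = ι y' * ι y := by rw [← map_mul, hc, map_mul]
    have hz1 : τ * z ≠ 1 := by
      intro he
      rw [he] at hτz
      exact E.dne hτz (map_one ι)
    have h5 : IsConj (ι (τ * z)) (ι y * ι y') := by rw [← map_mul]; exact E.conj h3
    rcases claim2 _ _ hy hy' hcc (hne_of y y' (τ * z) hy h3 hz1) with ⟨h4, _⟩ | ⟨_, h4⟩
    · exact hz h4
    · exact hz ((hτz.trans h5).trans h4.symm)

/-- An element of `G` swaps `t` and `a`. -/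
theorem Emb.exists_swap [Finite G] (E : Emb ι t τ) (F : FactsS B τ a z δ h) (hne : a ≠ τ)
    (hn : ∃ g : G, g * t * g⁻¹ * t = t * (g * t * g⁻¹) ∧ g * t * g⁻¹ ≠ t) :
    ∃ g : G, g * t * g⁻¹ = ι a ∧ g * ι a * g⁻¹ = t :=
  E.swap F (E.fusion F hn) (fun he => hne (E.inj (he.trans E.tau.symm))) (by
    rintro y (hy | hy | hy | hy) hc
    · exact hy
    · rw [← card_cent_conj hy] at hc; exact absurd hc.symm F.card_az
    · rw [← card_cent_conj hy, F.card_τz] at hc; exact absurd hc.symm F.card_az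
    · rw [← card_cent_conj hy] at hc; exact absurd hc F.card_δa)

/-- The embedding given by an isomorphism of the centraliser with `B`. -/
theorem emb_of_equiv (f : ↥(centralizer {t} : Subgroup G) ≃* B)
    (hf : f ⟨t, mem_cent.mpr rfl⟩ = τ) (ht : orderOf t = 2) :
    Emb ((centralizer {t} : Subgroup G).subtype.comp f.symm.toMonoidHom) t τ where
  inj := (Subtype.val_injective).comp f.symm.injective
  tau := by
    change ((f.symm τ : ↥(centralizer {t} : Subgroup G)) : G) = t
    rw [← hf]; simp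
  mem := fun g hg => ⟨f ⟨g, mem_cent.mpr hg⟩, by
    change ((f.symm (f _) : ↥(centralizer {t} : Subgroup G)) : G) = g
    simp⟩
  comm := fun b => mem_cent.mp (f.symm b).2
  tt := by rw [← pow_two, ← ht, pow_orderOf_eq_one]
  ne := by
    rintro rfl
    rw [orderOf_one] at ht
    exact absurd ht (by norm_num)

/-- The fusion theorem in the form of `Fusion.fusion`, without `isol` and without local balance. -/
theorem fusion [Finite G] (F : FactsS B τ a z δ h) (ht : orderOf t = 2)
    (f : ↥(centralizer {t} : Subgroup G) ≃* B) (hf : f ⟨t, mem_cent.mpr rfl⟩ = τ)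
    (hn : ∃ g : G, g * t * g⁻¹ * t = t * (g * t * g⁻¹) ∧ g * t * g⁻¹ ≠ t) :
    IsConj t (f.symm a : G) :=
  (emb_of_equiv f hf ht).fusion F hn

/-- The swap. -/
theorem exists_swap [Finite G] (F : FactsS B τ a z δ h) (ht : orderOf t = 2)
    (f : ↥(centralizer {t} : Subgroup G) ≃* B) (hf : f ⟨t, mem_cent.mpr rfl⟩ = τ) (hne : a ≠ τ)
    (hn : ∃ g : G, g * t * g⁻¹ * t = t * (g * t * g⁻¹) ∧ g * t * g⁻¹ ≠ t) :
    ∃ g : G, g * t * g⁻¹ = (f.symm a : G) ∧ g * (f.symm a : G) * g⁻¹ = t :=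
  (emb_of_equiv f hf ht).exists_swap F hne hn

end main

end Cfsg.Agent.MonsterN.FusionSq
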