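import Cfsg.Agent.BabyU.RootCfg

/-!
# U-M by nodes (S1737): a uniqueness statement for root involutions of `²E₆(2)`

`E` with a class `R` of root involutions (`BabyU.RootCfg.RootFacts`).  Let `c, d ∈ R` be opposite, let
`p₁ - p₂ - p₃ - p₄` be a chain of type `A₄` in `R` and `r, x, x'` in `R`, everything commuting with `c, d`, and
`r, x, x'` commuting with the chain.  If neither `x` nor `x'` commutes with `r`, then `x' = x` or `x' = r x r`:
in the chart at `c` the vectors of `r, x, x'` lie on a hermitian line, which has three isotropic points.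
-/

set_option autoImplicit false
set_option linter.unusedSectionVars false

namespace Cfsg.Agent.MonsterN.Line

open Cfsg Cfsg.Agent.LieClassical.HermBasic Cfsg.Agent.R01.PSUSix Cfsg.Agent.R01.IdentChain
open Cfsg.Agent.ClassicalGeometry.UnitAutBasic (tau pr pr_surjective)
open Cfsg.Agent.SporadicStructure.UnitTwo (two_eq_zero add_self exists_omega vadd_self pow_three
  zero_or_one_of_fixed)
open Cfsg.Agent.R01.IdentConfig (scale eq_zero_of_perp)
open Cfsg.Agent.BabyU.RootCfg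

variable {E : Type*} [Group E] {F : Type*} [Field F] [Fintype F] {hF : Fintype.card F = 2 ^ 2} {R : Set E}

theorem main (hR : RootFacts hF R) {c d p1 p2 p3 p4 r x x' : E} (hc : c ∈ R) (hd : d ∈ R) (hcd : Opp c d)
    (m1 : p1 ∈ R) (m2 : p2 ∈ R) (m3 : p3 ∈ R) (m4 : p4 ∈ R) (mr : r ∈ R) (mx : x ∈ R) (mx' : x' ∈ R)
    (hcm : ∀ a ∈ ({p1, p2, p3, p4, r, x, x'} : Set E), a * c = c * a ∧ a * d = d * a)
    (h12 : p1 * p2 ≠ p2 * p1) (h23 : p2 * p3 ≠ p3 * p2) (h34 : p3 * p4 ≠ p4 * p3)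
    (h13 : p1 * p3 = p3 * p1) (h14 : p1 * p4 = p4 * p1) (h24 : p2 * p4 = p4 * p2)
    (hr : ∀ a ∈ ({p1, p2, p3, p4} : Set E), r * a = a * r)
    (hx : ∀ a ∈ ({p1, p2, p3, p4} : Set E), x * a = a * x)
    (hx' : ∀ a ∈ ({p1, p2, p3, p4} : Set E), x' * a = a * x')
    (nx : r * x ≠ x * r) (nx' : r * x' ≠ x' * r) : x' = x ∨ x' = r * x * r := by
  obtain ⟨ψ, C⟩ := hR.chart c hc
  have e1 := hcm p1 (by simp)
  have e2 := hcm p2 (by simp)
  have e3 := hcm p3 (by simp)
  have e4 := hcm p4 (by simp)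
  have er := hcm r (by simp)
  have ex := hcm x (by simp)
  have ex' := hcm x' (by simp)
  obtain ⟨v1, k1⟩ := C.exists_vec hR hd hcd m1 e1.1 e1.2
  obtain ⟨w2, l2⟩ := C.exists_vec hR hd hcd m2 e2.1 e2.2
  obtain ⟨w3, l3⟩ := C.exists_vec hR hd hcd m3 e3.1 e3.2
  obtain ⟨w4, l4⟩ := C.exists_vec hR hd hcd m4 e4.1 e4.2
  obtain ⟨u, ku⟩ := C.exists_vec hR hd hcd mr er.1 er.2
  obtain ⟨wx, lx⟩ := C.exists_vec hR hd hcd mx ex.1 ex.2
  obtain ⟨wx', lx'⟩ := C.exists_vec hR hd hcd mx' ex'.1 ex'.2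
  -- scaling
  have resc : ∀ {a b : E} {v w : Fin 6 → F}, IsVec hF ψ a v → IsVec hF ψ b w → a * d = d * a → b * d = d * b →
      a * b ≠ b * a → ∃ w', IsVec hF ψ b w' ∧ hermForm 6 F 2 v w' = 1 := by
    intro a b v w ha hb had hbd hab
    have h0 : hermForm 6 F 2 v w ≠ 0 := fun h => hab ((C.comm_iff hd hcd ha hb had hbd).2 h)
    exact ⟨hermForm 6 F 2 v w • w, hb.smul h0, scale h0 hF⟩
  have perp : ∀ {a b : E} {v w : Fin 6 → F}, IsVec hF ψ a v → IsVec hF ψ b w → a * d = d * a → b * d = d * b →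
      a * b = b * a → hermForm 6 F 2 v w = 0 := by
    intro a b v w ha hb had hbd hab
    exact (C.comm_iff hd hcd ha hb had hbd).1 hab
  obtain ⟨v2, k2, b12⟩ := resc k1 l2 e1.2 e2.2 h12
  obtain ⟨v3, k3, b23⟩ := resc k2 l3 e2.2 e3.2 h23
  obtain ⟨v4, k4, b34⟩ := resc k3 l4 e3.2 e4.2 h34
  obtain ⟨y, ky, by1⟩ := resc ku lx er.2 ex.2 nx
  obtain ⟨y', ky', by1'⟩ := resc ku lx' er.2 ex'.2 nx'
  have z13 := perp k1 k3 e1.2 e3.2 h13
  have z14 := perp k1 k4 e1.2 e4.2 h14
  have z24 := perp k2 k4 e2.2 e4.2 h24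
  have zu1 := perp ku k1 er.2 e1.2 (hr p1 (by simp))
  have zu2 := perp ku k2 er.2 e2.2 (hr p2 (by simp))
  have zu3 := perp ku k3 er.2 e3.2 (hr p3 (by simp))
  have zu4 := perp ku k4 er.2 e4.2 (hr p4 (by simp))
  have zy1 := perp ky k1 ex.2 e1.2 (hx p1 (by simp))
  have zy2 := perp ky k2 ex.2 e2.2 (hx p2 (by simp))
  have zy3 := perp ky k3 ex.2 e3.2 (hx p3 (by simp))
  have zy4 := perp ky k4 ex.2 e4.2 (hx p4 (by simp))
  have zy1' := perp ky' k1 ex'.2 e1.2 (hx' p1 (by simp))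
  have zy2' := perp ky' k2 ex'.2 e2.2 (hx' p2 (by simp))
  have zy3' := perp ky' k3 ex'.2 e3.2 (hx' p3 (by simp))
  have zy4' := perp ky' k4 ex'.2 e4.2 (hx' p4 (by simp))
  have sw := fun {v w : Fin 6 → F} (h : hermForm 6 F 2 v w = 0) => herm_eq_zero_swap hF h
  have two : (1 : F) + 1 = 0 := add_self hF 1
  -- the chain `v1 v2 v3 v4 (u + v1 + v3) y`
  have b21 := one_swap hF b12
  have b32 := one_swap hF b23
  have b43 := one_swap hF b34
  have byu := one_swap hF by1
  have byu' := one_swap hF by1'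
  have ch : Chain v1 v2 v3 v4 (u + v1 + v3) y := by
    refine ⟨k1.2.1, k2.2.1, k3.2.1, k4.2.1, ?_, ky.2.1, b12, b23, b34, ?_, ?_, z13, z14, ?_, sw zy1, z24, ?_, sw zy2,
      ?_, sw zy3, sw zy4⟩
    · simp only [herm_add_left, herm_add_right hF, ku.2.1, k1.2.1, k3.2.1, zu1, sw zu1, zu3, sw zu3, z13, sw z13,
        add_zero]
    · simp only [herm_add_right hF, sw zu4, sw z14, b43, zero_add]
    · simp only [herm_add_left, by1, sw zy1, sw zy3, add_zero]
    · simp only [herm_add_right hF, sw zu1, k1.2.1, z13, add_zero]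
    · simp only [herm_add_right hF, sw zu2, b21, b23, zero_add, two]
    · simp only [herm_add_right hF, sw zu3, sw z13, k3.2.1, add_zero]
  set α : F := hermForm 6 F 2 y' y with hα
  have key : y' = y + α • u := by
    have h : y' - (y + α • u) = 0 := by
      refine eq_zero_of_perp hF ch ?_ ?_ ?_ ?_ ?_ ?_ <;> rw [herm_sub_left, herm_add_left, herm_smul_left]
      · rw [zy1', zy1, zu1]; simp
      · rw [zy2', zy2, zu2]; simp
      · rw [zy3', zy3, zu3]; simp
      · rw [zy4', zy4, zu4]; simp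
      · simp only [herm_add_right hF, byu', byu, zy1, zy3, zy1', zy3', ku.2.1, zu1, zu3]; simp
      · rw [ky.2.1, by1, ← hα]; simp
    exact sub_eq_zero.1 h
  have hfix : α = 0 ∨ α = 1 := by
    have h := ky'.2.1
    rw [key] at h
    simp only [herm_add_left, herm_add_right hF, herm_smul_left, herm_smul_right, ky.2.1, ku.2.1, byu, by1,
      mul_zero, add_zero, zero_add, mul_one] at h
    have h3 : α ^ 2 = α := by
      have e : α ^ 2 = (α + α ^ 2) + α - (α + α) := by ring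
      rw [e, h, add_self hF, zero_add, sub_zero]
    have h4 : α * (α - 1) = 0 := by linear_combination h3
    rcases mul_eq_zero.1 h4 with h5 | h5
    · exact Or.inl h5
    · exact Or.inr (sub_eq_zero.1 h5)
  rcases hfix with h0 | h1
  · left
    rw [h0, zero_smul, add_zero] at key
    exact (C.eq_of_smul hd hcd ky ky' ex.2 ex'.2 (one_ne_zero : (1 : F) ≠ 0) (by rw [key, one_smul])).symm
  · right
    rw [h1, one_smul] at key
    obtain ⟨-, uu, mcr, eu⟩ := ku
    obtain ⟨-, yy, mcx, ey⟩ := ky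
    obtain ⟨-, yy', mcx', ey'⟩ := ky'
    have hrr := hR.sq r mr
    have hcomm : r * x * r * d = d * (r * x * r) :=
      (((show Commute r d from er.2).mul_left (show Commute x d from ex.2)).mul_left
        (show Commute r d from er.2)).eq
    have hm : r * x * r ∈ Subgroup.centralizer ({c} : Set E) := mul_mem (mul_mem mcr mcx) mcr
    refine C.inj' hd hcd mcx' hm ex'.2 hcomm ?_
    have h2 : ψ ⟨r * x * r, hm⟩ = ψ ⟨r, mcr⟩ * ψ ⟨x, mcx⟩ * ψ ⟨r, mcr⟩ := by
      rw [← map_mul, ← map_mul]; rfl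
    rw [h2, ey', eu, ey, tau_conj_tau hF uu yy, byu, one_smul, key]

end Cfsg.Agent.MonsterN.Line
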