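import Cfsg.Agent.MonsterN.Pre
import Cfsg.Agent.BabyU.Out

/-!
# The ten nodes of `Y₃₃₃` in `C(f₂) ∩ C(f₁)`: permutations of the arms and signs

`nu` is the numbering of the ten nodes in the letters of `Bimonster.Graph`.  `Pre y` gives the Coxeter relations and
the spider relation of the nodes `y (nu i)` and the values `f₁`, `f₂`, `1` of the ninth powers of the three `E₇` words.
An endomorphism `θ` of a group `K` with these nodes, which permutes the arms modulo a central subgroup of exponent two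
and fixes `f₁` and `f₂` (exchanges them), fixes the nodes (exchanges the arms `1` and `2`).
-/

set_option autoImplicit false

namespace Cfsg.Agent.MonsterN.Sign

open Cfsg.Agent.Bimonster Cfsg.Agent.TwoESix Cfsg.Agent.BabyU.OutFree
open Cfsg.Agent.TwoESix.Cox10 (M10 M10_apply lab adj)

/-- The ten nodes of `Y₃₃₃` in the letters of `Bimonster.Graph`. -/
def nu : Fin 10 → ℕ := ![3, 2, 1, 0, 6, 7, 8, 11, 12, 13]

theorem nu_lt : ∀ i, nu i < 14 := by decide
theorem nu_ne : ∀ i, nu i ≠ 9 := by decide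
theorem nu_adj : ∀ i j, adjB (nu i) (nu j) = adj i j := by decide
theorem lab_one : ∀ i j, i ≠ j → adj i j = false → lab i j = 2 := by decide

section Nodes

variable {G : Type*} [Group G] {y : ℕ → G}

theorem cube {a b : G} (ha : a * a = 1) (hb : b * b = 1) (h : a * b * a = b * a * b) : (a * b) ^ 3 = 1 := by
  calc (a * b) ^ 3 = (a * b * a) * (b * a * b) := by rw [pow_succ, pow_two]; group
    _ = (b * a * b) * (b * a * b) := by rw [h]
    _ = b * a * (b * b) * a * b := by group
    _ = b * (a * a) * b := by rw [hb]; group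
    _ = 1 := by rw [ha, mul_one, hb]

theorem Pre.lift (h : Pre y) : M10.IsLiftable (fun i => y (nu i)) := by
  intro i j
  show (y (nu i) * y (nu j)) ^ (M10 i j) = 1
  rw [M10_apply]
  by_cases hij : i = j
  · subst hij
    have hl : lab i i = 1 := Cox10.lab_diag i
    rw [hl, pow_one]
    exact h.sq _ (nu_lt i) (nu_ne i)
  · have hi := h.sq _ (nu_lt i) (nu_ne i)
    have hj := h.sq _ (nu_lt j) (nu_ne j)
    cases ha : adj i j with
    | true =>
      rw [Lift.lab_adj i j ha]
      exact cube hi hj (h.br _ (nu_lt i) _ (nu_lt j) (nu_ne i) (nu_ne j) (by rw [nu_adj, ha]))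
    | false =>
      rw [lab_one i j hij ha]
      have hc := h.cm _ (nu_lt i) _ (nu_lt j) (nu_ne i) (nu_ne j) (by rw [nu_adj, ha])
      rw [pow_two]
      calc y (nu i) * y (nu j) * (y (nu i) * y (nu j)) = y (nu i) * (y (nu j) * y (nu i)) * y (nu j) := by group
        _ = (y (nu i) * y (nu i)) * (y (nu j) * y (nu j)) := by rw [← hc]; group
        _ = 1 := by rw [hi, hj, one_mul]

theorem ev_nu (y : ℕ → G) (w : List (Fin 10)) : Tits.ev y (w.map nu) = Cox10.ev (fun i => y (nu i)) w := by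
  rw [Tits.ev, Cox10.ev, List.map_map]; rfl

theorem Pre.cs (h : Pre y) : CS (fun i => y (nu i)) := by
  refine ⟨Pre.lift h, ?_⟩
  rw [← ev_nu]
  exact h.spider

theorem chk1 : Cox10.chk [3, 2, 4, 7, 1, 5, 0] Cox10.W321 = true := by decide +kernel
theorem chk2 : Cox10.chk [3, 4, 2, 7, 5, 1, 6] Cox10.W231 = true := by decide +kernel
theorem chk3 : Cox10.chk [3, 7, 2, 4, 8, 1, 9] Cox10.W213 = true := by decide +kernel

theorem sig_one (h : Pre y) : sig (fun i => y (nu i)) 0 = y 5 := by
  rw [h.f1a]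
  show Cox10.ev _ Cox10.W321 ^ 9 = Tits.ev y (([3, 2, 4, 7, 1, 5, 0] : List (Fin 10)).map nu) ^ 9
  rw [ev_nu, Cox10.ev_eq_ev (Pre.lift h) chk1]

theorem sig_two (h : Pre y) : sig (fun i => y (nu i)) 1 = y 10 := by
  rw [h.f2a]
  show Cox10.ev _ Cox10.W231 ^ 9 = Tits.ev y (([3, 4, 2, 7, 5, 1, 6] : List (Fin 10)).map nu) ^ 9
  rw [ev_nu, Cox10.ev_eq_ev (Pre.lift h) chk2]

theorem sig_three (h : Pre y) : sig (fun i => y (nu i)) 2 = 1 := by
  rw [← h.f3a]
  show Cox10.ev _ Cox10.W213 ^ 9 = Tits.ev y (([3, 7, 2, 4, 8, 1, 9] : List (Fin 10)).map nu) ^ 9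
  rw [ev_nu, Cox10.ev_eq_ev (Pre.lift h) chk3]

end Nodes

section General

variable {K E : Type*} [Group K] [Group E]

theorem ev_mul_v {s : Fin 10 → K} {v : K} (hc : ∀ g : K, g * v = v * g) (w : List (Fin 10)) :
    Cox10.ev (fun i => s i * v) w = Cox10.ev s w * v ^ w.length := by
  induction w with
  | nil => simp [Cox10.ev_nil]
  | cons i w ih =>
    rw [Cox10.ev_cons, Cox10.ev_cons, ih, List.length_cons, pow_succ']
    calc s i * v * (Cox10.ev s w * v ^ w.length) = s i * (v * Cox10.ev s w) * v ^ w.length := by group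
      _ = s i * (Cox10.ev s w * v) * v ^ w.length := by rw [hc]
      _ = _ := by group

theorem sig_mul_v {s : Fin 10 → K} {v : K} (hc : ∀ g : K, g * v = v * g) (hv : v * v = 1) (k : Fin 3) :
    sig (fun i => s i * v) k = sig s k * v := by
  rw [sig, sig, ev_mul_v hc, W_length]
  have hcom : Commute (Cox10.ev s (W k)) (v ^ 7) := (show Commute _ v from hc _).pow_right 7
  rw [hcom.mul_pow, ← pow_mul]
  congr 1
  calc v ^ (7 * 9) = (v * v) ^ 31 * v := by rw [← pow_two, ← pow_mul, ← pow_succ]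
    _ = v := by rw [hv, one_pow, one_mul]

variable {π : K →* E} {m : Fin 10 → K}

/-- An endomorphism which permutes the nodes modulo central elements of order two permutes them up to a common
factor. -/
theorem global (hker : ∀ x : K, π x = 1 → x * x = 1 ∧ ∀ g : K, g * x = x * g) (hm : CS m) (θ : K →* K) {n : Fin 6}
    (hθ : ∀ i, π (θ (m i)) = π (m (P6 n i))) :
    ∃ v : K, π v = 1 ∧ v * v = 1 ∧ (∀ g : K, g * v = v * g) ∧ ∀ i, θ (m i) = m (P6 n i) * v := by
  have hv : ∀ i, ∃ v : K, π v = 1 ∧ v * v = 1 ∧ (∀ g : K, g * v = v * g) ∧ θ (m i) = m (P6 n i) * v := by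
    intro i
    have h1 : π ((m (P6 n i))⁻¹ * θ (m i)) = 1 := by
      rw [map_mul, map_inv, hθ, inv_mul_cancel]
    obtain ⟨h2, h3⟩ := hker _ h1
    exact ⟨_, h1, h2, h3, by group⟩
  obtain ⟨v, hv1, hv2, hv3, hv4⟩ := hv 3
  refine ⟨v, hv1, hv2, hv3, ?_⟩
  have h3 : ∀ {i j}, adj i j = true → (m i * m j) ^ 3 = 1 := by
    intro i j hij
    have := hm.lift i j
    rwa [M10_apply, Lift.lab_adj i j hij] at this
  have hadj : ∀ {i j}, adj i j = true → adj (P6 n i) (P6 n j) = true := by
    intro i j hij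
    rw [adj_P6, hij]
  refine Lift.all_nodes (fun i => θ (m i) = m (P6 n i) * v) ?_ hv4
  intro i j hij hi
  obtain ⟨u, -, hu2, hu3, hu4⟩ := hv j
  have h5 : (θ (m i) * θ (m j)) ^ 3 = 1 := by rw [← map_mul, ← map_pow, h3 hij, map_one]
  rw [hi, hu4] at h5
  have e : m (P6 n i) * v * (m (P6 n j) * u) = m (P6 n i) * m (P6 n j) * (v * u) := by
    calc m (P6 n i) * v * (m (P6 n j) * u) = m (P6 n i) * (v * m (P6 n j)) * u := by group
      _ = m (P6 n i) * (m (P6 n j) * v) * u := by rw [hv3]
      _ = _ := by group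
  have hc : Commute (m (P6 n i) * m (P6 n j)) (v * u) :=
    (show Commute _ v from hv3 _).mul_right (show Commute _ u from hu3 _)
  rw [e, hc.mul_pow, h3 (hadj hij), one_mul] at h5
  have h6 : (v * u) * (v * u) = 1 := by
    calc (v * u) * (v * u) = v * (u * v) * u := by group
      _ = (v * v) * (u * u) := by rw [← hu3 v]; group
      _ = 1 := by rw [hv2, hu2, one_mul]
  have h7 : v * u = 1 := by
    rw [pow_succ, pow_two, h6, one_mul] at h5
    exact h5
  have h8 : u = v := by
    have := eq_inv_of_mul_eq_one_right h7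
    rw [this]
    exact inv_eq_of_mul_eq_one_right hv2
  rw [hu4, h8]

theorem sig_global {v : K} (hv : v * v = 1) (hc : ∀ g : K, g * v = v * g) (hm : CS m) (θ : K →* K) {n : Fin 6}
    (hθ : ∀ i, θ (m i) = m (P6 n i) * v) (k : Fin 3) : θ (sig m k) = sig m (Q6 n k) * v := by
  have h1 : θ (sig m k) = sig (fun i => θ (m i)) k := by
    show θ (Cox10.ev m (W k) ^ 9) = _
    rw [map_pow, Cox10.ev_map]; rfl
  rw [h1, ← sig_P6 hm, ← sig_mul_v hc hv]
  congr 1
  funext i; exact hθ i

theorem Q6_id : ∀ n : Fin 6, Q6 n 0 = 0 → Q6 n 1 = 1 → n = 0 := by decide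
theorem Q6_swap : ∀ n : Fin 6, Q6 n 0 = 1 → Q6 n 1 = 0 → n = 1 := by decide
theorem three_cases : ∀ k : Fin 3, k = 0 ∨ k = 1 ∨ k = 2 := by decide

section

variable {f t v : K} (hf : f * f = 1) (ht : t * t = 1) (f1 : f ≠ 1) (t1 : t ≠ 1) (hft : f ≠ t)
include hf ht f1 t1 hft

omit hf f1 t1 in
theorem ft_ne : f * t ≠ 1 := by
  intro h
  apply hft
  rw [eq_inv_of_mul_eq_one_left h]
  exact inv_eq_of_mul_eq_one_right ht

/-- **Fixed `f₁`, `f₂`: no permutation and no sign.** -/
theorem fixed (hm : CS m) (h0 : sig m 0 = f) (h1 : sig m 1 = t) (h2 : sig m 2 = 1) (θ : K →* K) {n : Fin 6}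
    (hv : v * v = 1) (hc : ∀ g : K, g * v = v * g) (hθ : ∀ i, θ (m i) = m (P6 n i) * v)
    (hθf : θ f = f) (hθt : θ t = t) : n = 0 ∧ v = 1 := by
  have a0 := sig_global hv hc hm θ hθ 0
  have a1 := sig_global hv hc hm θ hθ 1
  have a2 := sig_global hv hc hm θ hθ 2
  rw [h0, hθf] at a0
  rw [h1, hθt] at a1
  rw [h2, map_one] at a2
  have hvi : ∀ {x : K}, x * x = 1 → 1 = x * v → v = x := by
    intro x hx h
    calc v = x * x * v := by rw [hx, one_mul]
      _ = x * (x * v) := by group
      _ = x := by rw [← h, mul_one]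
  have val : ∀ k, sig m k = f ∨ sig m k = t ∨ sig m k = 1 := by
    intro k
    rcases three_cases k with rfl | rfl | rfl
    · exact Or.inl h0
    · exact Or.inr (Or.inl h1)
    · exact Or.inr (Or.inr h2)
  have hne := ft_ne ht hft
  have hne' : t * f ≠ 1 := by
    intro h
    apply hft
    rw [eq_inv_of_mul_eq_one_right h]
    exact inv_eq_of_mul_eq_one_right ht
  rcases three_cases (Q6 n 2) with hq | hq | hq
  · exfalso
    rw [hq, h0] at a2
    have hvf := hvi hf a2
    rw [hvf] at a1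
    rcases val (Q6 n 1) with h | h | h <;> rw [h] at a1
    · exact t1 (a1.trans hf)
    · exact f1 (left_eq_mul.1 a1)
    · rw [one_mul] at a1; exact hft a1.symm
  · exfalso
    rw [hq, h1] at a2
    have hvt := hvi ht a2
    rw [hvt] at a0
    rcases val (Q6 n 0) with h | h | h <;> rw [h] at a0
    · exact t1 (left_eq_mul.1 a0)
    · exact f1 (a0.trans ht)
    · rw [one_mul] at a0; exact hft a0
  · rw [hq, h2] at a2
    have hv1 : v = 1 := hvi (mul_one 1) a2
    refine ⟨?_, hv1⟩
    rw [hv1, mul_one] at a0 a1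
    refine Q6_id n ?_ ?_
    · rcases three_cases (Q6 n 0) with h | h | h
      · exact h
      · rw [h, h1] at a0; exact absurd a0 hft
      · rw [h, h2] at a0; exact absurd a0 f1
    · rcases three_cases (Q6 n 1) with h | h | h
      · rw [h, h0] at a1; exact absurd a1.symm hft
      · exact h
      · rw [h, h2] at a1; exact absurd a1 t1

/-- **Exchange of `f₁` and `f₂`: the exchange of the arms `1` and `2`, no sign.** -/
theorem swapped (hm : CS m) (h0 : sig m 0 = f) (h1 : sig m 1 = t) (h2 : sig m 2 = 1) (θ : K →* K) {n : Fin 6}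
    (hv : v * v = 1) (hc : ∀ g : K, g * v = v * g) (hθ : ∀ i, θ (m i) = m (P6 n i) * v)
    (hθf : θ f = t) (hθt : θ t = f) : n = 1 ∧ v = 1 := by
  have a0 := sig_global hv hc hm θ hθ 0
  have a1 := sig_global hv hc hm θ hθ 1
  have a2 := sig_global hv hc hm θ hθ 2
  rw [h0, hθf] at a0
  rw [h1, hθt] at a1
  rw [h2, map_one] at a2
  have hvi : ∀ {x : K}, x * x = 1 → 1 = x * v → v = x := by
    intro x hx h
    calc v = x * x * v := by rw [hx, one_mul]
      _ = x * (x * v) := by group
      _ = x := by rw [← h, mul_one]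
  have val : ∀ k, sig m k = f ∨ sig m k = t ∨ sig m k = 1 := by
    intro k
    rcases three_cases k with rfl | rfl | rfl
    · exact Or.inl h0
    · exact Or.inr (Or.inl h1)
    · exact Or.inr (Or.inr h2)
  rcases three_cases (Q6 n 2) with hq | hq | hq
  · exfalso
    rw [hq, h0] at a2
    have hvf := hvi hf a2
    rw [hvf] at a0
    rcases val (Q6 n 0) with h | h | h <;> rw [h] at a0
    · exact t1 (a0.trans hf)
    · exact f1 (left_eq_mul.1 a0)
    · rw [one_mul] at a0; exact hft a0.symm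
  · exfalso
    rw [hq, h1] at a2
    have hvt := hvi ht a2
    rw [hvt] at a1
    rcases val (Q6 n 1) with h | h | h <;> rw [h] at a1
    · exact t1 (left_eq_mul.1 a1)
    · exact f1 (a1.trans ht)
    · rw [one_mul] at a1; exact hft a1
  · rw [hq, h2] at a2
    have hv1 : v = 1 := hvi (mul_one 1) a2
    refine ⟨?_, hv1⟩
    rw [hv1, mul_one] at a0 a1
    refine Q6_swap n ?_ ?_
    · rcases three_cases (Q6 n 0) with h | h | h
      · rw [h, h0] at a0; exact absurd a0.symm hft
      · exact h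
      · rw [h, h2] at a0; exact absurd a0 t1
    · rcases three_cases (Q6 n 1) with h | h | h
      · exact h
      · rw [h, h1] at a1; exact absurd a1 hft
      · rw [h, h2] at a1; exact absurd a1 f1

end

end General

end Cfsg.Agent.MonsterN.Sign
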