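import Cfsg.Agent.MonsterN.Local
import Cfsg.Agent.MonsterN.Sign
import Cfsg.Agent.MonsterN.Line
import Cfsg.Agent.BabyU.Out

/-!
# Automorphisms of `2.B`

`L` is a group with nodes `y` (`Pre y`), `y 10` central, `C_L(y 5) / ⟨y 10, y 5⟩ ≅ E` (`KD`), generated by the eleven
nodes.  An automorphism of `L` fixing `y 10` and `y 5` is inner (`inner`).

On `KK y` it is inner by `BabyU.Out.auto` and the values of the three `E₇` words (`Sign.fixed`); the image of the
eleventh node `y 4` is `y 4` or its conjugate under `y 5` by `Line.main`, applied in the conjugate of `KK y` under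
the reversal of the chain `d₃ c₃ b₃ a b₁ c₁ d₁ e₁ f₁`.
-/

set_option autoImplicit false

namespace Cfsg.Agent.MonsterN.OutB

open Cfsg Cfsg.Agent.Bimonster Cfsg.Agent.BabyU.OutFree Cfsg.Agent.BabyU.RootCfg
open Cfsg.Agent.TwoESix.Cox10 (lab adj)

section Induced

variable {K E : Type*} [Group K] [Group E]

/-- An automorphism preserving the kernel of a surjection induces an automorphism. -/
theorem induced {π : K →* E} (hπ : Function.Surjective π) (θ : K ≃* K) (hθ : ∀ x, π x = 1 ↔ π (θ x) = 1) :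
    ∃ φ : E ≃* E, ∀ x, φ (π x) = π (θ x) := by
  have hmap : π.ker.map θ.toMonoidHom = π.ker := by
    ext x
    rw [Subgroup.mem_map]
    constructor
    · rintro ⟨a, ha, rfl⟩
      exact (hθ a).1 ha
    · intro hx
      obtain ⟨a, rfl⟩ := θ.surjective x
      exact ⟨a, (hθ a).2 hx, rfl⟩
  refine ⟨(QuotientGroup.quotientKerEquivOfSurjective π hπ).symm.trans
    ((QuotientGroup.congr π.ker π.ker θ hmap).trans (QuotientGroup.quotientKerEquivOfSurjective π hπ)), fun x => ?_⟩
  rw [MulEquiv.trans_apply, MulEquiv.trans_apply]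
  have e : (QuotientGroup.quotientKerEquivOfSurjective π hπ).symm (π x) = (x : K ⧸ π.ker) := by
    rw [MulEquiv.symm_apply_eq]; rfl
  rw [e]; rfl

end Induced

variable {L E : Type*} [Group L] [Group E] {y : ℕ → L} {h : Pre y} {R : Set E} {π : KK y →* E}

/-- The restriction of an automorphism fixing `f₂` and `f₁`. -/
def res (α : L ≃* L) (h1 : α (y 10) = y 10) (h2 : α (y 5) = y 5) : KK y ≃* KK y where
  toFun k := ⟨α k, by
    obtain ⟨h3, h4⟩ := mem_KK.1 k.2
    refine mem_KK.2 ⟨?_, ?_⟩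
    · have := congrArg α h3
      rwa [map_mul, map_mul, h1] at this
    · have := congrArg α h4
      rwa [map_mul, map_mul, h2] at this⟩
  invFun k := ⟨α.symm k, by
    obtain ⟨h3, h4⟩ := mem_KK.1 k.2
    have h1' : α.symm (y 10) = y 10 := by rw [MulEquiv.symm_apply_eq, h1]
    have h2' : α.symm (y 5) = y 5 := by rw [MulEquiv.symm_apply_eq, h2]
    refine mem_KK.2 ⟨?_, ?_⟩
    · have := congrArg α.symm h3
      rwa [map_mul, map_mul, h1'] at this
    · have := congrArg α.symm h4
      rwa [map_mul, map_mul, h2'] at this⟩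
  left_inv k := Subtype.ext (by simp)
  right_inv k := Subtype.ext (by simp)
  map_mul' a b := Subtype.ext (by simp)

theorem coe_res (α : L ≃* L) (h1 : α (y 10) = y 10) (h2 : α (y 5) = y 5) (k : KK y) :
    (res α h1 h2 k : L) = α k := rfl

theorem res_f2 (α : L ≃* L) (h1 : α (y 10) = y 10) (h2 : α (y 5) = y 5) : res α h1 h2 h.f2 = h.f2 :=
  Subtype.ext h1

theorem res_f1 (α : L ≃* L) (h1 : α (y 10) = y 10) (h2 : α (y 5) = y 5) : res α h1 h2 h.f1 = h.f1 :=
  Subtype.ext h2

theorem res_ker (D : KD h R π) (α : L ≃* L) (h1 : α (y 10) = y 10) (h2 : α (y 5) = y 5) (x : KK y) :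
    π x = 1 ↔ π (res α h1 h2 x) = 1 := by
  have key : ∀ z : KK y, (res α h1 h2) z = z → ((res α h1 h2) x = z ↔ x = z) := by
    intro z hz
    constructor
    · intro hx; exact (res α h1 h2).injective (hx.trans hz.symm)
    · rintro rfl; exact hz
  have k1 := res_f1 (h := h) α h1 h2
  have k2 := res_f2 (h := h) α h1 h2
  rw [D.ker, D.ker, key 1 (map_one _), key h.f2 k2, key h.f1 k1, key (h.f2 * h.f1) (by rw [map_mul, k1, k2])]

/-- The ten nodes generate. -/
theorem gen_nd (D : KD h R π) : Subgroup.closure (Set.range h.nd) = ⊤ := by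
  set S := Subgroup.closure (Set.range h.nd) with hS
  have hev : ∀ w : List (Fin 10), TwoESix.Cox10.ev h.nd w ∈ S := by
    intro w
    induction w with
    | nil => exact one_mem _
    | cons i w ih => rw [TwoESix.Cox10.ev_cons]; exact mul_mem (Subgroup.subset_closure ⟨i, rfl⟩) ih
  have hf1 : h.f1 ∈ S := by rw [← h.sigK0]; exact pow_mem (hev _) 9
  have hf2 : h.f2 ∈ S := by rw [← h.sigK1]; exact pow_mem (hev _) 9
  have hker : π.ker ≤ S := by
    intro v hv
    rcases (D.ker v).1 hv with rfl | rfl | rfl | rfl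
    · exact one_mem _
    · exact hf2
    · exact hf1
    · exact mul_mem hf2 hf1
  have hmap : S.map π = ⊤ := by
    rw [hS, MonoidHom.map_closure, ← Set.range_comp]
    exact D.gen
  have := Subgroup.comap_map_eq_self hker
  rw [hmap, Subgroup.comap_top] at this
  exact this.symm

/-- The facts on `L` used for its automorphisms. -/
structure Hyp (h : Pre y) (R : Set E) (π : KK y →* E) : Prop extends KD h R π where
  cen : ∀ g : L, g * y 10 = y 10 * g
  top : ∀ S : Subgroup L, (∀ i, y (nl i) ∈ S) → y 4 ∈ S → S = ⊤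
  auto : ∀ φ : E ≃* E, ∃ (x : E) (k : Fin 6), ∀ i, x * φ (π (h.nd i)) * x⁻¹ = π (h.nd (P6 k i))
  nadj : ∀ i j, adj i j = true → ¬ Commute (π (h.nd i)) (π (h.nd j))
  o3 : ∀ φ : E ≃* E, ∀ r ∈ R, φ r ∈ R

/-- The reversal of the chain `d₃ c₃ b₃ a b₁ c₁ d₁ e₁ f₁`. -/
structure Rev (y : ℕ → L) (w : L) : Prop where
  sq : w * w = 1
  c5 : w * y 5 * w = y 13
  c4 : w * y 4 * w = y 12
  c3 : w * y 3 * w = y 11
  c2 : w * y 2 * w = y 0
  c1 : w * y 1 * w = y 1
  c7 : w * y 7 * w = y 7
  c8 : w * y 8 * w = y 8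

theorem Rev.flip {w : L} (r : Rev y w) {a b : L} (hab : w * a * w = b) : w * b * w = a := by
  rw [← hab]
  calc w * (w * a * w) * w = (w * w) * a * (w * w) := by group
    _ = a := by rw [r.sq, one_mul, mul_one]

/-- An automorphism fixing the ten nodes. -/
theorem ten (H : Hyp h R π) {w : L} (r : Rev y w) {F : Type*} [Field F] [Fintype F]
    {hF : Fintype.card F = 2 ^ 2} (hR : RootFacts hF R) (β : L ≃* L) (hβ : ∀ i, β (y (nl i)) = y (nl i))
    (h5 : β (y 5) = y 5) : β (y 4) = y 4 ∨ β (y 4) = y 5 * y 4 * y 5 := by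
  have cen := H.cen
  have s4 := h.sq 4 (by norm_num) (by norm_num)
  have s5 := h.sq 5 (by norm_num) (by norm_num)
  have hβ' : ∀ j, (∃ i, nl i = j) → β (y j) = y j := by
    rintro _ ⟨i, rfl⟩; exact hβ i
  -- the conjugate automorphism
  have hw' : w⁻¹ = w := inv_eq_of_mul_eq_one_left r.sq
  set γ : L ≃* L := (MulAut.conj w).trans (β.trans (MulAut.conj w)) with hγ
  have γ_apply : ∀ x, γ x = w * β (w * x * w) * w := by
    intro x
    show w * β (w * x * w⁻¹) * w⁻¹ = _
    rw [hw']
  have γ10 : γ (y 10) = y 10 := by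
    have e : w * y 10 * w = y 10 := by rw [cen w, mul_assoc, r.sq, mul_one]
    have e2 : β (y 10) = y 10 := by
      -- `y 10` is a word in the nodes
      have := h.sig1
      rw [← this]
      show β (TwoESix.Cox10.ev _ _ ^ 9) = TwoESix.Cox10.ev _ _ ^ 9
      have hb := TwoESix.Cox10.ev_map β.toMonoidHom (fun i => y (nl i)) (W 1)
      have hb' : β (TwoESix.Cox10.ev (fun i => y (nl i)) (W 1)) = TwoESix.Cox10.ev (fun i => y (nl i)) (W 1) := by
        refine hb.trans ?_
        congr 1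
        funext i
        exact hβ i
      rw [map_pow, hb']
    rw [γ_apply, e, e2, e]
  have γ5 : γ (y 5) = y 5 := by
    rw [γ_apply, r.c5, hβ' 13 (by decide), r.flip r.c5]
  obtain ⟨φ, hφ⟩ := induced H.surj (res γ γ10 γ5) (res_ker H.toKD γ γ10 γ5)
  set s := β (y 4) with hs
  -- images
  have γ12 : γ (y 12) = w * s * w := by rw [γ_apply, r.flip r.c4]
  have γ13 : γ (y 13) = y 13 := by rw [γ_apply, r.flip r.c5, h5, r.c5]
  have hφ8 : φ (π (h.nd 8)) = π (res γ γ10 γ5 (h.nd 8)) := hφ _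
  have hφ9 : φ (π (h.nd 9)) = π (h.nd 9) := by
    rw [hφ]
    congr 1
    exact Subtype.ext γ13
  set q : KK y := res γ γ10 γ5 (h.nd 8) with hq
  have hqv : (q : L) = w * s * w := γ12
  have qR : π q ∈ R := by rw [← hφ8]; exact H.o3 φ _ (H.node 8)
  -- commutation
  have scm : ∀ j, (∃ i, nl i = j) → y 4 * y j = y j * y 4 → s * y j = y j * s := by
    intro j hj hc
    have := congrArg β hc
    rwa [map_mul, map_mul, hβ' j hj] at this
  have cmn : ∀ i j : Fin 10, adjB (nl i) (nl j) = false → π (h.nd i) * π (h.nd j) = π (h.nd j) * π (h.nd i) := by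
    intro i j hij
    rw [← map_mul, ← map_mul]
    congr 1
    exact Subtype.ext (h.cm _ (nl_lt i) _ (nl_lt j) (nl_ne i) (nl_ne j) hij)
  have cmq : ∀ i : Fin 10, w * s * w * y (nl i) = y (nl i) * (w * s * w) →
      π q * π (h.nd i) = π (h.nd i) * π q := by
    intro i hi
    rw [← map_mul, ← map_mul]
    congr 1
    apply Subtype.ext
    show (q : L) * y (nl i) = y (nl i) * q
    rw [hqv]; exact hi
  have cjw : ∀ a b : L, s * a = a * s → w * a * w = b → w * s * w * b = b * (w * s * w) := by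
    rintro a _ hab rfl
    have e1 : w * s * w * (w * a * w) = w * (s * a) * w := by
      calc w * s * w * (w * a * w) = w * s * (w * w) * a * w := by group
        _ = _ := by rw [r.sq]; group
    have e2 : w * a * w * (w * s * w) = w * (a * s) * w := by
      calc w * a * w * (w * s * w) = w * a * (w * w) * s * w := by group
        _ = _ := by rw [r.sq]; group
    rw [e1, e2, hab]
  have q7 := cmq 5 (cjw _ _ (scm 7 (by decide) (h.cm 4 (by norm_num) 7 (by norm_num) (by norm_num) (by norm_num)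
    (by decide))) r.c7)
  have q8 := cmq 6 (cjw _ _ (scm 8 (by decide) (h.cm 4 (by norm_num) 8 (by norm_num) (by norm_num) (by norm_num)
    (by decide))) r.c8)
  have q3 := cmq 0 (cjw _ _ (scm 11 (by decide) (h.cm 4 (by norm_num) 11 (by norm_num) (by norm_num) (by norm_num)
    (by decide))) (r.flip r.c3))
  have q2 := cmq 1 (cjw _ _ (scm 0 (by decide) (h.cm 4 (by norm_num) 0 (by norm_num) (by norm_num) (by norm_num)
    (by decide))) (r.flip r.c2))
  have q1 := cmq 2 (cjw _ _ (scm 1 (by decide) (h.cm 4 (by norm_num) 1 (by norm_num) (by norm_num) (by norm_num)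
    (by decide))) r.c1)
  have q0 := cmq 3 (cjw _ _ (scm 2 (by decide) (h.cm 4 (by norm_num) 2 (by norm_num) (by norm_num) (by norm_num)
    (by decide))) r.c2)
  -- the line
  have nq : π (h.nd 9) * π q ≠ π q * π (h.nd 9) := by
    intro hc
    apply H.nadj 9 8 (by decide)
    have : φ (π (h.nd 9) * π (h.nd 8)) = φ (π (h.nd 8) * π (h.nd 9)) := by
      rw [map_mul, map_mul, hφ9, hφ8]; exact hc
    exact φ.injective this
  have n12 : π (h.nd 0) * π (h.nd 1) ≠ π (h.nd 1) * π (h.nd 0) := H.nadj 0 1 (by decide)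
  have n23 : π (h.nd 1) * π (h.nd 2) ≠ π (h.nd 2) * π (h.nd 1) := H.nadj 1 2 (by decide)
  have n34 : π (h.nd 2) * π (h.nd 3) ≠ π (h.nd 3) * π (h.nd 2) := H.nadj 2 3 (by decide)
  have nx : π (h.nd 9) * π (h.nd 8) ≠ π (h.nd 8) * π (h.nd 9) := H.nadj 9 8 (by decide)
  have hopp : Opp (π (h.nd 5)) (π (h.nd 6)) := by
    refine ⟨fun e => H.nadj 5 6 (by decide) (by rw [e]), ?_⟩
    have := h.liftableK 5 6
    rw [← map_mul, ← map_pow]
    have hl : lab 5 6 = 3 := by decide
    rw [TwoESix.Cox10.M10_apply, hl] at this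
    rw [this, map_one]
  have main := Line.main hR (H.node 5) (H.node 6) hopp (H.node 0) (H.node 1) (H.node 2) (H.node 3) (H.node 9)
    (H.node 8) qR (by
      rintro a (rfl | rfl | rfl | rfl | rfl | rfl | rfl)
      · exact ⟨cmn 0 5 (by decide), cmn 0 6 (by decide)⟩
      · exact ⟨cmn 1 5 (by decide), cmn 1 6 (by decide)⟩
      · exact ⟨cmn 2 5 (by decide), cmn 2 6 (by decide)⟩
      · exact ⟨cmn 3 5 (by decide), cmn 3 6 (by decide)⟩
      · exact ⟨cmn 9 5 (by decide), cmn 9 6 (by decide)⟩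
      · exact ⟨cmn 8 5 (by decide), cmn 8 6 (by decide)⟩
      · exact ⟨q7, q8⟩) n12 n23 n34 (cmn 0 2 (by decide)) (cmn 0 3 (by decide)) (cmn 1 3 (by decide)) (by
      rintro a (rfl | rfl | rfl | rfl)
      · exact cmn 9 0 (by decide)
      · exact cmn 9 1 (by decide)
      · exact cmn 9 2 (by decide)
      · exact cmn 9 3 (by decide)) (by
      rintro a (rfl | rfl | rfl | rfl)
      · exact cmn 8 0 (by decide)
      · exact cmn 8 1 (by decide)
      · exact cmn 8 2 (by decide)
      · exact cmn 8 3 (by decide)) (by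
      rintro a (rfl | rfl | rfl | rfl)
      · exact q3
      · exact q2
      · exact q1
      · exact q0) nx nq
  -- cubes
  have s3 : (h.nd 9 * q) ^ 3 = 1 := by
    have e : res γ γ10 γ5 (h.nd 9) = h.nd 9 := Subtype.ext γ13
    have := h.liftableK 9 8
    have hl : lab 9 8 = 3 := by decide
    rw [TwoESix.Cox10.M10_apply, hl] at this
    have h2 := congrArg (res γ γ10 γ5) this
    rwa [map_pow, map_mul, e, map_one] at h2
  have t3 : (h.nd 9 * h.nd 8) ^ 3 = 1 := by
    have := h.liftableK 9 8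
    have hl : lab 9 8 = 3 := by decide
    rwa [TwoESix.Cox10.M10_apply, hl] at this
  have sqn : ∀ i, h.nd i * h.nd i = 1 := by
    intro i
    have := h.liftableK i i
    rwa [TwoESix.Cox10.M10_apply, TwoESix.Cox10.lab_diag, pow_one] at this
  -- two lifts with the same cube
  have uniq : ∀ x : KK y, (h.nd 9 * x) ^ 3 = 1 → π q = π x → q = x := by
    intro x hx hqx
    have hv : π (x⁻¹ * q) = 1 := by rw [map_mul, map_inv, hqx, inv_mul_cancel]
    set v := x⁻¹ * q with hv'
    have e : q = x * v := by rw [hv']; group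
    have hvc := H.toKD.ker_comm hv
    have hv2 := H.toKD.ker_sq hv
    have hc : Commute (h.nd 9 * x) v := (hvc _).symm
    rw [e, ← mul_assoc, hc.mul_pow, hx, one_mul] at s3
    have : v = 1 := by
      calc v = v ^ 3 * (v * v)⁻¹ := by group
        _ = 1 := by rw [s3, hv2]; group
    rw [e, this, mul_one]
  rcases main with hm | hm
  · left
    have h1 := uniq (h.nd 8) t3 hm
    have h2 : w * s * w = y 12 := by rw [← hqv, h1]; rfl
    have h3 := r.flip h2
    rw [← h3]
    exact r.flip r.c4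
  · right
    have h1 := uniq (h.nd 9 * h.nd 8 * h.nd 9) (by
      have e : h.nd 9 * (h.nd 9 * h.nd 8 * h.nd 9) = h.nd 9 * (h.nd 9 * h.nd 8) * (h.nd 9)⁻¹ := by
        have : (h.nd 9)⁻¹ = h.nd 9 := inv_eq_of_mul_eq_one_left (sqn 9)
        rw [this]; group
      rw [e, conj_pow, t3]; group) (by rw [hm, map_mul, map_mul])
    have h2 : w * s * w = y 13 * y 12 * y 13 := by rw [← hqv, h1]; rfl
    have h3 := r.flip h2
    rw [← h3, ← r.c5, ← r.c4]
    calc w * (w * y 5 * w * (w * y 4 * w) * (w * y 5 * w)) * w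
        = (w * w) * y 5 * (w * w) * y 4 * (w * w) * y 5 * (w * w) := by group
      _ = y 5 * y 4 * y 5 := by rw [r.sq]; group

/-- **An automorphism fixing `f₂` and `f₁` is inner.** -/
theorem inner (H : Hyp h R π) {w : L} (r : Rev y w) {F : Type*} [Field F] [Fintype F]
    {hF : Fintype.card F = 2 ^ 2} (hR : RootFacts hF R) (α : L ≃* L) (h10 : α (y 10) = y 10)
    (h5 : α (y 5) = y 5) : ∃ l : L, ∀ x, α x = l * x * l⁻¹ := by
  obtain ⟨φ, hφ⟩ := induced H.surj (res α h10 h5) (res_ker H.toKD α h10 h5)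
  obtain ⟨x, k, hx⟩ := H.auto φ
  obtain ⟨c, rfl⟩ := H.surj x
  have hc1 : (c : L) * y 10 * (c : L)⁻¹ = y 10 := by rw [(mem_KK.1 c.2).1]; group
  have hc2 : (c : L) * y 5 * (c : L)⁻¹ = y 5 := by rw [(mem_KK.1 c.2).2]; group
  set β : L ≃* L := α.trans (MulAut.conj (c : L)) with hβdef
  have β_apply : ∀ a, β a = c * α a * (c : L)⁻¹ := fun a => rfl
  have b10 : β (y 10) = y 10 := by rw [β_apply, h10, hc1]
  have b5 : β (y 5) = y 5 := by rw [β_apply, h5, hc2]
  have hθ : ∀ i, π ((res β b10 b5).toMonoidHom (h.nd i)) = π (h.nd (P6 k i)) := by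
    intro i
    have e : (res β b10 b5).toMonoidHom (h.nd i) = c * res α h10 h5 (h.nd i) * c⁻¹ := Subtype.ext rfl
    rw [e, map_mul, map_mul, map_inv, ← hφ, hx]
  have hker : ∀ a : KK y, π a = 1 → a * a = 1 ∧ ∀ g : KK y, g * a = a * g :=
    fun a ha => ⟨H.toKD.ker_sq ha, fun g => (H.toKD.ker_comm ha g).symm⟩
  obtain ⟨v, -, hv2, hvc, hv⟩ := Sign.global hker h.cs (res β b10 b5).toMonoidHom hθ
  obtain ⟨hk, hv1⟩ := Sign.fixed h.f1_sq h.f2_sq (fun e => H.ne1 (congrArg Subtype.val e))
    (fun e => H.ne2 (congrArg Subtype.val e)) (fun e => H.ne (congrArg Subtype.val e).symm)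
    h.cs h.sigK0 h.sigK1 h.sigK2 (res β b10 b5).toMonoidHom hv2 hvc hv (res_f1 β b10 b5) (res_f2 β b10 b5)
  have hβ : ∀ i, β (y (nl i)) = y (nl i) := by
    intro i
    have := hv i
    rw [hv1, mul_one, hk, P6_zero] at this
    exact congrArg Subtype.val this
  have s5 := h.sq 5 (by norm_num) (by norm_num)
  have i5 : (y 5)⁻¹ = y 5 := inv_eq_of_mul_eq_one_left s5
  -- an inner automorphism agreeing on the nodes
  have fin : ∀ d : L, (∀ i, β (y (nl i)) = d * y (nl i) * d⁻¹) → β (y 4) = d * y 4 * d⁻¹ →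
      ∃ l : L, ∀ x, α x = l * x * l⁻¹ := by
    intro d h1 h2
    have htop := H.top (MonoidHom.eqLocus β.toMonoidHom (MulAut.conj d).toMonoidHom) h1 h2
    refine ⟨(c : L)⁻¹ * d, fun x => ?_⟩
    have h3 : β x = d * x * d⁻¹ := by
      have : x ∈ MonoidHom.eqLocus β.toMonoidHom (MulAut.conj d).toMonoidHom := by rw [htop]; trivial
      exact this
    rw [β_apply] at h3
    calc α x = (c : L)⁻¹ * (c * α x * (c : L)⁻¹) * c := by group
      _ = (c : L)⁻¹ * (d * x * d⁻¹) * c := by rw [h3]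
      _ = _ := by group
  rcases ten H r hR β hβ b5 with h4 | h4
  · exact fin 1 (fun i => by rw [hβ i]; group) (by rw [h4]; group)
  · refine fin (y 5) (fun i => ?_) (by rw [h4, i5])
    rw [hβ i, ← (mem_KK.1 (h.nd_mem i)).2]; group

/-- **`Out (2.B) = 1`.** `y 5` is determined up to conjugacy by the order of its centraliser. -/
theorem out [Finite L] (H : Hyp h R π) {w : L} (r : Rev y w) {F : Type*} [Field F] [Fintype F]
    {hF : Fintype.card F = 2 ^ 2} (hR : RootFacts hF R) (hcen : Nat.card (Subgroup.center L) = 2)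
    (huniq : ∀ u : L, u * u = 1 → Nat.card (Subgroup.centralizer {u} : Subgroup L) =
      Nat.card (Subgroup.centralizer {y 5} : Subgroup L) → IsConj (y 5) u)
    (α : L ≃* L) : ∃ l : L, ∀ x, α x = l * x * l⁻¹ := by
  have s5 := h.sq 5 (by norm_num) (by norm_num)
  have s10 := h.sq 10 (by norm_num) (by norm_num)
  -- `f₂` is fixed
  have h10 : ∀ β : L ≃* L, β (y 10) = y 10 := by
    intro β
    obtain ⟨t, ht1, ht2⟩ := (Nat.card_eq_two_iff' (1 : Subgroup.center L)).1 hcen
    have m1 : y 10 ∈ Subgroup.center L := Subgroup.mem_center_iff.2 H.cen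
    have m2 : β (y 10) ∈ Subgroup.center L := by
      rw [Subgroup.mem_center_iff]
      intro g
      obtain ⟨g, rfl⟩ := β.surjective g
      rw [← map_mul, ← map_mul, H.cen]
    have e1 := ht2 ⟨_, m1⟩ fun e => H.ne2 (congrArg Subtype.val e)
    have e2 := ht2 ⟨_, m2⟩ fun e => H.ne2 (by
      have : β (y 10) = 1 := congrArg Subtype.val e
      exact β.injective (this.trans (map_one β).symm))
    exact congrArg Subtype.val (e2.trans e1.symm)
  have hcard : Nat.card (Subgroup.centralizer {α (y 5)} : Subgroup L) =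
      Nat.card (Subgroup.centralizer {y 5} : Subgroup L) := by
    refine (Nat.card_congr (α.toEquiv.subtypeEquiv fun g => ?_)).symm
    rw [Subgroup.mem_centralizer_singleton_iff, Subgroup.mem_centralizer_singleton_iff]
    show g * y 5 = y 5 * g ↔ α g * α (y 5) = α (y 5) * α g
    rw [← map_mul, ← map_mul, α.injective.eq_iff]
  obtain ⟨g, hg⟩ := isConj_iff.1 (huniq (α (y 5)) (by rw [← map_mul, s5, map_one]) hcard)
  set β : L ≃* L := α.trans (MulAut.conj g⁻¹) with hβ
  have β_apply : ∀ a, β a = g⁻¹ * α a * g := by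
    intro a
    show g⁻¹ * α a * g⁻¹⁻¹ = _
    rw [inv_inv]
  have b5 : β (y 5) = y 5 := by rw [β_apply, ← hg]; group
  obtain ⟨l, hl⟩ := inner H r hR β (h10 β) b5
  refine ⟨g * l, fun x => ?_⟩
  have := hl x
  rw [β_apply] at this
  calc α x = g * (g⁻¹ * α x * g) * g⁻¹ := by group
    _ = g * (l * x * l⁻¹) * g⁻¹ := by rw [this]
    _ = _ := by group

/-- The normaliser of a subgroup all of whose automorphisms are inner. -/
theorem normalizer_le {G : Type*} [Group G] {L : Subgroup G}
    (hout : ∀ α : L ≃* L, ∃ l : L, ∀ x, α x = l * x * l⁻¹) :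
    Subgroup.normalizer (L : Set G) ≤ L ⊔ Subgroup.centralizer (L : Set G) := by
  intro n hn
  have hn' := Subgroup.mem_normalizer_iff.1 hn
  let α : L ≃* L :=
    { toFun := fun x => ⟨n * x * n⁻¹, (hn' _).1 x.2⟩
      invFun := fun x => ⟨n⁻¹ * x * n, by
        refine (hn' _).2 ?_
        have : n * (n⁻¹ * (x : G) * n) * n⁻¹ = x := by group
        rw [this]; exact x.2⟩
      left_inv := fun x => Subtype.ext (by show n⁻¹ * (n * (x : G) * n⁻¹) * n = x; group)
      right_inv := fun x => Subtype.ext (by show n * (n⁻¹ * (x : G) * n) * n⁻¹ = x; group)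
      map_mul' := fun a b => Subtype.ext (by
        show n * ((a : G) * b) * n⁻¹ = n * a * n⁻¹ * (n * b * n⁻¹)
        group) }
  obtain ⟨l, hl⟩ := hout α
  have hmem : (l : G)⁻¹ * n ∈ Subgroup.centralizer (L : Set G) := by
    rw [Subgroup.mem_centralizer_iff]
    intro x hx
    have h1 : n * x * n⁻¹ = l * x * (l : G)⁻¹ := congrArg Subtype.val (hl ⟨x, hx⟩)
    calc x * ((l : G)⁻¹ * n) = (l : G)⁻¹ * (l * x * (l : G)⁻¹) * n := by group
      _ = (l : G)⁻¹ * (n * x * n⁻¹) * n := by rw [h1]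
      _ = (l : G)⁻¹ * n * x := by group
  have : n = l * ((l : G)⁻¹ * n) := by group
  rw [this]
  exact Subgroup.mul_mem _ (Subgroup.mem_sup_left l.2) (Subgroup.mem_sup_right hmem)

end Cfsg.Agent.MonsterN.OutB
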