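import Cfsg.Agent.MonsterN.FiWord
import Cfsg.Agent.MonsterN.OutB

/-!
# The reversal of the chain `d₃ c₃ b₃ a b₁ c₁ d₁ e₁ f₁` under `Pre`
-/

set_option autoImplicit false

namespace Cfsg.Agent.MonsterN.OutB

open Cfsg Cfsg.Agent.Bimonster Cfsg.Spor

variable {G : Type*} [Group G] {y : ℕ → G}

theorem fi_key : ∀ i j : Fi23.Gen, (fiIdx i < 14 ∧ fiIdx j < 14 ∧ fiIdx i ≠ 9 ∧ fiIdx j ≠ 9) ∧
    ((i = j ∧ coxLabel Fi23.edges i j = 1) ∨
      (adjB (fiIdx i) (fiIdx j) = true ∧ coxLabel Fi23.edges i j = 3) ∨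
      (adjB (fiIdx i) (fiIdx j) = false ∧ coxLabel Fi23.edges i j = 2)) := by
  intro i j; cases i <;> cases j <;> decide

theorem fiRel (h : Pre y) : FiRel y := by
  refine ⟨?_, ?_, ?_⟩
  · intro i j
    obtain ⟨⟨hi, hj, hi9, hj9⟩, hc⟩ := fi_key i j
    rcases hc with ⟨rfl, hl⟩ | ⟨ha, hl⟩ | ⟨ha, hl⟩
    · rw [hl, pow_one, h.sq _ hi hi9]
    · rw [hl]; exact h.cube hi hj hi9 hj9 ha
    · have hb := h.cm _ hi _ hj hi9 hj9 ha
      have h1 := h.sq _ hi hi9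
      have h2 := h.sq _ hj hj9
      rw [hl, pow_two]
      calc y (fiIdx i) * y (fiIdx j) * (y (fiIdx i) * y (fiIdx j))
          = y (fiIdx i) * (y (fiIdx j) * y (fiIdx i)) * y (fiIdx j) := by group
        _ = (y (fiIdx i) * y (fiIdx i)) * (y (fiIdx j) * y (fiIdx j)) := by rw [← hb]; group
        _ = 1 := by rw [h1, h2, mul_one]
  · have e1 : Tits.ev y spW = Tits.ev y [0, 1, 2, 0, 6, 7] * Tits.ev y [0, 11, 12] := by
      rw [← Tits.ev_append]; rfl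
    have e2 : Tits.ev y [0, 11, 12, 0, 1, 2, 0, 6, 7] = Tits.ev y [0, 11, 12] * Tits.ev y [0, 1, 2, 0, 6, 7] := by
      rw [← Tits.ev_append]; rfl
    have e3 : Tits.ev y [0, 11, 12, 0, 1, 2, 0, 6, 7] =
        Tits.ev y [0, 11, 12] * Tits.ev y spW * (Tits.ev y [0, 11, 12])⁻¹ := by
      rw [e1, e2]; group
    rw [e3, conj_pow, h.spider, mul_one, mul_inv_cancel]
  · have e : Tits.ev y [13, 12, 11, 0, 1, 2, 6] =
        TwoESix.Cox10.ev (fun i => y (nl i)) [9, 8, 7, 3, 2, 1, 4] := by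
      simp only [TwoESix.Cox10.ev, Tits.ev, List.map_cons, List.map_nil, nl]
      rfl
    rw [e, ← h.sig2]
    exact TwoESix.Cox10.pow9_eq h.liftable (w' := TwoESix.Cox10.W213) (by decide +kernel)

/-- **The reversal.** -/
theorem rev (h : Pre y) : Rev y (Tits.ev y FiWord.wA) where
  sq := FiWord.sq (fiRel h) h.f1a
  c5 := FiWord.conj5 (fiRel h) h.f1a
  c4 := FiWord.conj4 (fiRel h) h.f1a
  c3 := FiWord.conj3 (fiRel h) h.f1a
  c2 := FiWord.conj2 (fiRel h) h.f1a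
  c1 := FiWord.conj1 (fiRel h) h.f1a
  c7 := FiWord.conj7 (fiRel h) h.f1a
  c8 := by
    have hc : y 8 * Tits.ev y FiWord.wA = Tits.ev y FiWord.wA * y 8 := by
      refine FiWord.comm_ev fun i hi => ?_
      have hi' : i < 14 ∧ i ≠ 9 ∧ adjB 8 i = false := by
        revert i; decide
      exact h.cm 8 (by norm_num) i hi'.1 (by norm_num) hi'.2.1 hi'.2.2
    rw [← hc, mul_assoc, FiWord.sq (fiRel h) h.f1a, mul_one]

end Cfsg.Agent.MonsterN.OutB
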