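import Cfsg.Agent.MonsterN.Asm
import Cfsg.Agent.MonsterN.Dist
import Cfsg.Agent.MonsterN.RevOf

/-!
# Assembly of S1737

* `EFacts hF E R`: the facts on `E = ²E₆(2)` and its class `R` of root involutions.
* `BFacts B τ f₁ f₂ f₃ f₄`: the facts on the model `B` of the double cover `2.B`, without `Out (2.B) = 1`.
* `Emb B τ f₁ f₂ f₃`: `B` embeds in a group with an element `z` (of class `2B`), `19 ∤ |C(z)|`.
* `Nodes B τ R`: the thirteen nodes of `B` and the projection of `C_B(f₁)` onto `E`.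

`model`: `Asm.Model`; `isoM`: the literal conclusion from these facts and the closing theorem.
-/

set_option autoImplicit false

open Subgroup

namespace Cfsg.Agent.MonsterN.Lit

open Cfsg Cfsg.Agent.Bimonster Cfsg.Agent.BabyU.RootCfg Cfsg.Agent.TwoESix.Cover

universe u

/-- The facts on `E = ²E₆(2)`. -/
structure EFacts {F : Type*} [Field F] [Fintype F] (hF : Fintype.card F = 2 ^ 2) (E : Type u) [Group E]
    (R : Set E) : Prop where
  fin : Finite HB
  cov : ∃ (M' : Type u) (_ : Group M'), IsNonsplitDoubleCover M' E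
  card : Nat.card HB ≤ Nat.card E
  nc : ∃ a b : E, ¬ Commute a b
  hyp : BabyU.OutCount.Hyp hF R
  root : RootFacts hF R
  aut : ∀ α : E ≃* E, ∀ r ∈ R, α r ∈ R
  nineteen : 19 ∣ Nat.card E

/-- The facts on the model `B` of `2.B`, without `Out (2.B) = 1`. -/
structure BFacts (B : Type*) [Group B] (τ f₁ f₂ f₃ f₄ : B) : Prop where
  card_center : Nat.card (center B) = 2
  perf : commutator B = ⊤
  quot : Nonempty ((B ⧸ center B) ≃* Spor.BabyMonster)
  facts : FusionType.Facts τ f₁ f₂ f₃ f₄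
  big_a : KEq.Big B τ f₁
  big_z : KEq.Big B τ (τ * (f₁ * f₂))
  real : ∀ l : B, l * l = τ → IsConj l (τ * l)
  com : ∀ l : B, l * l = τ → ∃ l1 : B, IsConj l l1 ∧ l * l1 = l1 * l ∧ l1 ≠ l ∧ l1 ≠ τ * l

/-- `B` is embedded in a group `X` with an element `z`, `19 ∤ |C(z)|`, conjugate to `τ f₁ f₂` and `f₁ f₂ f₃`. -/
structure Emb {B X : Type*} [Group B] [Group X] (θ : B →* X) (z : X) (τ f₁ f₂ f₃ : B) : Prop where
  inj : Function.Injective θ
  nineteen : ¬ 19 ∣ Nat.card (centralizer ({z} : Set X))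
  conj_z : IsConj z (θ (τ * (f₁ * f₂)))
  conj_d : IsConj z (θ (f₁ * f₂ * f₃))

/-- The nodes of `B` and the projection of `C_B(f₁)` onto `E`. -/
def Nodes {B E : Type*} [Group B] [Group E] (τ : B) (R : Set E) : Prop :=
  ∃ (yB : ℕ → B) (h : Pre yB) (π : KK yB →* E), yB 10 = τ ∧ closure (nodes13 yB) = ⊤ ∧ KD h R π

section

variable {F : Type*} [Field F] [Fintype F] {hF : Fintype.card F = 2 ^ 2} {E : Type u} [Group E] {R : Set E}
variable {B X : Type*} [Group B] [Group X] {τ f₁ f₂ f₃ f₄ : B} {θ : B →* X} {z : X}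

/-- The involutions of `B` with centraliser of order divisible by 19 are conjugate to `f₁`. -/
theorem conj_of_nineteen (Fc : FusionType.Facts τ f₁ f₂ f₃ f₄) (M : Emb θ z τ f₁ f₂ f₃) {u : B}
    (hu : u * u = 1) (h1 : u ≠ 1) (hτ : u ≠ τ) (h19 : 19 ∣ Nat.card (centralizer ({u} : Set B))) :
    IsConj f₁ u := by
  have key : ∀ w : B, IsConj z (θ w) → ¬ 19 ∣ Nat.card (centralizer ({w} : Set B)) := by
    intro w hw hd
    exact M.nineteen (hd.trans (card_centralizer_dvd M.inj hw))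
  have hY : centralizer ({f₁ * f₂} : Set B) ≤ centralizer ({τ * (f₁ * f₂)} : Set B) := by
    intro x hx
    rw [mem_centralizer_singleton_iff] at hx ⊢
    calc x * (τ * (f₁ * f₂)) = x * τ * (f₁ * f₂) := by rw [mul_assoc]
      _ = τ * (x * (f₁ * f₂)) := by rw [Fc.cen, mul_assoc]
      _ = τ * (f₁ * f₂) * x := by rw [hx, mul_assoc τ]
  rcases Fc.classes u hu h1 hτ with h | h | h | h
  · exact h
  · exfalso
    rw [← card_centralizer_conj h] at h19
    exact key _ M.conj_z (h19.trans (card_dvd_of_le hY))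
  · exfalso
    rw [← card_centralizer_conj h] at h19
    exact key _ M.conj_z h19
  · exfalso
    rw [← card_centralizer_conj h] at h19
    exact key _ M.conj_d h19

/-- The node `f₁` of the presentation is in the class `f₁`. -/
theorem conj_five (Fc : FusionType.Facts τ f₁ f₂ f₃ f₄) (M : Emb θ z τ f₁ f₂ f₃)
    (h19 : 19 ∣ Nat.card E) {yB : ℕ → B} {h : Pre yB} {π : KK yB →* E} (h10 : yB 10 = τ) (D : KD h R π) :
    IsConj f₁ (yB 5) := by
  refine conj_of_nineteen Fc M (h.sq 5 (by norm_num) (by norm_num)) D.ne1 (fun e => D.ne (h10.trans e.symm)) ?_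
  rw [D.card_centralizer_five fun x => by rw [h10]; exact Fc.cen x]
  exact Dvd.dvd.mul_left h19 4

theorem top_of (yB : ℕ → B) (h : Pre yB) (hgen : closure (nodes13 yB) = ⊤) (S : Subgroup B)
    (h1 : ∀ i, yB (nl i) ∈ S) (h2 : yB 4 ∈ S) : S = ⊤ := by
  have hev : ∀ w : List (Fin 10), TwoESix.Cox10.ev (fun i => yB (nl i)) w ∈ S := by
    intro w
    induction w with
    | nil => exact one_mem _
    | cons i w ih => rw [TwoESix.Cox10.ev_cons]; exact mul_mem (h1 i) ih
  have h5 : yB 5 ∈ S := by rw [← h.sig0]; exact pow_mem (hev _) 9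
  have h10 : yB 10 ∈ S := by rw [← h.sig1]; exact pow_mem (hev _) 9
  rw [eq_top_iff, ← hgen, closure_le]
  rintro _ ⟨i, hi, hi9, rfl⟩
  have hcases : ∀ i < 14, i ≠ 9 → i = 4 ∨ i = 5 ∨ i = 10 ∨ ∃ j : Fin 10, nl j = i := by decide
  rcases hcases i hi hi9 with rfl | rfl | rfl | ⟨j, rfl⟩
  · exact h2
  · exact h5
  · exact h10
  · exact h1 j

/-- `Out (2.B) = 1` -/
theorem out [Finite B] (EF : EFacts hF E R) (BF : BFacts B τ f₁ f₂ f₃ f₄) (M : Emb θ z τ f₁ f₂ f₃)
    (N : Nodes τ R) (α : B ≃* B) : ∃ g : B, ∀ x, α x = g * x * g⁻¹ := by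
  obtain ⟨yB, h, π, h10, hgen, D⟩ := N
  obtain ⟨M', _, hcov⟩ := EF.cov
  have := EF.fin
  have hcenB : ∀ x : B, x * yB 10 = yB 10 * x := fun x => by rw [h10]; exact BF.facts.cen x
  have H : OutB.Hyp h R π :=
    { toKD := D
      cen := hcenB
      top := top_of yB h hgen
      auto := fun φ => BabyU.Out.auto hcov EF.card EF.nc EF.hyp D.gg D.node φ (EF.aut φ)
      nadj := fun i j hij => BabyU.Out.nadj_of_gg D.gg EF.nc hij
      o3 := EF.aut }
  refine OutB.out H (OutB.rev h) EF.root BF.card_center ?_ α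
  intro u hu hcard
  have h5 : 19 ∣ Nat.card (centralizer ({yB 5} : Set B)) := by
    rw [D.card_centralizer_five hcenB]
    exact Dvd.dvd.mul_left EF.nineteen 4
  have hc5 := conj_five BF.facts M EF.nineteen h10 D
  -- `yB 5` is not central
  have hnc : centralizer ({yB 5} : Set B) ≠ ⊤ := by
    intro htop
    have hmem : yB 5 ∈ center B := by
      rw [mem_center_iff]
      intro g
      have : g ∈ centralizer ({yB 5} : Set B) := by rw [htop]; trivial
      exact mem_centralizer_singleton_iff.1 this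
    obtain ⟨t, -, ht2⟩ := (Nat.card_eq_two_iff' (1 : center B)).1 BF.card_center
    have e1 := ht2 ⟨_, hmem⟩ fun e => D.ne1 (congrArg Subtype.val e)
    have e2 := ht2 ⟨yB 10, mem_center_iff.2 hcenB⟩ fun e => D.ne2 (congrArg Subtype.val e)
    exact D.ne (congrArg Subtype.val (e2.trans e1.symm))
  have hne : ∀ w : B, (∀ x : B, x * w = w * x) → u ≠ w := by
    rintro w hw rfl
    apply hnc
    apply eq_top_of_card_eq
    rw [← hcard]
    have : centralizer ({u} : Set B) = ⊤ := by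
      rw [eq_top_iff]
      intro x _
      exact mem_centralizer_singleton_iff.2 (hw x)
    rw [this, card_top]
  refine hc5.symm.trans (conj_of_nineteen BF.facts M hu (hne 1 fun x => by rw [mul_one, one_mul])
    (hne τ BF.facts.cen) ?_)
  rw [hcard]
  exact h5

theorem model [Finite B] (EF : EFacts hF E R) (BF : BFacts B τ f₁ f₂ f₃ f₄) (M : Emb θ z τ f₁ f₂ f₃)
    (N : Nodes τ R) : Asm.Model B τ f₁ f₂ f₃ f₄ :=
  ⟨BF.card_center, BF.perf, BF.quot, BF.facts, BF.big_a, BF.big_z, BF.real, BF.com, out EF BF M N⟩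

/-- **S1737** from the facts and the closing theorem. -/
theorem isoM [Finite B] (h43 : ¬ 2 ^ 43 ∣ Nat.card B) (EF : EFacts hF E R) (BF : BFacts B τ f₁ f₂ f₃ f₄)
    (M : Emb θ z τ f₁ f₂ f₃) (N : Nodes τ R) [IsSimpleGroup PM] (eM : Nonempty (Spor.Monster ≃* PM))
    {G : Type*} [Group G] [Finite G] [IsSimpleGroup G]
    (hG : ¬ IsMulCommutative G)
    (hbal : ∀ t : G, orderOf t = 2 → Cfsg.centralizerPPrimeCore 2 t = ⊥)
    (L : Subgroup G) (hL : Cfsg.IsStandardSubgroup L)
    (hLX : (Nat.card ↥(Subgroup.center ↥L) = 2 ∧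
      Nonempty (↥L ⧸ Subgroup.center ↥L ≃* Cfsg.Spor.BabyMonster)))
    (close : ∀ (S : Subgroup G) (_ : S ≃* Spor.Monster) (t : G), t ∈ S → t * t = 1 → t ≠ 1 →
      ¬ 2 ^ 43 ∣ Nat.card (centralizer ({t} : Set G)) → (∀ g : G, g * t = t * g → g ∈ S) → S = ⊤) :
    Cfsg.Spor.IsoM G := by
  have hM := model EF BF M N
  obtain ⟨yB, h, π, h10, hgen, D⟩ := N
  obtain ⟨M', _, hcov⟩ := EF.cov
  have := EF.fin
  have hc5 := conj_five BF.facts M EF.nineteen h10 D
  have h19 : 19 ∣ Nat.card (centralizer ({f₁} : Set B)) := by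
    rw [card_centralizer_conj hc5, D.card_centralizer_five fun x => by rw [h10]; exact BF.facts.cen x]
    exact Dvd.dvd.mul_left EF.nineteen 4
  refine Asm.isoM_of h43 hM hG hbal L hL hLX (fun φ hφ hr hconj => ?_) close
  exact node hcov EF.card EF.nc EF.hyp EF.root EF.aut BF.facts
    (hdist_of M.inj BF.facts.cen M.nineteen M.conj_z M.conj_d h19) h10 hc5 hgen D eM φ hφ hr hconj

end

end Cfsg.Agent.MonsterN.Lit
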