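import Cfsg.Agent.MonsterN.LitPar
import Cfsg.Agent.MonsterU.Final
import Cfsg.Agent.MonsterX.InstanceFinal
import Cfsg.Agent.MonsterP.NodesNe

/-!
# S1737 for the concrete model of the Monster

`isoM`: the literal conclusion of S1737 from the isomorphisms of `Spor.Monster` and `PM` with the model.
-/

set_option autoImplicit false
set_option maxRecDepth 100000

open Subgroup

namespace Cfsg.Agent.MonsterN.LitFin

open Cfsg Cfsg.Agent.MonsterX Cfsg.Agent.MonsterX.Space Cfsg.Agent.MonsterX.Conc Cfsg.Agent.MonsterX.Model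
open Cfsg.Agent.MonsterX.InstData Cfsg.Agent.MonsterX.MainPack Cfsg.Agent.MonsterU
open Cfsg.Agent.MonsterP Cfsg.Agent.MonsterP.NodeData Cfsg.Agent.MonsterP.NodesConj

/-- The hypotheses of the nodes. -/
theorem H : NodesConj.Hyp Spor.Co1 := ⟨InstanceFinal.pack, Instance.mTrans, Instance.inv⟩

/-- The facts on the concrete model. -/
theorem all : Assembly.All InstData.M Spor.Co1 := Final.all InstanceFinal.mOrbit Instance.mTrans

/-- The node `f₂` is conjugate to the involution of the base axis. -/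
theorem conj_ten : ∃ g : InstData.M.G, g * tG all.hG all.hR * g⁻¹ = NodesGrp.y H 10 :=
  ⟨⟨W (aw 10), H.W_mem (NodeQ.aw_lt 10 (by norm_num))⟩, Subtype.ext (NodesGrp.y_conj H (by norm_num)).symm⟩

/-- **S1737** from the isomorphisms of the presented groups with the model. -/
theorem isoM (eD : Nonempty (Spor.Monster ≃* ↥InstData.M.G)) (ePM : Nonempty (Bimonster.PM ≃* ↥InstData.M.G))
    {G : Type*} [Group G] [Finite G] [IsSimpleGroup G]
    (hG : ¬ IsMulCommutative G)
    (hbal : ∀ t : G, orderOf t = 2 → Cfsg.centralizerPPrimeCore 2 t = ⊥)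
    (L : Subgroup G) (hL : Cfsg.IsStandardSubgroup L)
    (hLX : (Nat.card ↥(Subgroup.center ↥L) = 2 ∧
      Nonempty (↥L ⧸ Subgroup.center ↥L ≃* Cfsg.Spor.BabyMonster))) :
    Cfsg.Spor.IsoM G :=
  LitPar.isoM all KDone.lnk KDone.lft
    (TauInst.tauHyp (Final.cent InstanceFinal.mOrbit Instance.mTrans)) (NodesGrp.prel H) (NodesNe.ne H)
    conj_ten eD ePM hG hbal L hL hLX

end Cfsg.Agent.MonsterN.LitFin
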