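import Cfsg.Agent.MonsterN.Lit
import Cfsg.Agent.MonsterN.LiftB
import Cfsg.Agent.MonsterN.CardK

/-!
# The nodes of `2.B` and the projection onto `²E₆(2)` (helper925)

`nodes`: `Lit.Nodes τ R` for a double cover `B` of the presented Baby Monster with the facts on its involutions.
-/

set_option autoImplicit false

open Subgroup

namespace Cfsg.Agent.MonsterN.NodesLit

open Cfsg Cfsg.Agent.Bimonster Cfsg.Agent.TwoESix.Cox10 Cfsg.Agent.TwoESix.Lift Cfsg.Agent.TwoESix.Cover
open Cfsg.Agent.BabyU.OutFree Cfsg.Agent.R01.Lifts Cfsg.Agent.MonsterN.Lit Cfsg.Agent.MonsterN.CardK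

universe u

/-- A prime `p ≠ 2` dividing the order of the centraliser of the image divides the order of the centraliser. -/
theorem dvd_centralizer {B Q : Type*} [Group B] [Finite B] [Group Q] {q : B →* Q} {z : B} (h : Ext q z) {x : B}
    {p : ℕ} (hp : p.Prime) (hp2 : p ≠ 2) (hd : p ∣ Nat.card (centralizer ({q x} : Set Q))) :
    p ∣ Nat.card (centralizer ({x} : Set B)) := by
  have hfQ : Finite Q := Finite.of_surjective q h.surj
  have := Fact.mk hp
  obtain ⟨⟨u, hu⟩, hord⟩ := exists_prime_orderOf_dvd_card' (G := centralizer ({q x} : Set Q)) p hd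
  have hord' : orderOf u = p := by rw [← hord, ← Subgroup.orderOf_coe]
  obtain ⟨b, rfl⟩ := h.surj u
  have hcb : b * x * b⁻¹ = x ∨ b * x * b⁻¹ = z * x := by
    have h1 : q (b * x) = q (x * b) := by rw [map_mul, map_mul]; exact mem_centralizer_singleton_iff.1 hu
    rcases h.map_eq.1 h1 with e | e
    · left; rw [e, mul_inv_cancel_right]
    · right; rw [e, h.comm]; group
  have hb2 : b ^ 2 ∈ centralizer ({x} : Set B) := by
    rw [mem_centralizer_singleton_iff, ← mul_inv_eq_iff_eq_mul]
    have e1 : b ^ 2 * x * (b ^ 2)⁻¹ = b * (b * x * b⁻¹) * b⁻¹ := by rw [pow_two]; group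
    rcases hcb with e | e
    · rw [e1, e, e]
    · rw [e1, e]
      calc b * (z * x) * b⁻¹ = (b * z) * x * b⁻¹ := by group
        _ = z * (b * x * b⁻¹) := by rw [h.comm]; group
        _ = x := by rw [e, ← mul_assoc, h.zz, one_mul]
  have h2 : orderOf (q b ^ 2) = p := by
    rw [Nat.Coprime.orderOf_pow, hord']
    rw [hord']
    exact (hp.odd_of_ne_two hp2).coprime_two_right
  have h3 : p ∣ orderOf (b ^ 2) := by
    have := orderOf_map_dvd q (b ^ 2)
    rwa [map_pow, h2] at this
  have h4 : orderOf (⟨b ^ 2, hb2⟩ : centralizer ({x} : Set B)) ∣ Nat.card (centralizer ({x} : Set B)) :=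
    orderOf_dvd_natCard _
  rw [← Subgroup.orderOf_coe] at h4
  exact h3.trans h4

section

variable {B X E : Type*} [Group B] [Group X] [Group E] {τ f₁ f₂ f₃ f₄ : B} {θ : B →* X} {z : X} {R : Set E}

/-- The extension has central element `τ`. -/
theorem exists_ext (h2 : Nat.card (center B) = 2) (quot : Nonempty ((B ⧸ center B) ≃* Spor.BabyMonster))
    (cen : ∀ x : B, x * τ = τ * x) (hτ : τ ≠ 1) : ∃ q : B →* Spor.BabyMonster, Ext q τ := by
  obtain ⟨f⟩ := quot
  obtain ⟨z, hz⟩ := CoverB.exists_ext h2 f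
  refine ⟨f.toMonoidHom.comp (QuotientGroup.mk' (center B)), ?_⟩
  have hτc : τ ∈ center B := mem_center_iff.2 cen
  have h1 : f.toMonoidHom.comp (QuotientGroup.mk' (center B)) τ = 1 := by
    show f (QuotientGroup.mk' (center B) τ) = 1
    rw [show QuotientGroup.mk' (center B) τ = 1 from (QuotientGroup.eq_one_iff τ).2 hτc, map_one]
  have h2 : τ = z := ((hz.ker τ).1 h1).resolve_left hτ
  rw [h2]
  exact hz

/-- **The nodes of `2.B` with the projection of `C_B(f₁)` onto `²E₆(2)`.** -/
theorem nodes [Finite B] [Finite HB] [IsSimpleGroup E] {e0 : Fin 10 → E} (he0 : Good e0)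
    (hgen : closure (Set.range e0) = ⊤) (hcard : Nat.card HB ≤ Nat.card E)
    (hE : Nat.card E = 76532479683774853939200) (hR : ∀ i, e0 i ∈ R)
    (h2 : Nat.card (center B) = 2) (perf : commutator B = ⊤)
    (quot : Nonempty ((B ⧸ center B) ≃* Spor.BabyMonster)) (Fc : FusionType.Facts τ f₁ f₂ f₃ f₄)
    (M : Emb θ z τ f₁ f₂ f₃) : Nodes τ R := by
  obtain ⟨q, hq⟩ := exists_ext h2 quot Fc.cen Fc.t_ne
  obtain ⟨y, hy, h10, hπ, hcl⟩ := LiftB.exists_pre_of_perfect fi_facts hq perf
  have hy4 : q (y 4) = PresentedGroup.of Spor.BabyMonster.Gen.t1 := hπ .t1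
  have h45 := isConj_four hy
  -- the order of the centraliser of `q (y 5)`
  have hq45 : IsConj (q (y 5)) (PresentedGroup.of Spor.BabyMonster.Gen.t1 : Spor.BabyMonster) := by
    rw [← hy4]
    exact (q.map_isConj h45).symm
  have hfB : Finite Spor.BabyMonster := Finite.of_surjective q hq.surj
  have h19Q : 19 ∣ Nat.card (centralizer ({q (y 5)} : Set Spor.BabyMonster)) := by
    rw [card_centralizer_isConj hq45]
    have : Nat.card (centralizer ({PresentedGroup.of Spor.BabyMonster.Gen.t1} : Set Spor.BabyMonster)) =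
      306129918735099415756800 := BM.KHAll.card_cent .t1
    rw [this]; norm_num
  have h19 := dvd_centralizer hq (x := y 5) (by norm_num : Nat.Prime 19) (by norm_num) h19Q
  have hq5 : q (y 5) ≠ 1 := by
    intro e
    have h1 := card_centralizer_isConj hq45
    rw [e] at h1
    have h2 : Nat.card (centralizer ({PresentedGroup.of Spor.BabyMonster.Gen.t1} : Set Spor.BabyMonster)) =
      306129918735099415756800 := BM.KHAll.card_cent .t1
    have h3 : centralizer ({1} : Set Spor.BabyMonster) = ⊤ := by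
      rw [eq_top_iff]
      intro x _
      rw [mem_centralizer_singleton_iff, mul_one, one_mul]
    rw [h2, h3, card_top, BM.KHAll.card_B] at h1
    norm_num at h1
  have h51 : y 5 ≠ 1 := fun e => hq5 (by rw [e, map_one])
  have h5τ : y 5 ≠ τ := fun e => hq5 (by rw [e]; exact hq.mapz)
  have hf5 : IsConj f₁ (y 5) := conj_of_nineteen Fc M (hy.sq 5 (by norm_num) (by norm_num)) h51 h5τ h19
  have hc : IsConj (y 5) (y 10 * y 5) := by
    rw [h10]
    exact hf5.symm.trans (Fc.a_t.trans (FusionType.conj_mul_t Fc.cen hf5))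
  rw [← h10] at hq
  obtain ⟨π, D, -⟩ := exists_KD_of_ext he0 hgen hcard hE hR hy hq hc (t := .t1) (by rw [hy4])
  refine ⟨y, hy, π, h10, ?_, D⟩
  rw [eq_top_iff, ← hcl, closure_le]
  rintro _ ⟨x, rfl⟩
  have hx : ∀ x, MonsterU.BabyCover.lt x < 14 ∧ MonsterU.BabyCover.lt x ≠ 9 := by
    intro x; cases x <;> decide
  exact Subgroup.subset_closure ⟨_, (hx x).1, (hx x).2, rfl⟩

end

end Cfsg.Agent.MonsterN.NodesLit
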