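import Cfsg.Agent.MonsterN.FusInst
import Cfsg.Agent.MonsterN.EInst
import Cfsg.Agent.MonsterN.BigAConf
import Cfsg.Agent.MonsterN.NodesLit
import Cfsg.Agent.BM.HBFinal
import Cfsg.Agent.S1704
import Cfsg.Agent.TwoESix.GoodInst

/-!
# S1737 from the model of the Monster

`isoM`: the literal conclusion of S1737 from the facts `All` on a model of the Monster, its link with the `K`-side,
the nodes of the Monster in the model, and the isomorphisms of the model with `Spor.Monster` and `PM`.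
-/

set_option autoImplicit false

open Subgroup

namespace Cfsg.Agent.MonsterN.LitPar

open Cfsg Cfsg.Lie Cfsg.Agent.Bimonster Cfsg.Agent.BabyU Cfsg.Agent.TwoESix.Cover
open Cfsg.Agent.MonsterX.KSide Cfsg.Agent.MonsterX.KLift Cfsg.Agent.MonsterX.KModel
open Cfsg.Agent.MonsterX.Model Cfsg.Agent.MonsterX.MainPack Cfsg.Agent.MonsterX.MainSimple
open Cfsg.Agent.MonsterX.MainBasic Cfsg.Agent.MonsterU.Assembly Cfsg.Agent.MonsterN.Lit
open Cfsg.Agent.MonsterN.LitInst Cfsg.Agent.MonsterU.Lam2 Cfsg.Agent.MonsterU.TwoCls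

variable {V P W : Type} [AddCommGroup V] [Module ℚ V] [Group P] [AddCommGroup W] [Module ℚ W]
  {D : MData V} {M : KS ↥D.G V P W} {x₀ : P} {θ : leechLattice → P} {K₀ : Type} [Group K₀]

theorem isSimple_of_equiv {X Y : Type*} [Group X] [Group Y] (e : X ≃* Y) (h : IsSimpleGroup Y) : IsSimpleGroup X := by
  have : Nontrivial X := e.toEquiv.nontrivial
  exact IsSimpleGroup.isSimpleGroup_of_surjective e.symm.toMonoidHom e.symm.surjective

/-- **S1737 from the model.** -/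
theorem isoM (A : All D K₀) (H : Link D M x₀) (L : Lift M θ) {τ : D.G} {y' : P}
    (T : Cfsg.Agent.MonsterU.InvTwo.TauHyp M θ ⊤ τ y') {y : ℕ → D.G} (hP : PRel y) (hne : y 0 ≠ y 1)
    (hy : ∃ g : D.G, g * tG A.hG A.hR * g⁻¹ = y 10) (eD : Nonempty (Spor.Monster ≃* D.G))
    (ePM : Nonempty (PM ≃* D.G))
    {G : Type*} [Group G] [Finite G] [IsSimpleGroup G]
    (hG : ¬ IsMulCommutative G)
    (hbal : ∀ t : G, orderOf t = 2 → Cfsg.centralizerPPrimeCore 2 t = ⊥)
    (L' : Subgroup G) (hL : Cfsg.IsStandardSubgroup L')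
    (hLX : (Nat.card ↥(Subgroup.center ↥L') = 2 ∧
      Nonempty (↥L' ⧸ Subgroup.center ↥L' ≃* Cfsg.Spor.BabyMonster))) :
    Cfsg.Spor.IsoM G := by
  have hfin : Finite D.G := G_finite A.hO
  have hB : Cfsg.IsB Cfsg.Spor.BabyMonster := Cfsg.Agent.S1704.result
  obtain ⟨⟨h1, h2, h3⟩, h43⟩ := ModelB.fieldsKS A H L hP hne hy hB H.x₀_mem
  obtain ⟨f₁, f₂, f₃, f₄, Fc, hcz, hcd, p, hp, hp2, hp2'⟩ := FusInst.exists_facts A H L T H.x₀_mem
  have hzm : M.z ∈ BB M x₀ := mem_centralizer_singleton_iff.2 (by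
    show M.ι M.zc * M.ι x₀ = M.ι x₀ * M.ι M.zc
    rw [← map_mul, ← map_mul, M.zc_comm])
  have hE : Emb (BB M x₀).subtype M.z (tb M x₀) f₁ f₂ f₃ :=
    ⟨Subtype.val_injective, nineteen H A, ((BB M x₀).subtype.map_isConj (hcz hzm)).symm, hcd⟩
  -- the group `²E₆(2)`
  let K := GaloisField 2 2
  let _i : Fintype K := Fintype.ofFinite K
  have hK : Fintype.card K = 4 := by
    rw [← Nat.card_eq_fintype_card]
    exact GaloisField.card 2 2 (by norm_num)
  have hsE := EInst.isSimple K hK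
  obtain ⟨e0, r, he0, hgen, hr, -, hconj⟩ := TwoESix.GoodInst.exists_good K hK
  have hR : ∀ i, e0 i ∈ rootClass K := fun i => by
    obtain ⟨g, hg⟩ := hconj i
    exact ⟨g, r, hr, hg⟩
  have hHB : Finite HB := Cfsg.Agent.BM.HBFinal.finite_HB
  have hcard := Cfsg.Agent.BM.HBFinal.hcard K hK
  have N : Nodes (tb M x₀) (rootClass K) :=
    NodesLit.nodes he0 hgen hcard (Cfsg.Agent.BM.HBFinal.card_E K hK) hR h1 h2 h3 Fc hE
  have EF : EFacts (F := K) (by rw [hK]; norm_num) (twistedE6 K 2) (rootClass K) := by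
    obtain ⟨yB, h, π, -, -, DK⟩ := N
    exact EInst.eFacts K hK _ hHB hcard DK
  have big_a : KEq.Big (BB M x₀) (tb M x₀) f₁ := by
    have hm : M.ι p ∈ BB M x₀ := by rw [← hp]; exact f₁.2
    have e : f₁ = ⟨M.ι p, hm⟩ := Subtype.ext hp
    rw [e]
    exact BigAConf.big_a L T H.x₀_mem h43 hp2 hp2'
  -- the presented groups
  obtain ⟨e1⟩ := eD
  obtain ⟨e2⟩ := ePM
  have hsM : IsSimpleGroup D.G := A.isM.1
  have : IsSimpleGroup PM := isSimple_of_equiv e2 hsM
  exact LitInst.isoM A H L hP hne hy hB ⟨e1⟩ ⟨e1.trans e2.symm⟩ EF H.x₀_mem Fc big_a hcz hcd N hG hbal L' hL hLX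

end Cfsg.Agent.MonsterN.LitPar
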