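import Cfsg.Agent.MonsterN.Pre
import Cfsg.Agent.BabyU.OutFree

/-!
# The ten nodes of `Y₃₃₃` in the centraliser of `f₁, f₂`

`KK y = C_G(f₂, f₁)`; `nd h i` the nodes `t2, …, t11` (numbering of `TwoESix.Cox10`) as elements of `KK y`;
`sig` of the three long arms is `f₁, f₂, 1`.
-/

set_option autoImplicit false

namespace Cfsg.Agent.MonsterN

open Cfsg.Agent.Bimonster Cfsg.Agent.TwoESix.Cox10 Cfsg.Agent.TwoESix.Lift Cfsg.Agent.BabyU.OutFree

variable {G : Type*} [Group G] {y : ℕ → G}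

/-- the letters of `t2, …, t11` -/
def nl : Fin 10 → ℕ := ![3, 2, 1, 0, 6, 7, 8, 11, 12, 13]

theorem nl_lt : ∀ i, nl i < 14 := by decide
theorem nl_ne : ∀ i, nl i ≠ 9 := by decide
theorem nl_adj : ∀ i j : Fin 10, i ≠ j → (lab i j = 3 ∧ adjB (nl i) (nl j) = true) ∨
    (lab i j = 2 ∧ adjB (nl i) (nl j) = false) := by decide
theorem nl_ten : ∀ i, adjB (nl i) 10 = false := by decide
theorem nl_five : ∀ i, adjB (nl i) 5 = false := by decide

/-- the centraliser of `f₂` and `f₁` -/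
abbrev KK (y : ℕ → G) : Subgroup G := Subgroup.centralizer ({y 10, y 5} : Set G)

theorem mem_KK {g : G} : g ∈ KK y ↔ g * y 10 = y 10 * g ∧ g * y 5 = y 5 * g := by
  rw [Subgroup.mem_centralizer_iff]
  constructor
  · intro h
    exact ⟨(h _ (Or.inl rfl)).symm, (h _ (Or.inr rfl)).symm⟩
  · rintro ⟨h1, h2⟩ x (rfl | rfl)
    · exact h1.symm
    · exact h2.symm

namespace Pre

theorem nd_mem (h : Pre y) (i : Fin 10) : y (nl i) ∈ KK y :=
  mem_KK.2 ⟨h.cm _ (nl_lt i) 10 (by norm_num) (nl_ne i) (by norm_num) (nl_ten i),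
    h.cm _ (nl_lt i) 5 (by norm_num) (nl_ne i) (by norm_num) (nl_five i)⟩

/-- the nodes in the centraliser -/
def nd (h : Pre y) (i : Fin 10) : KK y := ⟨y (nl i), h.nd_mem i⟩

theorem coe_nd (h : Pre y) (i : Fin 10) : (h.nd i : G) = y (nl i) := rfl

theorem ten_mem (h : Pre y) : y 10 ∈ KK y :=
  mem_KK.2 ⟨rfl, h.cm 10 (by norm_num) 5 (by norm_num) (by norm_num) (by norm_num) (by decide)⟩

theorem five_mem (h : Pre y) : y 5 ∈ KK y :=
  mem_KK.2 ⟨h.cm 5 (by norm_num) 10 (by norm_num) (by norm_num) (by norm_num) (by decide), rfl⟩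

/-- `f₂` -/
def f2 (h : Pre y) : KK y := ⟨y 10, h.ten_mem⟩
/-- `f₁` -/
def f1 (h : Pre y) : KK y := ⟨y 5, h.five_mem⟩

theorem cube {i j : ℕ} (h : Pre y) (hi : i < 14) (hj : j < 14) (hi9 : i ≠ 9) (hj9 : j ≠ 9)
    (ha : adjB i j = true) : (y i * y j) ^ 3 = 1 := by
  have hb := h.br i hi j hj hi9 hj9 ha
  have h1 := h.sq i hi hi9
  have h2 := h.sq j hj hj9
  rw [pow_succ, pow_two]
  calc y i * y j * (y i * y j) * (y i * y j) = (y i * y j * y i) * (y j * y i * y j) := by group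
    _ = (y j * y i * y j) * (y j * y i * y j) := by rw [hb]
    _ = y j * y i * (y j * y j) * y i * y j := by group
    _ = y j * (y i * y i) * y j := by rw [h2]; group
    _ = 1 := by rw [h1, mul_one, h2]

theorem liftable (h : Pre y) : M10.IsLiftable (fun i => y (nl i)) := by
  intro i j
  rw [M10_apply]
  by_cases hij : i = j
  · subst hij
    rw [lab_diag, pow_one]
    exact h.sq _ (nl_lt i) (nl_ne i)
  · rcases nl_adj i j hij with ⟨h1, h2⟩ | ⟨h1, h2⟩
    · rw [h1]
      exact h.cube (nl_lt i) (nl_lt j) (nl_ne i) (nl_ne j) h2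
    · rw [h1, pow_two]
      have hc := h.cm _ (nl_lt i) _ (nl_lt j) (nl_ne i) (nl_ne j) h2
      calc y (nl i) * y (nl j) * (y (nl i) * y (nl j))
          = y (nl i) * (y (nl j) * y (nl i)) * y (nl j) := by group
        _ = (y (nl i) * y (nl i)) * (y (nl j) * y (nl j)) := by rw [← hc]; group
        _ = 1 := by rw [h.sq _ (nl_lt i) (nl_ne i), h.sq _ (nl_lt j) (nl_ne j), one_mul]

theorem csG (h : Pre y) : CS (fun i => y (nl i)) := by
  refine ⟨h.liftable, ?_⟩
  have e : ev (fun i => y (nl i)) Cfsg.Agent.TwoESix.Cox10.spider = Tits.ev y spW := by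
    simp only [Cfsg.Agent.TwoESix.Cox10.spider, ev, Tits.ev, spW, List.map_cons, List.map_nil, nl]
    rfl
  rw [e]; exact h.spider

theorem sig0 (h : Pre y) : sig (fun i => y (nl i)) 0 = y 5 := by
  have e : ev (fun i => y (nl i)) [3, 2, 4, 7, 1, 5, 0] = Tits.ev y Bimonster.f1a := by
    simp only [ev, Tits.ev, Bimonster.f1a, List.map_cons, List.map_nil, nl]
    rfl
  rw [h.f1a, ← e]
  exact pow9_eq h.liftable (w := W321) (by decide +kernel)

theorem sig1 (h : Pre y) : sig (fun i => y (nl i)) 1 = y 10 := by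
  have e : ev (fun i => y (nl i)) [3, 4, 2, 7, 5, 1, 6] = Tits.ev y Bimonster.f2a := by
    simp only [ev, Tits.ev, Bimonster.f2a, List.map_cons, List.map_nil, nl]
    rfl
  rw [h.f2a, ← e]
  exact pow9_eq h.liftable (w := W231) (by decide +kernel)

theorem sig2 (h : Pre y) : sig (fun i => y (nl i)) 2 = 1 := by
  have e : ev (fun i => y (nl i)) [3, 7, 2, 4, 8, 1, 9] = Tits.ev y Bimonster.f3a := by
    simp only [ev, Tits.ev, Bimonster.f3a, List.map_cons, List.map_nil, nl]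
    rfl
  rw [← h.f3a, ← e]
  exact pow9_eq h.liftable (w := W213) (by decide +kernel)

theorem coe_ev (h : Pre y) (w : List (Fin 10)) : ((ev h.nd w : KK y) : G) = ev (fun i => y (nl i)) w := by
  have := ev_map (KK y).subtype h.nd w
  exact this

theorem liftableK (h : Pre y) : M10.IsLiftable h.nd := by
  intro i j
  apply Subtype.ext
  exact h.liftable i j

theorem cs (h : Pre y) : CS h.nd := by
  refine ⟨h.liftableK, Subtype.ext ?_⟩
  rw [Subgroup.coe_pow, h.coe_ev]
  exact h.csG.spider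

theorem sigK0 (h : Pre y) : sig h.nd 0 = h.f1 := by
  apply Subtype.ext
  rw [sig, Subgroup.coe_pow, h.coe_ev]
  exact h.sig0

theorem sigK1 (h : Pre y) : sig h.nd 1 = h.f2 := by
  apply Subtype.ext
  rw [sig, Subgroup.coe_pow, h.coe_ev]
  exact h.sig1

theorem sigK2 (h : Pre y) : sig h.nd 2 = 1 := by
  apply Subtype.ext
  rw [sig, Subgroup.coe_pow, h.coe_ev]
  exact h.sig2

theorem f1_sq (h : Pre y) : h.f1 * h.f1 = 1 := Subtype.ext (h.sq 5 (by norm_num) (by norm_num))
theorem f2_sq (h : Pre y) : h.f2 * h.f2 = 1 := Subtype.ext (h.sq 10 (by norm_num) (by norm_num))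
theorem f1_comm (h : Pre y) (k : KK y) : h.f1 * k = k * h.f1 := Subtype.ext ((mem_KK.1 k.2).2).symm
theorem f2_comm (h : Pre y) (k : KK y) : h.f2 * k = k * h.f2 := Subtype.ext ((mem_KK.1 k.2).1).symm

end Pre

/-- The projection of `C_G(f₂, f₁)` onto `E`. -/
structure KD {E : Type*} [Group E] (h : Pre y) (R : Set E) (π : KK y →* E) : Prop where
  surj : Function.Surjective π
  ker : ∀ k, π k = 1 ↔ k = 1 ∨ k = h.f2 ∨ k = h.f1 ∨ k = h.f2 * h.f1
  node : ∀ i, π (h.nd i) ∈ R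
  gen : Subgroup.closure (Set.range fun i => π (h.nd i)) = ⊤
  ne : y 10 ≠ y 5
  ne1 : y 5 ≠ 1
  ne2 : y 10 ≠ 1

namespace KD

variable {E : Type*} [Group E] {h : Pre y} {R : Set E} {π : KK y →* E}

theorem gg (D : KD h R π) : GG (fun i => π (h.nd i)) := by
  refine ⟨⟨?_, ?_, ?_, ?_, ?_⟩, D.gen⟩
  · intro i j
    rw [← map_mul, ← map_pow, h.liftableK i j, map_one]
  · rw [← ev_map, ← map_pow, h.cs.spider, map_one]
  · rw [← ev_map, ← map_pow]
    have := h.sigK0
    rw [sig] at this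
    show π (ev h.nd W321 ^ 9) = 1
    rw [show ev h.nd W321 ^ 9 = h.f1 from this, D.ker]
    exact Or.inr (Or.inr (Or.inl rfl))
  · rw [← ev_map, ← map_pow]
    have := h.sigK1
    rw [sig] at this
    rw [show ev h.nd W231 ^ 9 = h.f2 from this, D.ker]
    exact Or.inr (Or.inl rfl)
  · rw [← ev_map, ← map_pow]
    have := h.sigK2
    rw [sig] at this
    rw [show ev h.nd W213 ^ 9 = 1 from this, map_one]

/-- elements of the kernel are central involutions -/
theorem ker_comm (D : KD h R π) {v : KK y} (hv : π v = 1) (k : KK y) : v * k = k * v := by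
  rcases (D.ker v).1 hv with rfl | rfl | rfl | rfl
  · rw [one_mul, mul_one]
  · exact h.f2_comm k
  · exact h.f1_comm k
  · rw [mul_assoc, h.f1_comm, ← mul_assoc, h.f2_comm, mul_assoc]

theorem ker_sq (D : KD h R π) {v : KK y} (hv : π v = 1) : v * v = 1 := by
  rcases (D.ker v).1 hv with rfl | rfl | rfl | rfl
  · rw [one_mul]
  · exact h.f2_sq
  · exact h.f1_sq
  · calc h.f2 * h.f1 * (h.f2 * h.f1) = h.f2 * (h.f1 * h.f2) * h.f1 := by group
      _ = (h.f2 * h.f2) * (h.f1 * h.f1) := by rw [h.f1_comm]; group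
      _ = 1 := by rw [h.f2_sq, h.f1_sq, one_mul]

end KD

end Cfsg.Agent.MonsterN
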