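import Cfsg.Agent.MonsterN.Comm

/-!
# The fourteen nodes of the Monster presentation

`exists_prel`: in a group `G` with the thirteen nodes `Pre y` (all nodes of `Y553` commuting with `f₂ = y 10`), with
`C_G(f₁, f₂)/⟨f₁, f₂⟩ ≅ E` of type `²E₆(2)` and an element exchanging `f₁` and `f₂`, there is a fourteenth node.
-/

set_option autoImplicit false

namespace Cfsg.Agent.MonsterN

open Cfsg Cfsg.Agent.Bimonster Cfsg.Agent.Bimonster.Tits Cfsg.Agent.BabyU.OutFree Cfsg.Agent.BabyU.RootCfg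
open Cfsg.Agent.TwoESix.Cox10 Cfsg.Agent.TwoESix.Cover

variable {G : Type*} [Group G] {y : ℕ → G}
variable {E : Type*} [Group E] {h : Pre y} {R : Set E} {π : KK y →* E}
variable {F : Type*} [Field F] [Fintype F] {hF : Fintype.card F = 2 ^ 2}

theorem eq_of_braid {G : Type*} [Group G] {a b : G} (hc : a * b = b * a) (h : a * b * a = b * a * b) : a = b := by
  rw [hc] at h
  exact mul_left_cancel (a := b * a) (by rw [h])

/-- `e₁ ≠ f₁` -/
theorem four_ne_five (D : KD h R π) (RF : RootFacts hF R) : y 4 ≠ y 5 := by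
  intro h45
  have h1 : y 4 * y 3 = y 3 * y 4 := by
    rw [h45]
    exact h.cm 5 (by norm_num) 3 (by norm_num) (by norm_num) (by norm_num) (by decide)
  have h2 := eq_of_braid h1 (h.br 4 (by norm_num) 3 (by norm_num) (by norm_num) (by norm_num) (by decide))
  have h3 : h.nd 0 = h.f1 := Subtype.ext (show y 3 = y 5 by rw [← h2, h45])
  have h4 : π (h.nd 0) = 1 := by
    rw [D.ker]
    exact Or.inr (Or.inr (Or.inl h3))
  exact RF.ne _ (D.node 0) h4

theorem conj_mul_eq {m a b : G} (hab : a * b = b * a) : m * a * m⁻¹ * (m * b * m⁻¹) = m * b * m⁻¹ * (m * a * m⁻¹) := by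
  calc m * a * m⁻¹ * (m * b * m⁻¹) = m * (a * b) * m⁻¹ := by group
    _ = m * (b * a) * m⁻¹ := by rw [hab]
    _ = _ := by group

theorem conj_braid_eq {m a b : G} (hab : a * b * a = b * a * b) : m * a * m⁻¹ * (m * b * m⁻¹) * (m * a * m⁻¹) =
    m * b * m⁻¹ * (m * a * m⁻¹) * (m * b * m⁻¹) := by
  calc m * a * m⁻¹ * (m * b * m⁻¹) * (m * a * m⁻¹) = m * (a * b * a) * m⁻¹ := by group
    _ = m * (b * a * b) * m⁻¹ := by rw [hab]
    _ = _ := by group

theorem fourteen : ∀ i < 14, i = 4 ∨ i = 8 ∨ i = 9 ∨ i = 10 ∨ i ∈ [0, 1, 2, 3, 5, 6, 7, 11, 12, 13] := by decide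

/-- **The fourteenth node.** -/
theorem exists_prel [Finite HB] {M' : Type*} [Group M'] (hcov : IsNonsplitDoubleCover M' E)
    (hcard : Nat.card HB ≤ Nat.card E) (hE : ∃ a b : E, ¬ Commute a b) (H : BabyU.OutCount.Hyp hF R)
    (RF : RootFacts hF R) (D : KD h R π) {n : G} (h1 : n * y 10 * n⁻¹ = y 5) (h2 : n * y 5 * n⁻¹ = y 10)
    (hinv : ∀ k : KK y, π k ∈ R → π (cj h1 h2 k) ∈ R) :
    ∃ m : G, m * y 10 * m⁻¹ = y 5 ∧ m * y 5 * m⁻¹ = y 10 ∧ (∀ i, m * y (nl i) * m⁻¹ = y (nl (pAB i))) ∧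
      PRel (fun i => if i = 9 then m * y 4 * m⁻¹ else y i) := by
  obtain ⟨m, m10, m5, hm⟩ := swap hcov hcard hE H D h1 h2 hinv
  have m0 : m * y 0 * m⁻¹ = y 0 := hm 3
  have m6 : m * y 6 * m⁻¹ = y 1 := hm 4
  have m7 : m * y 7 * m⁻¹ = y 2 := hm 5
  have m8 : m * y 8 * m⁻¹ = y 3 := hm 6
  have m3 : m * y 3 * m⁻¹ = y 8 := hm 0
  have m2 : m * y 2 * m⁻¹ = y 7 := hm 1
  have m1 : m * y 1 * m⁻¹ = y 6 := hm 2
  have m11 : m * y 11 * m⁻¹ = y 11 := hm 7
  have m12 : m * y 12 * m⁻¹ = y 12 := hm 8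
  have m13 : m * y 13 * m⁻¹ = y 13 := hm 9
  set e := m * y 4 * m⁻¹ with he
  have c4 : ∀ i < 14, i ≠ 9 → adjB 4 i = false → y 4 * y i = y i * y 4 := fun i hi h9 ha =>
    h.cm 4 (by norm_num) i hi (by norm_num) h9 ha
  have T : Ten y e := by
    refine ⟨?_, ?_, ?_, ?_⟩
    · have := h.sq 4 (by norm_num) (by norm_num)
      calc e * e = m * (y 4 * y 4) * m⁻¹ := by rw [he]; group
        _ = 1 := by rw [this]; group
    · intro i hi
      simp only [List.mem_cons, List.not_mem_nil, or_false] at hi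
      rcases hi with rfl | rfl | rfl | rfl | rfl | rfl | rfl | rfl | rfl | rfl
      · rw [← m0]; exact conj_mul_eq (c4 0 (by norm_num) (by norm_num) (by decide))
      · rw [← m6]; exact conj_mul_eq (c4 6 (by norm_num) (by norm_num) (by decide))
      · rw [← m7]; exact conj_mul_eq (c4 7 (by norm_num) (by norm_num) (by decide))
      · rw [← m8]; exact conj_mul_eq (c4 8 (by norm_num) (by norm_num) (by decide))
      · rw [← m10]; exact conj_mul_eq (c4 10 (by norm_num) (by norm_num) (by decide))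
      · rw [← m1]; exact conj_mul_eq (c4 1 (by norm_num) (by norm_num) (by decide))
      · rw [← m2]; exact conj_mul_eq (c4 2 (by norm_num) (by norm_num) (by decide))
      · rw [← m11]; exact conj_mul_eq (c4 11 (by norm_num) (by norm_num) (by decide))
      · rw [← m12]; exact conj_mul_eq (c4 12 (by norm_num) (by norm_num) (by decide))
      · rw [← m13]; exact conj_mul_eq (c4 13 (by norm_num) (by norm_num) (by decide))
    · rw [← m3]
      exact conj_braid_eq (h.br 4 (by norm_num) 3 (by norm_num) (by norm_num) (by norm_num) (by decide))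
    · rw [← m5]
      exact conj_braid_eq (h.br 4 (by norm_num) 5 (by norm_num) (by norm_num) (by norm_num) (by decide))
  have hne : e ≠ y 10 := by
    intro h'
    apply four_ne_five D RF
    rw [← m5, he] at h'
    exact mul_left_cancel (mul_right_cancel h')
  refine ⟨m, m10, m5, hm, h.prel T.sq ?_ T.b8 T.b10⟩
  intro i hi h8 h9 h10
  rcases fourteen i hi with rfl | h' | h' | h' | h'
  · exact comm D RF hE T hne
  · exact absurd h' h8
  · exact absurd h' h9
  · exact absurd h' h10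
  · exact T.cm i h'

end Cfsg.Agent.MonsterN
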