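import Cfsg.Agent.MonsterN.Main
import Cfsg.Agent.MonsterN.FusionType
import Cfsg.Agent.Bimonster.Main

/-!
# The node part of S1737

`node`: `B` a double cover of the Baby Monster with the thirteen nodes `Pre yB` and the projection `KD` of
`C_B(f₁)` onto a group `E` of type `²E₆(2)`; `φ : B → G` injective with range `C_G(φ τ)`, `φ τ` conjugate to `φ f₁`.
Then `G` has a subgroup containing `C_G(φ τ)` and isomorphic to the presented Monster.
-/

set_option autoImplicit false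

namespace Cfsg.Agent.MonsterN

open Cfsg Cfsg.Agent.Bimonster Cfsg.Agent.Bimonster.Tits Cfsg.Agent.BabyU.OutFree Cfsg.Agent.BabyU.RootCfg
open Cfsg.Agent.TwoESix.Cox10 Cfsg.Agent.TwoESix.Cover

universe u

/-! ### The group generated by fourteen nodes -/

section monster

/-- The group generated by the nodes in a finite group is the presented group, if this is simple. -/
theorem closure_equiv {G : Type u} [Group G] [Finite G] [IsSimpleGroup PM] {y : ℕ → G} (hy : PRel y)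
    (hne : ∃ i < 14, y i ≠ 1) : Nonempty (Subgroup.closure (nodes 14 y) ≃* PM) := by
  let e : G ≃* Shrink.{0} G := (Shrink.mulEquiv : Shrink.{0} G ≃* G).symm
  obtain ⟨σ, hσ⟩ := xM_univ (Shrink.{0} G) (fun i => e (y i)) (hy.map e.toMonoidHom)
  let ψ : PM →* G := e.symm.toMonoidHom.comp σ
  have hψ : ∀ i < 14, ψ (xM i) = y i := by
    intro i hi
    show e.symm (σ (xM i)) = y i
    rw [hσ i hi, e.symm_apply_apply]
  have hker : ψ.ker = ⊥ := by
    rcases (inferInstance : IsSimpleGroup PM).eq_bot_or_eq_top_of_normal ψ.ker inferInstance with h | h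
    · exact h
    · exfalso
      obtain ⟨i, hi, hi1⟩ := hne
      apply hi1
      rw [← hψ i hi, ← MonoidHom.mem_ker, h]
      exact Subgroup.mem_top _
  have hrange : ψ.range = Subgroup.closure (nodes 14 y) := by
    rw [MonoidHom.range_eq_map, ← xM_gen, MonoidHom.map_closure]
    congr 1
    ext g
    constructor
    · rintro ⟨_, ⟨i, hi, rfl⟩, rfl⟩
      exact ⟨i, hi, (hψ i hi).symm⟩
    · rintro ⟨i, hi, rfl⟩
      exact ⟨xM i, ⟨i, hi, rfl⟩, hψ i hi⟩
  have e1 : PM ≃* ψ.range := MonoidHom.ofInjective ((MonoidHom.ker_eq_bot_iff ψ).1 hker)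
  rw [← hrange]
  exact ⟨e1.symm⟩

end monster

/-! ### The exchange of `t` and `f₁` -/

section swap

variable {B : Type*} [Group B] {τ f₁ f₂ f₃ f₄ : B} {G : Type*} [Group G] {φ : B →* G}

theorem card_centralizer_conj {B : Type*} [Group B] {a b : B} (h : IsConj a b) :
    Nat.card (Subgroup.centralizer ({a} : Set B)) = Nat.card (Subgroup.centralizer ({b} : Set B)) := by
  obtain ⟨c, rfl⟩ := isConj_iff.1 h
  have : Subgroup.centralizer ({c * a * c⁻¹} : Set B) =
      (Subgroup.centralizer ({a} : Set B)).map (MulAut.conj c).toMonoidHom := by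
    ext x
    rw [Subgroup.mem_centralizer_singleton_iff, Subgroup.mem_map]
    constructor
    · intro hx
      refine ⟨c⁻¹ * x * c, ?_, by simp [mul_assoc]⟩
      rw [Subgroup.mem_centralizer_singleton_iff]
      calc c⁻¹ * x * c * a = c⁻¹ * (x * (c * a * c⁻¹)) * c := by group
        _ = c⁻¹ * (c * a * c⁻¹ * x) * c := by rw [hx]
        _ = a * (c⁻¹ * x * c) := by group
    · rintro ⟨z, hz, rfl⟩
      have hz' := Subgroup.mem_centralizer_singleton_iff.1 hz
      show c * z * c⁻¹ * (c * a * c⁻¹) = c * a * c⁻¹ * (c * z * c⁻¹)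
      calc c * z * c⁻¹ * (c * a * c⁻¹) = c * (z * a) * c⁻¹ := by group
        _ = c * (a * z) * c⁻¹ := by rw [hz']
        _ = _ := by group
  rw [this, Subgroup.card_map_of_injective (MulAut.conj c).injective]

/-- the centraliser of a second involution in `C_G(φ τ)` -/
theorem map_centralizer (hφ : Function.Injective φ) (hr : ∀ x : G, x ∈ φ.range ↔ x * φ τ = φ τ * x) (s : B) :
    (Subgroup.centralizer ({s} : Set B)).map φ = Subgroup.centralizer ({φ τ, φ s} : Set G) := by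
  ext x
  rw [Subgroup.mem_map, Subgroup.mem_centralizer_iff]
  constructor
  · rintro ⟨b, hb, rfl⟩ z (rfl | rfl)
    · exact ((hr (φ b)).1 ⟨b, rfl⟩).symm
    · rw [← map_mul, ← map_mul, Subgroup.mem_centralizer_singleton_iff.1 hb]
  · intro hx
    obtain ⟨b, rfl⟩ := (hr x).2 (hx _ (Or.inl rfl)).symm
    refine ⟨b, ?_, rfl⟩
    rw [Subgroup.mem_centralizer_singleton_iff]
    apply hφ
    rw [map_mul, map_mul]
    exact (hx _ (Or.inr rfl)).symm

theorem exists_swap (F : FusionType.Facts τ f₁ f₂ f₃ f₄)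
    (hdist : ∀ u ∈ ({f₁ * f₂, τ * (f₁ * f₂), f₁ * f₂ * f₃} : Set B),
      Nat.card (Subgroup.centralizer ({u} : Set B)) ≠ Nat.card (Subgroup.centralizer ({f₁} : Set B)))
    (hφ : Function.Injective φ) (hr : ∀ x : G, x ∈ φ.range ↔ x * φ τ = φ τ * x)
    (hconj : IsConj (φ τ) (φ f₁)) : ∃ n : G, n * φ τ * n⁻¹ = φ f₁ ∧ n * φ f₁ * n⁻¹ = φ τ := by
  obtain ⟨g, hg⟩ := isConj_iff.1 hconj
  have hτ2 : φ τ * φ τ = 1 := by rw [← map_mul, F.t_sq, map_one]
  have hτ1 : φ τ ≠ 1 := fun h => F.t_ne (hφ (by rw [h, map_one]))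
  have hft : f₁ ≠ τ := by
    intro h
    have h3 := F.a_3
    rw [h] at h3
    obtain ⟨c, hc⟩ := isConj_iff.1 h3
    rw [F.cen, mul_inv_cancel_right] at hc
    have h4 := F.y_13
    rw [h, ← hc, F.t_sq, isConj_comm, isConj_one_right] at h4
    exact F.ne₂ (by rw [h, h4])
  -- the element `s`
  have hcom : g⁻¹ * φ τ * g * φ τ = φ τ * (g⁻¹ * φ τ * g) := by
    have h1 : g⁻¹ * φ f₁ * g = φ τ := by rw [← hg]; group
    have h2 : φ τ * φ f₁ = φ f₁ * φ τ := by rw [← map_mul, ← map_mul, F.cen]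
    calc g⁻¹ * φ τ * g * φ τ = g⁻¹ * φ τ * g * (g⁻¹ * φ f₁ * g) := by rw [h1]
      _ = g⁻¹ * (φ τ * φ f₁) * g := by group
      _ = g⁻¹ * (φ f₁ * φ τ) * g := by rw [h2]
      _ = (g⁻¹ * φ f₁ * g) * (g⁻¹ * φ τ * g) := by group
      _ = _ := by rw [h1]
  obtain ⟨s, hs⟩ := (hr _).2 hcom
  have hs2 : s * s = 1 := by
    apply hφ
    rw [map_mul, hs, map_one]
    calc g⁻¹ * φ τ * g * (g⁻¹ * φ τ * g) = g⁻¹ * (φ τ * φ τ) * g := by group
      _ = 1 := by rw [hτ2]; group
  have hs1 : s ≠ 1 := by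
    rintro rfl
    rw [map_one] at hs
    apply hτ1
    have : φ τ = g * (g⁻¹ * φ τ * g) * g⁻¹ := by group
    rw [this, ← hs]; group
  have hsτ : s ≠ τ := by
    rintro rfl
    apply hft
    apply hφ
    rw [← hg]
    have : g * φ s = φ s * g := by
      nth_rewrite 1 [hs]; group
    rw [this]; group
  -- the orders
  have hcard : Nat.card (Subgroup.centralizer ({s} : Set B)) = Nat.card (Subgroup.centralizer ({f₁} : Set B)) := by
    rw [← Subgroup.card_map_of_injective hφ, ← Subgroup.card_map_of_injective (K := Subgroup.centralizer ({f₁} : Set B)) hφ,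
      map_centralizer hφ hr, map_centralizer hφ hr]
    have : Subgroup.centralizer ({φ τ, φ f₁} : Set G) =
        (Subgroup.centralizer ({φ τ, φ s} : Set G)).map (MulAut.conj g).toMonoidHom := by
      ext x
      rw [Subgroup.mem_map, Subgroup.mem_centralizer_iff]
      constructor
      · intro hx
        refine ⟨g⁻¹ * x * g, ?_, by simp [mul_assoc]⟩
        rw [Subgroup.mem_centralizer_iff]
        rintro z (rfl | rfl)
        · have h1 := hx _ (Or.inr rfl)
          rw [← hg] at h1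
          calc φ τ * (g⁻¹ * x * g) = g⁻¹ * (g * φ τ * g⁻¹ * x) * g := by group
            _ = g⁻¹ * (x * (g * φ τ * g⁻¹)) * g := by rw [h1]
            _ = _ := by group
        · rw [hs]
          have h1 := hx _ (Or.inl rfl)
          calc g⁻¹ * φ τ * g * (g⁻¹ * x * g) = g⁻¹ * (φ τ * x) * g := by group
            _ = g⁻¹ * (x * φ τ) * g := by rw [h1]
            _ = _ := by group
      · rintro ⟨z, hz, rfl⟩ w (rfl | rfl)
        · have h1 := (Subgroup.mem_centralizer_iff.1 hz) _ (Or.inr rfl)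
          rw [hs] at h1
          show φ τ * (g * z * g⁻¹) = g * z * g⁻¹ * φ τ
          calc φ τ * (g * z * g⁻¹) = g * (g⁻¹ * φ τ * g * z) * g⁻¹ := by group
            _ = g * (z * (g⁻¹ * φ τ * g)) * g⁻¹ := by rw [h1]
            _ = _ := by group
        · have h1 := (Subgroup.mem_centralizer_iff.1 hz) _ (Or.inl rfl)
          show φ f₁ * (g * z * g⁻¹) = g * z * g⁻¹ * φ f₁
          rw [← hg]
          calc g * φ τ * g⁻¹ * (g * z * g⁻¹) = g * (φ τ * z) * g⁻¹ := by group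
            _ = g * (z * φ τ) * g⁻¹ := by rw [h1]
            _ = _ := by group
    rw [this, Subgroup.card_map_of_injective (MulAut.conj g).injective]
  have hAs : IsConj f₁ s := by
    rcases F.classes s hs2 hs1 hsτ with h | h | h | h
    · exact h
    · exact absurd ((card_centralizer_conj h).trans hcard) (hdist _ (by simp))
    · exact absurd ((card_centralizer_conj h).trans hcard) (hdist _ (by simp))
    · exact absurd ((card_centralizer_conj h).trans hcard) (hdist _ (by simp))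
  obtain ⟨c, hc⟩ := isConj_iff.1 hAs
  refine ⟨g * φ c, ?_, ?_⟩
  · have h1 : φ c * φ τ * (φ c)⁻¹ = φ τ := by
      rw [← map_mul, F.cen, map_mul]; group
    calc g * φ c * φ τ * (g * φ c)⁻¹ = g * (φ c * φ τ * (φ c)⁻¹) * g⁻¹ := by group
      _ = φ f₁ := by rw [h1, hg]
  · have h1 : φ c * φ f₁ * (φ c)⁻¹ = φ s := by
      rw [← map_inv, ← map_mul, ← map_mul, hc]
    calc g * φ c * φ f₁ * (g * φ c)⁻¹ = g * (φ c * φ f₁ * (φ c)⁻¹) * g⁻¹ := by group
      _ = φ τ := by rw [h1, hs]; group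

end swap

/-! ### Transport of the projection -/

section transport

variable {B : Type*} [Group B] {yB : ℕ → B} {G : Type*} [Group G] {φ : B →* G}
variable {E : Type*} [Group E] {R : Set E}

/-- `C_B(f₂, f₁) → C_G(f₂, f₁)` -/
def kmap (φ : B →* G) (yB : ℕ → B) : KK yB →* KK (fun i => φ (yB i)) where
  toFun k := ⟨φ (k : B), by
    obtain ⟨h1, h2⟩ := mem_KK.1 k.2
    refine mem_KK.2 ⟨?_, ?_⟩
    · rw [← map_mul, h1, map_mul]
    · rw [← map_mul, h2, map_mul]⟩
  map_one' := Subtype.ext (map_one φ)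
  map_mul' a b := Subtype.ext (map_mul φ (a : B) (b : B))

theorem kmap_bijective (hφ : Function.Injective φ)
    (hr : ∀ x : G, x * φ (yB 10) = φ (yB 10) * x → x ∈ φ.range) : Function.Bijective (kmap φ yB) := by
  constructor
  · intro a b hab
    exact Subtype.ext (hφ (congrArg Subtype.val hab))
  · rintro ⟨x, hx⟩
    obtain ⟨h1, h2⟩ := mem_KK.1 hx
    obtain ⟨b, rfl⟩ := hr x h1
    refine ⟨⟨b, mem_KK.2 ⟨hφ ?_, hφ ?_⟩⟩, rfl⟩
    · rw [map_mul, map_mul]; exact h1
    · rw [map_mul, map_mul]; exact h2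

/-- the projection in `G` -/
noncomputable def pmap (hφ : Function.Injective φ)
    (hr : ∀ x : G, x * φ (yB 10) = φ (yB 10) * x → x ∈ φ.range) (π : KK yB →* E) :
    KK (fun i => φ (yB i)) →* E :=
  π.comp (MulEquiv.ofBijective (kmap φ yB) (kmap_bijective hφ hr)).symm.toMonoidHom

theorem pmap_kmap (hφ : Function.Injective φ)
    (hr : ∀ x : G, x * φ (yB 10) = φ (yB 10) * x → x ∈ φ.range) (π : KK yB →* E) (k : KK yB) :
    pmap hφ hr π (kmap φ yB k) = π k := by
  show π ((MulEquiv.ofBijective (kmap φ yB) (kmap_bijective hφ hr)).symm (kmap φ yB k)) = π k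
  congr 1
  rw [MulEquiv.symm_apply_eq]
  rfl

theorem KD.transport {h : Pre yB} {π : KK yB →* E} (D : KD h R π) (hφ : Function.Injective φ)
    (hr : ∀ x : G, x * φ (yB 10) = φ (yB 10) * x → x ∈ φ.range) : KD (h.map φ) R (pmap hφ hr π) := by
  have hnd : ∀ i, (h.map φ).nd i = kmap φ yB (h.nd i) := fun i => rfl
  have hf2 : (h.map φ).f2 = kmap φ yB h.f2 := rfl
  have hf1 : (h.map φ).f1 = kmap φ yB h.f1 := rfl
  have hinj := (kmap_bijective hφ hr).1
  have hsur := (kmap_bijective hφ hr).2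
  refine ⟨?_, ?_, ?_, ?_, ?_, ?_, ?_⟩
  · intro e
    obtain ⟨k, rfl⟩ := D.surj e
    exact ⟨kmap φ yB k, pmap_kmap hφ hr π k⟩
  · intro k
    obtain ⟨k, rfl⟩ := hsur k
    rw [pmap_kmap, D.ker, hf2, hf1, ← map_mul, ← (kmap φ yB).map_one]
    constructor
    · rintro (rfl | rfl | rfl | rfl)
      · exact Or.inl rfl
      · exact Or.inr (Or.inl rfl)
      · exact Or.inr (Or.inr (Or.inl rfl))
      · exact Or.inr (Or.inr (Or.inr rfl))
    · rintro (h1 | h1 | h1 | h1)
      · exact Or.inl (hinj h1)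
      · exact Or.inr (Or.inl (hinj h1))
      · exact Or.inr (Or.inr (Or.inl (hinj h1)))
      · exact Or.inr (Or.inr (Or.inr (hinj h1)))
  · intro i
    rw [hnd, pmap_kmap]; exact D.node i
  · have : (fun i => pmap hφ hr π ((h.map φ).nd i)) = fun i => π (h.nd i) := by
      funext i; rw [hnd, pmap_kmap]
    rw [this]; exact D.gen
  · exact fun h1 => D.ne (hφ h1)
  · exact fun h1 => D.ne1 (hφ (by rw [map_one]; exact h1))
  · exact fun h1 => D.ne2 (hφ (by rw [map_one]; exact h1))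

end transport

/-! ### Invariance of the class -/

section inv

variable {G : Type*} [Group G] {y : ℕ → G} {E : Type*} [Group E] {h : Pre y} {R : Set E} {π : KK y →* E}

/-- the automorphism of `E` induced by an element exchanging `f₁` and `f₂` -/
theorem KD.exists_auto (D : KD h R π) {n : G} (h1 : n * y 10 * n⁻¹ = y 5) (h2 : n * y 5 * n⁻¹ = y 10) :
    ∃ α : E ≃* E, ∀ k, α (π k) = π (cj h1 h2 k) := by
  have hk1 : π.ker ≤ (π.comp (cj h1 h2)).ker := by
    intro v hv
    rw [MonoidHom.mem_ker] at hv ⊢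
    exact D.cj_ker h1 h2 hv
  have hk2 : π.ker ≤ (π.comp (cj (inv_swap h2) (inv_swap h1))).ker := by
    intro v hv
    rw [MonoidHom.mem_ker] at hv ⊢
    exact D.cj_ker (inv_swap h2) (inv_swap h1) hv
  let a : E →* E := π.liftOfSurjective D.surj ⟨π.comp (cj h1 h2), hk1⟩
  let b : E →* E := π.liftOfSurjective D.surj ⟨π.comp (cj (inv_swap h2) (inv_swap h1)), hk2⟩
  have ha : ∀ k, a (π k) = π (cj h1 h2 k) := fun k => MonoidHom.liftOfRightInverse_comp_apply _ _ (Function.rightInverse_surjInv D.surj) _ k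
  have hb : ∀ k, b (π k) = π (cj (inv_swap h2) (inv_swap h1) k) :=
    fun k => MonoidHom.liftOfRightInverse_comp_apply _ _ (Function.rightInverse_surjInv D.surj) _ k
  refine ⟨MulEquiv.mk' ⟨a, b, ?_, ?_⟩ a.map_mul, ha⟩
  · intro e
    obtain ⟨k, rfl⟩ := D.surj e
    rw [ha, hb]
    congr 1
    apply Subtype.ext
    rw [coe_cj, coe_cj]; group
  · intro e
    obtain ⟨k, rfl⟩ := D.surj e
    rw [hb, ha]
    congr 1
    apply Subtype.ext
    rw [coe_cj, coe_cj]; group

end inv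

/-! ### The node part -/

section final

variable {F : Type*} [Field F] [Fintype F] {hF : Fintype.card F = 2 ^ 2}

/-- The letters other than `9`. -/
def nodes13 {B : Type*} (y : ℕ → B) : Set B := {x | ∃ i < 14, i ≠ 9 ∧ y i = x}

/-- **The subgroup generated by the fourteen nodes.** -/
theorem exists_sub [Finite HB] {M' E : Type*} [Group M'] [Group E] (hcov : IsNonsplitDoubleCover M' E)
    (hcard : Nat.card HB ≤ Nat.card E) (hE : ∃ a b : E, ¬ Commute a b) {R : Set E} (H : BabyU.OutCount.Hyp hF R)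
    (RF : RootFacts hF R) (Raut : ∀ α : E ≃* E, ∀ r ∈ R, α r ∈ R)
    {B : Type*} [Group B] {yB : ℕ → B} {h : Pre yB} (hgen : Subgroup.closure (nodes13 yB) = ⊤)
    {π : KK yB →* E} (D : KD h R π) [IsSimpleGroup PM]
    {G : Type*} [Group G] [Finite G] {φ : B →* G} (hφ : Function.Injective φ)
    (hr : ∀ x : G, x ∈ φ.range ↔ x * φ (yB 10) = φ (yB 10) * x)
    {n : G} (h1 : n * φ (yB 10) * n⁻¹ = φ (yB 5)) (h2 : n * φ (yB 5) * n⁻¹ = φ (yB 10)) :
    ∃ S : Subgroup G, φ.range ≤ S ∧ Nonempty (S ≃* PM) := by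
  have hr' : ∀ x : G, x * φ (yB 10) = φ (yB 10) * x → x ∈ φ.range := fun x hx => (hr x).2 hx
  have DG := D.transport hφ hr'
  obtain ⟨α, hα⟩ := DG.exists_auto h1 h2
  obtain ⟨m, -, -, -, hP⟩ := exists_prel hcov hcard hE H RF DG h1 h2 (fun k hk => by
    rw [← hα]; exact Raut α _ hk)
  obtain ⟨e⟩ := closure_equiv hP ⟨10, by norm_num, by
    rw [if_neg (by norm_num)]
    exact fun h1 => D.ne2 (hφ (by rw [map_one]; exact h1))⟩
  refine ⟨_, ?_, ⟨e⟩⟩
  rw [MonoidHom.range_eq_map, ← hgen, MonoidHom.map_closure, Subgroup.closure_le]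
  rintro _ ⟨_, ⟨i, hi, hi9, rfl⟩, rfl⟩
  exact Subgroup.subset_closure ⟨i, hi, if_neg hi9⟩

/-- **The node part of S1737**, the hypothesis `node` of `Asm.isoM_of`. -/
theorem node [Finite HB] {M' E : Type*} [Group M'] [Group E] (hcov : IsNonsplitDoubleCover M' E)
    (hcard : Nat.card HB ≤ Nat.card E) (hE : ∃ a b : E, ¬ Commute a b) {R : Set E} (H : BabyU.OutCount.Hyp hF R)
    (RF : RootFacts hF R) (Raut : ∀ α : E ≃* E, ∀ r ∈ R, α r ∈ R)
    {B : Type*} [Group B] {τ f₁ f₂ f₃ f₄ : B} (Fc : FusionType.Facts τ f₁ f₂ f₃ f₄)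
    (hdist : ∀ u ∈ ({f₁ * f₂, τ * (f₁ * f₂), f₁ * f₂ * f₃} : Set B),
      Nat.card (Subgroup.centralizer ({u} : Set B)) ≠ Nat.card (Subgroup.centralizer ({f₁} : Set B)))
    {yB : ℕ → B} {h : Pre yB} (h10 : yB 10 = τ) (h5 : IsConj f₁ (yB 5))
    (hgen : Subgroup.closure (nodes13 yB) = ⊤) {π : KK yB →* E} (D : KD h R π)
    [IsSimpleGroup PM] (eM : Nonempty (Spor.Monster ≃* PM))
    {G : Type*} [Group G] [Finite G] (φ : B →* G) (hφ : Function.Injective φ)
    (hr : ∀ x : G, x ∈ φ.range ↔ x * φ τ = φ τ * x) (hconj : IsConj (φ τ) (φ f₁)) :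
    ∃ S : Subgroup G, φ.range ≤ S ∧ Nonempty (S ≃* Spor.Monster) := by
  obtain ⟨n, hn1, hn2⟩ := exists_swap Fc hdist hφ hr hconj
  obtain ⟨c, hc⟩ := isConj_iff.1 h5
  have hcτ : (φ c)⁻¹ * φ τ * φ c = φ τ := by
    have : φ τ * φ c = φ c * φ τ := by rw [← map_mul, ← map_mul, Fc.cen]
    calc (φ c)⁻¹ * φ τ * φ c = (φ c)⁻¹ * (φ τ * φ c) := by group
      _ = _ := by rw [this]; group
  have hcτ' : φ c * φ τ * (φ c)⁻¹ = φ τ := by
    calc φ c * φ τ * (φ c)⁻¹ = φ c * ((φ c)⁻¹ * φ τ * φ c) * (φ c)⁻¹ := by rw [hcτ]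
      _ = φ τ := by group
  have h5' : φ (yB 5) = φ c * φ f₁ * (φ c)⁻¹ := by rw [← hc, map_mul, map_mul, map_inv]
  obtain ⟨S, hS, ⟨e⟩⟩ := exists_sub hcov hcard hE H RF Raut hgen D hφ
    (fun x => by rw [h10]; exact hr x) (n := φ c * n * (φ c)⁻¹)
    (by
      rw [h10, h5', ← hn1]
      calc φ c * n * (φ c)⁻¹ * φ τ * (φ c * n * (φ c)⁻¹)⁻¹ =
          φ c * n * ((φ c)⁻¹ * φ τ * φ c) * n⁻¹ * (φ c)⁻¹ := by group
        _ = _ := by rw [hcτ]; group)
    (by
      rw [h10, h5']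
      calc φ c * n * (φ c)⁻¹ * (φ c * φ f₁ * (φ c)⁻¹) * (φ c * n * (φ c)⁻¹)⁻¹ =
          φ c * (n * φ f₁ * n⁻¹) * (φ c)⁻¹ := by group
        _ = φ τ := by rw [hn2, hcτ'])
  obtain ⟨e'⟩ := eM
  exact ⟨S, hS, ⟨e.trans e'.symm⟩⟩

end final

end Cfsg.Agent.MonsterN
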