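import Cfsg.Agent.MonsterN.RevOf
import Cfsg.Agent.MonsterN.Node

/-!
# `Out (2.B) = 1` from the inputs of `MonsterN.node`

`auto_of` is the field `auto` of `Asm.Model`.
-/

set_option autoImplicit false

namespace Cfsg.Agent.MonsterN.OutOf

open Cfsg Cfsg.Agent.Bimonster Cfsg.Agent.BabyU.OutFree Cfsg.Agent.BabyU.RootCfg
open Cfsg.Agent.TwoESix.Cover

variable {F : Type*} [Field F] [Fintype F] {hF : Fintype.card F = 2 ^ 2}

/-- The words of the ten nodes. -/
theorem ev_mem {B : Type*} [Group B] {y : ℕ → B} {S : Subgroup B} (hS : ∀ i, y (nl i) ∈ S) (w : List (Fin 10)) :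
    TwoESix.Cox10.ev (fun i => y (nl i)) w ∈ S := by
  induction w with
  | nil => exact one_mem _
  | cons i w ih => rw [TwoESix.Cox10.ev_cons]; exact mul_mem (hS i) ih

theorem cases13 : ∀ i < 14, i ≠ 9 → (∃ j, nl j = i) ∨ i = 4 ∨ i = 5 ∨ i = 10 := by decide

theorem top_of {B : Type*} [Group B] {y : ℕ → B} (h : Pre y) (hgen : Subgroup.closure (nodes13 y) = ⊤)
    (S : Subgroup B) (hS : ∀ i, y (nl i) ∈ S) (h4 : y 4 ∈ S) : S = ⊤ := by
  rw [eq_top_iff, ← hgen, Subgroup.closure_le]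
  rintro _ ⟨i, hi, h9, rfl⟩
  rcases cases13 i hi h9 with ⟨j, rfl⟩ | rfl | rfl | rfl
  · exact hS j
  · exact h4
  · rw [← h.sig0]; exact pow_mem (ev_mem hS _) 9
  · rw [← h.sig1]; exact pow_mem (ev_mem hS _) 9

/-- The hypotheses of `OutB`. -/
theorem hyp_of [Finite HB] {M' E : Type*} [Group M'] [Group E] (hcov : IsNonsplitDoubleCover M' E)
    (hcard : Nat.card HB ≤ Nat.card E) (hE : ∃ a b : E, ¬ Commute a b) {R : Set E} (H : BabyU.OutCount.Hyp hF R)
    (Raut : ∀ α : E ≃* E, ∀ r ∈ R, α r ∈ R) {B : Type*} [Group B] {y : ℕ → B} {h : Pre y}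
    (cen : ∀ g : B, g * y 10 = y 10 * g) (hgen : Subgroup.closure (nodes13 y) = ⊤) {π : KK y →* E}
    (D : KD h R π) : OutB.Hyp h R π where
  toKD := D
  cen := cen
  top := top_of h hgen
  auto φ := BabyU.Out.auto hcov hcard hE H D.gg D.node φ fun r hr => Raut φ r hr
  nadj _ _ hij := BabyU.Out.nadj_of_gg D.gg hE hij
  o3 := Raut

/-- **Every automorphism of `2.B` is inner.** -/
theorem auto_of [Finite HB] {M' E : Type*} [Group M'] [Group E] (hcov : IsNonsplitDoubleCover M' E)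
    (hcard : Nat.card HB ≤ Nat.card E) (hE : ∃ a b : E, ¬ Commute a b) {R : Set E} (H : BabyU.OutCount.Hyp hF R)
    (RF : RootFacts hF R) (Raut : ∀ α : E ≃* E, ∀ r ∈ R, α r ∈ R)
    {B : Type*} [Group B] [Finite B] {τ f₁ f₂ f₃ f₄ : B} (Fc : FusionType.Facts τ f₁ f₂ f₃ f₄)
    (hdist : ∀ u ∈ ({f₁ * f₂, τ * (f₁ * f₂), f₁ * f₂ * f₃} : Set B),
      Nat.card (Subgroup.centralizer ({u} : Set B)) ≠ Nat.card (Subgroup.centralizer ({f₁} : Set B)))
    {yB : ℕ → B} {h : Pre yB} (h10 : yB 10 = τ) (h5 : IsConj f₁ (yB 5))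
    (hgen : Subgroup.closure (nodes13 yB) = ⊤) {π : KK yB →* E} (D : KD h R π)
    (hcen : Nat.card (Subgroup.center B) = 2) (α : B ≃* B) : ∃ g : B, ∀ x, α x = g * x * g⁻¹ := by
  have cen : ∀ g : B, g * yB 10 = yB 10 * g := by rw [h10]; exact Fc.cen
  have hyp := hyp_of hcov hcard hE H Raut cen hgen D
  refine OutB.out hyp (OutB.rev h) RF hcen ?_ α
  intro u hu hcu
  have h5c := card_centralizer_conj h5
  -- `yB 5` is not central
  have hnc : Nat.card (Subgroup.centralizer {yB 5} : Subgroup B) ≠ Nat.card B := by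
    intro hc
    have htop : (Subgroup.centralizer {yB 5} : Subgroup B) = ⊤ := Subgroup.eq_top_of_card_eq _ hc
    obtain ⟨t, ht1, ht2⟩ := (Nat.card_eq_two_iff' (1 : Subgroup.center B)).1 hcen
    have m1 : yB 10 ∈ Subgroup.center B := Subgroup.mem_center_iff.2 cen
    have m2 : yB 5 ∈ Subgroup.center B := by
      rw [Subgroup.mem_center_iff]
      intro g
      have : g ∈ (Subgroup.centralizer {yB 5} : Subgroup B) := by rw [htop]; trivial
      exact Subgroup.mem_centralizer_singleton_iff.1 this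
    have e1 := ht2 ⟨_, m1⟩ fun e => D.ne2 (congrArg Subtype.val e)
    have e2 := ht2 ⟨_, m2⟩ fun e => D.ne1 (congrArg Subtype.val e)
    exact D.ne (congrArg Subtype.val (e1.trans e2.symm))
  have hcu1 : ∀ w : B, (∀ g : B, g * w = w * g) → Nat.card (Subgroup.centralizer {w} : Subgroup B) = Nat.card B := by
    intro w hw
    have : (Subgroup.centralizer {w} : Subgroup B) = ⊤ := by
      rw [eq_top_iff]
      intro g _
      exact Subgroup.mem_centralizer_singleton_iff.2 (hw g)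
    rw [this, Subgroup.card_top]
  by_cases hu1 : u = 1
  · exfalso
    apply hnc
    rw [← hcu]
    exact hcu1 u fun g => by rw [hu1, mul_one, one_mul]
  by_cases huτ : u = τ
  · exfalso
    apply hnc
    rw [← hcu]
    exact hcu1 u fun g => by rw [huτ, Fc.cen]
  rcases Fc.classes u hu hu1 huτ with hc | hc | hc | hc
  · exact h5.symm.trans hc
  · exfalso
    exact hdist (f₁ * f₂) (Or.inl rfl) (by rw [card_centralizer_conj hc, hcu, h5c])
  · exfalso
    exact hdist (τ * (f₁ * f₂)) (Or.inr (Or.inl rfl)) (by rw [card_centralizer_conj hc, hcu, h5c])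
  · exfalso
    exact hdist (f₁ * f₂ * f₃) (Or.inr (Or.inr rfl)) (by rw [card_centralizer_conj hc, hcu, h5c])

end Cfsg.Agent.MonsterN.OutOf
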