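import Cfsg.Agent.MonsterN.RealComLat
import Cfsg.Agent.MonsterU.TwoQ
import Cfsg.Agent.CoOneType.InvBridge

/-!
# Square roots of a short element

`M : KS G V P W` with `Lift M θ`, `r` a short element of `P`, `l` an element of `G` with `l * l = ι r`.

* `K_real`, `real` : `l` is conjugate to `ι r * l` in the centralizer of `ι r`;
* `K_com`, `com` : `l` commutes with a conjugate `l₁ ≠ l, ι r * l` of `l` in the centralizer of `ι r`.
-/

set_option autoImplicit false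

namespace Cfsg.Agent.MonsterN.RealCom

open Cfsg Cfsg.Spor Cfsg.Agent.LeechMat.Core Cfsg.Agent.MonsterX.KSide Cfsg.Agent.MonsterX.KLift
open Cfsg.Agent.MonsterX.FrameKS Cfsg.Agent.MonsterX.KModel
open Cfsg.Agent.MonsterU.Lam2 Cfsg.Agent.MonsterU.TwoCls Cfsg.Agent.MonsterU.InvTwo
open Cfsg.Agent.MonsterU.TwoQ
open Cfsg.Agent.SporadicA.Co0Mono (signCo0)
open Cfsg.Agent.SporadicA.Co1Simple
open Cfsg.Agent.CoOneType.ClosingFacts Cfsg.Agent.CoOneType.SignFacts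

/-! ### Lattice and linear algebra -/

/-- Short vectors with the same class are equal up to sign. -/
theorem pm_of_cl {v w : leechLattice} (hv : sqNorm (v : GolayPt → ℤ) = 32)
    (hw : sqNorm (w : GolayPt → ℤ) = 32) (h : cl v = cl w) : v = w ∨ v = -w := by
  obtain ⟨t, ht⟩ := cl_eq.1 h
  have e1 : ∀ i, (v : GolayPt → ℤ) i = (w : GolayPt → ℤ) i + 2 * (t : GolayPt → ℤ) i := by
    intro i
    have h1 := congrArg (fun x : leechLattice => (x : GolayPt → ℤ) i) ht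
    simp only [Cfsg.Agent.MonsterU.InvTwoLat.coe_sub, Cfsg.Agent.MonsterU.InvTwoLat.coe_two] at h1
    linarith
  have e2 : sqNorm (t : GolayPt → ℤ) + sqNorm ((w + t : leechLattice) : GolayPt → ℤ) = 32 := by
    have h2 : 2 * (sqNorm (t : GolayPt → ℤ) + sqNorm ((w + t : leechLattice) : GolayPt → ℤ)) =
        sqNorm (v : GolayPt → ℤ) + sqNorm (w : GolayPt → ℤ) := by
      unfold sqNorm
      rw [← Finset.sum_add_distrib, ← Finset.sum_add_distrib, Finset.mul_sum]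
      refine Finset.sum_congr rfl fun i _ => ?_
      rw [Cfsg.Agent.MonsterU.InvTwoLat.coe_add, e1]; ring
    rw [hv, hw] at h2
    omega
  by_cases ht0 : (t : GolayPt → ℤ) = 0
  · left
    apply Subtype.ext
    funext i
    rw [e1, ht0]; simp
  · right
    have h3 := Cfsg.Agent.S0391.result t t.2 ht0
    have h4 : ((w + t : leechLattice) : GolayPt → ℤ) = 0 := by
      by_contra hne
      have h5 := Cfsg.Agent.S0391.result _ (w + t).2 hne
      omega
    apply Subtype.ext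
    funext i
    have h5 := congrFun h4 i
    rw [Cfsg.Agent.MonsterU.InvTwoLat.coe_add] at h5
    rw [e1, Cfsg.Agent.MonsterU.InvTwoLat.coe_neg]
    have h6 : (0 : GolayPt → ℤ) i = 0 := rfl
    rw [h6] at h5
    linarith

/-- The form as a linear map to the dual space. -/
noncomputable def toDual : L2 →ₗ[ZMod 2] Module.Dual (ZMod 2) L2 :=
  AddMonoidHom.toZModLinearMap 2
    { toFun := fun x => AddMonoidHom.toZModLinearMap 2
        { toFun := fun y => bf x y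
          map_zero' := bf_zero_right x
          map_add' := bf_add_right x }
      map_zero' := by
        ext y
        exact bf_zero_left y
      map_add' := fun x x' => by
        ext y
        exact bf_add_left x x' y }

theorem toDual_apply (x y : L2) : toDual x y = bf x y := rfl

instance : Module.Finite (ZMod 2) L2 := Module.Finite.of_finite

theorem toDual_surjective : Function.Surjective toDual := by
  rw [← LinearMap.injective_iff_surjective_of_finrank_eq_finrank (Subspace.dual_finrank_eq).symm]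
  rw [injective_iff_map_eq_zero]
  intro x hx
  apply bf_nondeg
  intro y
  rw [← toDual_apply, hx]
  rfl

/-- The commutator space of an involution is the orthogonal space of its fixed space. -/
theorem exists_of_perp {A : Co0} (x : L2) (hA : ∀ y : L2, A • A • y = y)
    (h : ∀ v : L2, A • v = v → bf x v = 0) : ∃ y : L2, x = A • y + y := by
  by_contra hcon
  have h1 : x ∉ LinearMap.range (rep0 A + LinearMap.id) := by
    rintro ⟨y, hy⟩
    exact hcon ⟨y, hy.symm⟩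
  obtain ⟨f, hf, hle⟩ := Submodule.exists_le_ker_of_notMem h1
  obtain ⟨v, rfl⟩ := toDual_surjective f
  apply hf
  rw [toDual_apply, bf_comm]
  apply h
  have h2 : ∀ y : L2, bf (A • v + v) y = 0 := by
    intro y
    have h3 : toDual v (A • y + y) = 0 := hle ⟨y, rfl⟩
    rw [toDual_apply, bf_add_right] at h3
    rw [bf_add_left, ← bf_smul A (A • v) y, hA]
    exact h3
  exact eq_of_add_eq_zero (bf_nondeg h2)

/-! ### Group part -/

variable {G V P W : Type*} [Group G] [AddCommGroup V] [Module ℚ V]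
  [DistribMulAction G V] [SMulCommClass G ℚ V] [Group P] [AddCommGroup W] [Module ℚ W]
  {M : KS G V P W} {θ : leechLattice → P}

section core

variable (L : Lift M θ) {l : G} {r : P} {α : P ≃* P}

include L in
theorem sq_alpha (hα : ∀ p, l * M.ι p = M.ι (α p) * l) (hsq : l * l = M.ι r) (p : P) :
    α (α p) = r * p * r⁻¹ := by
  apply ι_inj L
  have h1 : M.ι (α (α p)) * (l * l) = l * l * M.ι p := by
    rw [mul_assoc l, hα, ← mul_assoc l, hα, mul_assoc]
  rw [hsq] at h1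
  rw [map_mul, map_mul, map_inv, ← h1, mul_inv_cancel_right]

theorem conj_eq (hα : ∀ p, l * M.ι p = M.ι (α p) * l) (w : P) :
    M.ι w * l * (M.ι w)⁻¹ = M.ι (w * (α w)⁻¹) * l := by
  have h9 : l * (M.ι w)⁻¹ = (M.ι (α w))⁻¹ * l := by
    rw [← map_inv, hα, map_inv, map_inv]
  rw [mul_assoc, h9, map_mul, map_inv, mul_assoc]

include L in
theorem sq_comm {w : P} (hw : w * α w = α w * w) :
    (w * (α w)⁻¹) * (w * (α w)⁻¹) = 1 := by
  have h1 : α w * α w = w * w := by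
    rw [← map_mul]
    rcases L.sq w with e | e
    · rw [e, map_one]
    · rw [e, α_zc L α]
  have h2 : Commute w (α w) := hw
  have h3 : Commute w (α w)⁻¹ := h2.inv_right
  calc w * (α w)⁻¹ * (w * (α w)⁻¹) = w * ((α w)⁻¹ * w) * (α w)⁻¹ := by group
    _ = w * (w * (α w)⁻¹) * (α w)⁻¹ := by rw [h3.eq]
    _ = (w * w) * (α w * α w)⁻¹ := by group
    _ = 1 := by rw [h1, mul_inv_cancel]

theorem zc_inv : M.zc⁻¹ = M.zc := inv_eq_of_mul_eq_one_left M.zc_mul

include L in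
/-- an element of `P` conjugating `l` to `z l` -/
theorem exists_flip (hα : ∀ p, l * M.ι p = M.ι (α p) * l) (hsq : l * l = M.ι r)
    {w : P} (hw : w * α w = α w * w) (hr : ¬ r * w = w * r) :
    ∃ c : P, M.ι c * l * (M.ι c)⁻¹ = M.z * l := by
  have h1 : α (α w) = M.zc * w := by
    rw [sq_alpha L hα hsq, mul_inv_eq_iff_eq_mul, mul_assoc]
    exact (comm_or' (M := M) r w).resolve_left hr
  refine ⟨w * (α w)⁻¹, ?_⟩
  have h2 := sq_comm L hw
  have h3 : α (w * (α w)⁻¹) = M.zc * (w * (α w)⁻¹) := by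
    have h4 : w * (α w)⁻¹ = α w * w⁻¹ := by
      have h5 : w * (α w)⁻¹ = (w * (α w)⁻¹)⁻¹ := eq_inv_of_mul_eq_one_left h2
      rw [h5]; group
    rw [map_mul, map_inv, h1, mul_inv_rev, zc_inv, h4, ← mul_assoc, M.zc_comm]
  rw [conj_eq hα, h3]
  have h4 : w * (α w)⁻¹ * (M.zc * (w * (α w)⁻¹))⁻¹ = M.zc := by
    rw [mul_inv_rev, zc_inv, mul_inv_cancel_left]
  rw [h4]
  rfl

/-- If `g l g⁻¹` has the same square as `l` then `g` commutes with it. -/
theorem comm_of_sq {g x s : G} (h : l * l = s) (h1 : g * l * g⁻¹ = x) (h2 : x * x = s) :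
    g * s = s * g := by
  have h3 : g * s * g⁻¹ = s := by
    calc g * s * g⁻¹ = g * (l * l) * g⁻¹ := by rw [h]
      _ = (g * l * g⁻¹) * (g * l * g⁻¹) := by group
      _ = s := by rw [h1, h2]
  exact mul_inv_eq_iff_eq_mul.1 h3

include L in
theorem real_core (hl : l ∈ M.K) (hα : ∀ p, l * M.ι p = M.ι (α p) * l) (hsq : l * l = M.ι r)
    (hr2 : r * r = 1) {w : P} (hw : w * α w = α w * w) (hrw : ¬ r * w = w * r)
    {v : P} (hv : clP L r = clP L (v * (α v)⁻¹)) :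
    ∃ h ∈ M.K, h * M.ι r = M.ι r * h ∧ h * l * h⁻¹ = M.ι r * l := by
  have hrl : l * M.ι r = M.ι r * l := by rw [← hsq, mul_assoc]
  have hzl : l * M.z = M.z * l := M.z_comm_K l hl
  have hzr : M.ι r * M.z = M.z * M.ι r := z_comm_ι r
  have hzz : M.z * M.z = 1 := M.z_mul
  have hrr : M.ι r * M.ι r = 1 := by rw [← map_mul, hr2, map_one]
  obtain ⟨c, hc⟩ := exists_flip L hα hsq hw hrw
  have hzl2 : M.z * l * (M.z * l) = M.ι r := by
    rw [mul_assoc, ← mul_assoc l, hzl, mul_assoc M.z l, ← mul_assoc M.z M.z, hzz, one_mul, hsq]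
  have hcr : M.ι c * M.ι r = M.ι r * M.ι c := comm_of_sq hsq hc hzl2
  have hrl2 : M.ι r * l * (M.ι r * l) = M.ι r := by
    rw [mul_assoc, ← mul_assoc l, hrl, mul_assoc (M.ι r) l, ← mul_assoc (M.ι r) (M.ι r), hrr,
      one_mul, hsq]
  have h1 := conj_eq hα v
  rcases (clP_eq' L).1 hv with e | e
  · refine ⟨M.ι v, M.ι_mem v, ?_, ?_⟩
    · rw [← e] at h1
      exact comm_of_sq hsq h1 hrl2
    · rw [h1, ← e]
  · have e' : v * (α v)⁻¹ = M.zc * r := by rw [e, M.zc_zc]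
    rw [e', map_mul] at h1
    have h1' : M.ι v * l * (M.ι v)⁻¹ = M.z * (M.ι r * l) := by rw [h1, mul_assoc]; rfl
    have h2 : M.z * (M.ι r * l) * (M.z * (M.ι r * l)) = M.ι r := by
      have h3 : M.ι r * l * M.z = M.z * (M.ι r * l) := by
        rw [mul_assoc, hzl, ← mul_assoc, hzr, mul_assoc]
      rw [mul_assoc M.z, ← mul_assoc (M.ι r * l) M.z, h3, mul_assoc M.z (M.ι r * l), ← mul_assoc M.z M.z,
        hzz, one_mul, hrl2]
    have hvr := comm_of_sq hsq h1' h2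
    refine ⟨M.ι c * M.ι v, M.K.mul_mem (M.ι_mem c) (M.ι_mem v), ?_, ?_⟩
    · rw [mul_assoc, hvr, ← mul_assoc, hcr, mul_assoc]
    · have hcz : M.ι c * M.z = M.z * M.ι c := z_comm_ι c
      calc M.ι c * M.ι v * l * (M.ι c * M.ι v)⁻¹
          = M.ι c * (M.ι v * l * (M.ι v)⁻¹) * (M.ι c)⁻¹ := by group
        _ = M.ι c * M.z * M.ι r * l * (M.ι c)⁻¹ := by rw [h1']; group
        _ = M.z * (M.ι c * M.ι r) * l * (M.ι c)⁻¹ := by rw [hcz]; group
        _ = M.z * M.ι r * (M.ι c * l * (M.ι c)⁻¹) := by rw [hcr]; group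
        _ = M.z * (M.ι r * M.z) * l := by rw [hc]; group
        _ = M.z * M.z * M.ι r * l := by rw [hzr]; group
        _ = M.ι r * l := by rw [hzz, one_mul]

include L in
theorem com_core (hα : ∀ p, l * M.ι p = M.ι (α p) * l) (hsq : l * l = M.ι r)
    {w : P} (hw : w * α w = α w * w) (hrw : r * w = w * r)
    (h1 : w * (α w)⁻¹ ≠ 1) (h2 : w * (α w)⁻¹ ≠ r) :
    ∃ h ∈ M.K, h * M.ι r = M.ι r * h ∧ l * (h * l * h⁻¹) = h * l * h⁻¹ * l ∧ h * l * h⁻¹ ≠ l ∧
      h * l * h⁻¹ ≠ M.ι r * l := by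
  have e1 : α (α w) = w := by
    rw [sq_alpha L hα hsq, mul_inv_eq_iff_eq_mul]; exact hrw
  have e2 := sq_comm L hw
  have e3 : α (w * (α w)⁻¹) = w * (α w)⁻¹ := by
    have h5 : w * (α w)⁻¹ = (w * (α w)⁻¹)⁻¹ := eq_inv_of_mul_eq_one_left e2
    rw [map_mul, map_inv, e1]
    conv_rhs => rw [h5]
    group
  have e4 := conj_eq hα w
  refine ⟨M.ι w, M.ι_mem w, by rw [← map_mul, ← map_mul, hrw], ?_, ?_, ?_⟩
  · rw [e4, ← mul_assoc, hα, e3]
  · rw [e4]
    intro h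
    apply h1
    apply ι_inj L
    rw [map_one]
    exact mul_eq_right.1 h
  · rw [e4]
    intro h
    exact h2 (ι_inj L (mul_right_cancel h))

end core

section K

variable (L : Lift M θ) {l : G} {r : P}

/-- The normal form: `l` induces the sign change on `O`, negating the short vector `v` over `r`. -/
structure Data (L : Lift M θ) (l : G) (r : P) (ε : Co0) (O : Finset GolayPt) (v : leechLattice) :
    Prop where
  mem : l ∈ M.K
  ind : Ind M l ε
  sq : l * l = M.ι r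
  word : O ∈ Cfsg.Agent.Leech.Code.Words
  out : ∃ j, j ∉ O
  eps : Cfsg.Agent.MonsterU.InvTwoLat.IsEps ε O
  norm : sqNorm (v : GolayPt → ℤ) = 32
  cl : cl v = clP L r
  neg : ε • v = -v

variable {L} {ε : Co0} {O : Finset GolayPt} {v : leechLattice}

theorem Data.sq_one (D : Data L l r ε O v) : r * r = 1 := by
  rw [sq_iff_qf L]
  exact qf_type2 ⟨v, by rw [D.norm]; norm_num, D.cl⟩

theorem Data.exists_v (D : Data L l r ε O v) {α : P ≃* P} (hα : ∀ p, l * M.ι p = M.ι (α p) * l)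
    (hcl : ∀ p, clP L (α p) = ε • clP L p) : ∃ p, clP L r = clP L (p * (α p)⁻¹) := by
  have hzl : l * M.z = M.z * l := M.z_comm_K l D.mem
  have hzz : M.z * M.z = 1 := M.z_mul
  obtain ⟨y, hy⟩ := exists_of_perp (A := ε) (clP L r) (fun y => by
    obtain ⟨p, rfl⟩ := clP_surjective L y
    rw [← hcl, ← hcl, sq_alpha L hα D.sq, clP_conj]) (fun u hu => by
    obtain ⟨p, rfl⟩ := clP_surjective L u
    rw [← comm_iff_bf L]
    have h1 := conj_eq hα p
    have h2 : M.ι p * M.ι r = M.ι r * M.ι p := by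
      rw [← hcl] at hu
      rcases (clP_eq' L).1 hu with e | e
      · rw [e, mul_inv_cancel, map_one, one_mul] at h1
        exact comm_of_sq D.sq h1 D.sq
      · have h3 : p * (α p)⁻¹ = M.zc := by
          rw [e, mul_inv_rev, zc_inv, mul_inv_cancel_left]
        rw [h3] at h1
        refine comm_of_sq D.sq h1 ?_
        show M.z * l * (M.z * l) = M.ι r
        rw [mul_assoc, ← mul_assoc l, hzl, mul_assoc M.z l, ← mul_assoc M.z M.z, hzz, one_mul, D.sq]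
    apply ι_inj L
    rw [map_mul, map_mul, h2])
  obtain ⟨p, rfl⟩ := clP_surjective L y
  refine ⟨p, ?_⟩
  rw [clP_mul, clP_inv, hcl, hy, add_comm]

theorem Data.comm_of_dot {α : P ≃* P} (hcl : ∀ p, clP L (α p) = ε • clP L p) {w : leechLattice}
    (hw : (16 : ℤ) ∣ dotInt (w : GolayPt → ℤ) ((ε • w : leechLattice) : GolayPt → ℤ)) :
    θ w * α (θ w) = α (θ w) * θ w := by
  rw [comm_iff_bf L, hcl, clP_θ, smul_cl, bf_cl_eq_zero]
  exact hw

theorem Data.comm_r (D : Data L l r ε O v) (w : leechLattice) :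
    r * θ w = θ w * r ↔ (16 : ℤ) ∣ dotInt (v : GolayPt → ℤ) (w : GolayPt → ℤ) := by
  rw [comm_iff_bf L, clP_θ, ← D.cl, bf_cl_eq_zero]

theorem Data.real (D : Data L l r ε O v) :
    ∃ h ∈ M.K, h * M.ι r = M.ι r * h ∧ h * l * h⁻¹ = M.ι r * l := by
  obtain ⟨α, hα, hcl⟩ := aut L D.mem D.ind
  obtain ⟨j, hj⟩ := D.out
  obtain ⟨w, hw, hrw⟩ := Cfsg.Agent.MonsterN.RealComLat.exists_odd D.word D.eps hj D.neg D.norm
  obtain ⟨p, hp⟩ := D.exists_v hα hcl
  exact real_core L D.mem hα D.sq D.sq_one (Data.comm_of_dot hcl hw)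
    (fun h => hrw ((D.comm_r w).1 h)) hp

theorem Data.com (D : Data L l r ε O v) :
    ∃ h ∈ M.K, h * M.ι r = M.ι r * h ∧ l * (h * l * h⁻¹) = h * l * h⁻¹ * l ∧ h * l * h⁻¹ ≠ l ∧
      h * l * h⁻¹ ≠ M.ι r * l := by
  obtain ⟨α, hα, hcl⟩ := aut L D.mem D.ind
  obtain ⟨j, hj⟩ := D.out
  obtain ⟨w, hw, hrw, h1, h2⟩ :=
    Cfsg.Agent.MonsterN.RealComLat.exists_comm D.word D.eps hj D.neg D.norm
  have h3 : clP L (θ w * (α (θ w))⁻¹) = Cfsg.Agent.MonsterU.Lam2.cl (w - ε • w) := by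
    rw [clP_mul, clP_inv, hcl, clP_θ, smul_cl, cl_sub]
  refine com_core L hα D.sq (Data.comm_of_dot hcl hw) ((D.comm_r w).2 hrw) ?_ ?_
  · intro e
    rw [e, clP_one] at h3
    exact h1 (cl_eq_zero.1 h3.symm)
  · intro e
    rw [e, ← D.cl] at h3
    exact h2 (cl_eq.1 h3.symm)

theorem not_center (L : Lift M θ) {r : P} (hr : r ∈ M.Sh) : ¬ ∃ q, M.ι q * M.ι q = M.ι r := by
  rintro ⟨q, hq⟩
  rw [← map_mul] at hq
  have h1 : q * q = r := ι_inj L hq
  have h2 : clP L r = 0 := by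
    rw [clP_eq_zero, ← h1]
    exact L.sq q
  obtain ⟨v, hv, hvc⟩ := (mem_Sh_iff L r).1 hr
  rw [h2] at hvc
  obtain ⟨u, rfl⟩ := cl_eq_zero.1 hvc
  have h5 : sqNorm ((2 • u : leechLattice) : GolayPt → ℤ) = 4 * sqNorm (u : GolayPt → ℤ) := by
    have : ((2 • u : leechLattice) : GolayPt → ℤ) = (2 : ℤ) • (u : GolayPt → ℤ) := by
      rw [two_smul, two_smul]; rfl
    rw [this, Cfsg.Agent.LeechMat.Core.sqNorm_smul]; norm_num
  rw [h5] at hv
  have h6 := dvd_norm u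
  omega

/-- the data from a sign change -/
theorem mkData (L : Lift M θ) {l : G} {r : P} (hl : l ∈ M.K) (hr : r ∈ M.Sh) (hsq : l * l = M.ι r)
    {c : golayCode} (hI : Ind M l (signCo0 c)) {v : leechLattice}
    (hn : sqNorm (v : GolayPt → ℤ) = 32) (hc : cl v = clP L r) (hneg : signCo0 c • v = -v) :
    Data L l r (signCo0 c) (support₂ (c : GolayPt → ZMod 2)) v where
  mem := hl
  ind := hI
  sq := hsq
  word := ⟨_, c.2, rfl⟩
  out := by
    by_contra hcon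
    push Not at hcon
    have h1 : wt c = 24 := by
      have h2 : (support₂ (c : GolayPt → ZMod 2)) = Finset.univ := Finset.eq_univ_of_forall hcon
      show (support₂ (c : GolayPt → ZMod 2)).card = 24
      rw [h2]
      decide +kernel
    have h2 := eq_allOne_of_wt h1
    rw [h2] at hI
    obtain ⟨q, hq⟩ := (Ind_mem_iff hl hI).2 ((mk_eq_one _).2 (Or.inr rfl))
    exact not_center L hr ⟨q, by rw [← hq, hsq]⟩
  eps := Cfsg.Agent.MonsterU.InvTwoLat.isEps_sign c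
  norm := hn
  cl := hc
  neg := hneg

theorem exists_data (L : Lift M θ) {l : G} {r : P} (hl : l ∈ M.K) (hr : r ∈ M.Sh)
    (hsq : l * l = M.ι r) :
    ∃ k ∈ M.K, ∃ (r' : P) (ε : Co0) (O : Finset GolayPt) (v : leechLattice),
      k * M.ι r * k⁻¹ = M.ι r' ∧ Data L (k * l * k⁻¹) r' ε O v := by
  obtain ⟨A, hA⟩ := ind_exists hl
  obtain ⟨α, hα, hcl⟩ := aut L hl hA
  obtain ⟨v, hv, hvc⟩ := (mem_Sh_iff L r).1 hr
  have hv32 : sqNorm (v : GolayPt → ℤ) = 32 := by rw [hv]; norm_num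
  -- `A` fixes the class of `r`
  have hrl : l * M.ι r = M.ι r * l := by rw [← hsq, mul_assoc]
  have hαr : α r = r := by
    apply ι_inj L
    have h1 := hα r
    rw [hrl] at h1
    exact (mul_right_cancel h1).symm
  have hAv : A • v = v ∨ A • v = -v := by
    apply pm_of_cl (by rw [co0_sqNorm, hv32]) hv32
    have h1 := hcl r
    rw [hαr, ← hvc, smul_cl] at h1
    exact h1.symm
  have hAAv : A • A • v = v := by
    rcases hAv with e | e
    · rw [e, e]
    · rw [e, Cfsg.Agent.LeechMat.Core.co0_smul_neg, e, neg_neg]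
  have hAA : A * A = 1 := by
    have h1 : Ind M (M.ι r) (A * A) := by
      have := hA.mul hA
      rwa [hsq] at this
    have h2 : mk (A * A) = 1 := Ind_mk_eq h1 (ind_ι r)
    rcases (mk_eq_one (A * A)).1 h2 with h3 | h3
    · exact h3
    · exfalso
      rw [← mul_smul, h3, allOne_smul] at hAAv
      have h4 : ∀ i, (v : GolayPt → ℤ) i = 0 := by
        intro i
        have h5 := congrArg (fun x : leechLattice => (x : GolayPt → ℤ) i) hAAv
        simp only [Cfsg.Agent.MonsterU.InvTwoLat.coe_neg] at h5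
        omega
      have h5 : sqNorm (v : GolayPt → ℤ) = 0 := by
        unfold sqNorm
        exact Finset.sum_eq_zero fun i _ => by rw [h4 i]; norm_num
      omega
  obtain ⟨g, c, hg⟩ := Cfsg.Agent.CoOneType.InvBridge.conj_sign A hAA
  obtain ⟨k, hk, hkI⟩ := exists_ind M g
  obtain ⟨β, hβ, hβcl⟩ := aut L hk hkI
  have hkr : k * M.ι r * k⁻¹ = M.ι (β r) := by rw [hβ, mul_inv_cancel_right]
  have hsq' : k * l * k⁻¹ * (k * l * k⁻¹) = M.ι (β r) := by
    rw [← hkr, ← hsq]; group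
  have hl' : k * l * k⁻¹ ∈ M.K := M.K.mul_mem (M.K.mul_mem hk hl) (M.K.inv_mem hk)
  have hI' : Ind M (k * l * k⁻¹) (signCo0 c) := by rw [← hg]; exact Ind_conj hA hkI
  have hr' : β r ∈ M.Sh := by
    rw [mem_Sh_iff L, hβcl]
    exact ((mem_Sh_iff L r).1 hr).smul g
  have hn' : sqNorm ((g • v : leechLattice) : GolayPt → ℤ) = 32 := by rw [co0_sqNorm, hv32]
  have hc' : cl (g • v) = clP L (β r) := by rw [hβcl, ← hvc, smul_cl]
  have hs : signCo0 c • (g • v) = g • (A • v) := by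
    rw [← hg, mul_smul, mul_smul, inv_smul_smul]
  rcases hAv with e | e
  · rw [e] at hs
    have hs' : signCo0 (c + allOne) • (g • v) = -(g • v) := by
      rw [Cfsg.Agent.SporadicA.Co0Mono.signCo0_add, mul_smul, allOne_smul,
        Cfsg.Agent.LeechMat.Core.co0_smul_neg, hs]
    exact ⟨k, hk, β r, _, _, _, hkr,
      mkData L hl' hr' hsq' (Ind_of_mk hI' (mk_add_allOne c).symm) hn' hc' hs'⟩
  · rw [e, Cfsg.Agent.LeechMat.Core.co0_smul_neg] at hs
    exact ⟨k, hk, β r, _, _, _, hkr, mkData L hl' hr' hsq' hI' hn' hc' hs⟩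

/-- **Reality in `K`.** -/
theorem K_real (L : Lift M θ) {l : G} {r : P} (hl : l ∈ M.K) (hr : r ∈ M.Sh)
    (hsq : l * l = M.ι r) :
    ∃ h ∈ M.K, h * M.ι r = M.ι r * h ∧ h * l * h⁻¹ = M.ι r * l := by
  obtain ⟨k, hk, r', ε, O, v, hkr, D⟩ := exists_data L hl hr hsq
  obtain ⟨h, hh, h1, h2⟩ := D.real
  refine ⟨k⁻¹ * h * k, M.K.mul_mem (M.K.mul_mem (M.K.inv_mem hk) hh) hk, ?_, ?_⟩
  · have h3 : M.ι r = k⁻¹ * M.ι r' * k := by rw [← hkr]; group
    rw [h3]
    calc k⁻¹ * h * k * (k⁻¹ * M.ι r' * k) = k⁻¹ * (h * M.ι r') * k := by group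
      _ = k⁻¹ * (M.ι r' * h) * k := by rw [h1]
      _ = _ := by group
  · calc k⁻¹ * h * k * l * (k⁻¹ * h * k)⁻¹ = k⁻¹ * (h * (k * l * k⁻¹) * h⁻¹) * k := by group
      _ = k⁻¹ * (M.ι r' * (k * l * k⁻¹)) * k := by rw [h2]
      _ = M.ι r * l := by rw [← hkr]; group

/-- **Commuting conjugates in `K`.** -/
theorem K_com (L : Lift M θ) {l : G} {r : P} (hl : l ∈ M.K) (hr : r ∈ M.Sh)
    (hsq : l * l = M.ι r) :
    ∃ h ∈ M.K, h * M.ι r = M.ι r * h ∧ l * (h * l * h⁻¹) = h * l * h⁻¹ * l ∧ h * l * h⁻¹ ≠ l ∧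
      h * l * h⁻¹ ≠ M.ι r * l := by
  obtain ⟨k, hk, r', ε, O, v, hkr, D⟩ := exists_data L hl hr hsq
  obtain ⟨h, hh, h1, h2, h3, h4⟩ := D.com
  have e : k⁻¹ * h * k * l * (k⁻¹ * h * k)⁻¹ = k⁻¹ * (h * (k * l * k⁻¹) * h⁻¹) * k := by group
  refine ⟨k⁻¹ * h * k, M.K.mul_mem (M.K.mul_mem (M.K.inv_mem hk) hh) hk, ?_, ?_, ?_, ?_⟩
  · have h3 : M.ι r = k⁻¹ * M.ι r' * k := by rw [← hkr]; group
    rw [h3]
    calc k⁻¹ * h * k * (k⁻¹ * M.ι r' * k) = k⁻¹ * (h * M.ι r') * k := by group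
      _ = k⁻¹ * (M.ι r' * h) * k := by rw [h1]
      _ = _ := by group
  · rw [e]
    calc l * (k⁻¹ * (h * (k * l * k⁻¹) * h⁻¹) * k)
        = k⁻¹ * (k * l * k⁻¹ * (h * (k * l * k⁻¹) * h⁻¹)) * k := by group
      _ = k⁻¹ * (h * (k * l * k⁻¹) * h⁻¹ * (k * l * k⁻¹)) * k := by rw [h2]
      _ = _ := by group
  · rw [e]
    intro h5
    apply h3
    calc h * (k * l * k⁻¹) * h⁻¹ = k * (k⁻¹ * (h * (k * l * k⁻¹) * h⁻¹) * k) * k⁻¹ := by group
      _ = _ := by rw [h5]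
  · rw [e]
    intro h5
    apply h4
    calc h * (k * l * k⁻¹) * h⁻¹ = k * (k⁻¹ * (h * (k * l * k⁻¹) * h⁻¹) * k) * k⁻¹ := by group
      _ = k * (M.ι r * l) * k⁻¹ := by rw [h5]
      _ = _ := by rw [← hkr]; group

end K

/-! ### The centralizer in `Γ` -/

/-- A `2`-element is conjugate into a subgroup of odd index. -/
theorem exists_conj_pow {Γ : Type*} [Group Γ] [Finite Γ] (K : Subgroup Γ) (hK : ¬ 2 ∣ K.index)
    (u : Γ) (n : ℕ) (hu : u ^ 2 ^ n = 1) : ∃ g : Γ, g * u * g⁻¹ ∈ K := by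
  have hp : IsPGroup 2 (Subgroup.zpowers u) := by
    have h7 : orderOf u ∣ 2 ^ n := orderOf_dvd_of_pow_eq_one hu
    obtain ⟨k, _, hk⟩ := (Nat.dvd_prime_pow Nat.prime_two).1 h7
    exact IsPGroup.of_card (n := k) (by rw [Nat.card_zpowers, hk])
  have : Fact (Nat.Prime 2) := ⟨Nat.prime_two⟩
  obtain ⟨x, hx⟩ := hp.nonempty_fixed_point_of_prime_not_dvd_card (Γ ⧸ K)
    (by rw [← Subgroup.index_eq_card]; exact hK)
  obtain ⟨g, rfl⟩ := QuotientGroup.mk_surjective x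
  have h8 := hx ⟨u, Subgroup.mem_zpowers _⟩
  have h9 : (QuotientGroup.mk (u * g) : Γ ⧸ K) = QuotientGroup.mk g := h8
  have h10 := QuotientGroup.eq.1 h9.symm
  refine ⟨g⁻¹, ?_⟩
  rw [inv_inv]
  rwa [← mul_assoc] at h10

theorem exists_conj_pow' {G : Type*} [Group G] {K Γ : Subgroup G} (hΓ : Finite Γ)
    (hK : ¬ 2 ∣ K.relIndex Γ) {u : G} (hu : u ∈ Γ) (n : ℕ) (hu2 : u ^ 2 ^ n = 1) :
    ∃ g ∈ Γ, g * u * g⁻¹ ∈ K := by
  obtain ⟨g, hg⟩ := exists_conj_pow (K.subgroupOf Γ) hK ⟨u, hu⟩ n (Subtype.ext hu2)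
  exact ⟨g, g.2, hg⟩

section Gam

variable (L : Lift M θ) {Γ : Subgroup G} (hK : M.K ≤ Γ) (hΓ : Finite Γ) {r : P} (hr : r ∈ M.Sh)
  (hodd : ¬ 2 ∣ M.K.relIndex (Γ ⊓ Subgroup.centralizer {M.ι r})) {l : G} (hl : l ∈ Γ)
  (hsq : l * l = M.ι r)

include L hr in
theorem pow_four {l : G} (hsq : l * l = M.ι r) : l ^ 2 ^ 2 = 1 := by
  have hr2 : r * r = 1 := by
    rw [sq_iff_qf L]
    exact qf_type2 ((mem_Sh_iff L r).1 hr)
  have h1 : l ^ 2 ^ 2 = l * l * (l * l) := by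
    rw [show (2 : ℕ) ^ 2 = 2 + 2 by norm_num, pow_add, pow_two]
  rw [h1, hsq, ← map_mul, hr2, map_one]

include L hΓ hr hodd hl hsq in
theorem to_K : ∃ g ∈ Γ, g * M.ι r = M.ι r * g ∧ g * l * g⁻¹ ∈ M.K ∧
    g * l * g⁻¹ * (g * l * g⁻¹) = M.ι r := by
  have hrl : l * M.ι r = M.ι r * l := by rw [← hsq, mul_assoc]
  have hf : Finite ↥(Γ ⊓ Subgroup.centralizer {M.ι r}) :=
    Finite.of_injective _ (Subgroup.inclusion_injective inf_le_left)
  obtain ⟨g, hg, hgK⟩ := exists_conj_pow' hf hodd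
    (u := l) ⟨hl, Subgroup.mem_centralizer_singleton_iff.2 hrl⟩ 2 (pow_four L hr hsq)
  have hgr : g * M.ι r = M.ι r * g := Subgroup.mem_centralizer_singleton_iff.1 hg.2
  refine ⟨g, hg.1, hgr, hgK, ?_⟩
  calc g * l * g⁻¹ * (g * l * g⁻¹) = g * (l * l) * g⁻¹ := by group
    _ = M.ι r := by rw [hsq, hgr, mul_inv_cancel_right]

include L hK hΓ hr hodd hl hsq in
/-- **`real`**: a square root `l` of `ι r` is conjugate to `ι r * l` in the centralizer of `ι r`. -/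
theorem real : ∃ h ∈ Γ, h * M.ι r = M.ι r * h ∧ h * l * h⁻¹ = M.ι r * l := by
  obtain ⟨g, hg, hgr, hgK, hgs⟩ := to_K L hΓ hr hodd hl hsq
  obtain ⟨h, hh, h1, h2⟩ := K_real L hgK hr hgs
  have hgr' : g⁻¹ * M.ι r = M.ι r * g⁻¹ := by
    rw [inv_mul_eq_iff_eq_mul, ← mul_assoc, hgr, mul_inv_cancel_right]
  refine ⟨g⁻¹ * h * g, Γ.mul_mem (Γ.mul_mem (Γ.inv_mem hg) (hK hh)) hg, ?_, ?_⟩
  · calc g⁻¹ * h * g * M.ι r = g⁻¹ * h * (g * M.ι r) := by group
      _ = g⁻¹ * (h * M.ι r) * g := by rw [hgr]; group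
      _ = (g⁻¹ * M.ι r) * h * g := by rw [h1]; group
      _ = _ := by rw [hgr']; group
  · calc g⁻¹ * h * g * l * (g⁻¹ * h * g)⁻¹ = g⁻¹ * (h * (g * l * g⁻¹) * h⁻¹) * g := by group
      _ = (g⁻¹ * M.ι r) * g * l := by rw [h2]; group
      _ = _ := by rw [hgr']; group

include L hK hΓ hr hodd hl hsq in
/-- **`com`**: a square root `l` of `ι r` commutes with a conjugate of `l` in the centralizer of
`ι r`, different from `l` and `ι r * l`. -/
theorem com : ∃ h ∈ Γ, h * M.ι r = M.ι r * h ∧ l * (h * l * h⁻¹) = h * l * h⁻¹ * l ∧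
    h * l * h⁻¹ ≠ l ∧ h * l * h⁻¹ ≠ M.ι r * l := by
  obtain ⟨g, hg, hgr, hgK, hgs⟩ := to_K L hΓ hr hodd hl hsq
  obtain ⟨h, hh, h1, h2, h3, h4⟩ := K_com L hgK hr hgs
  have hgr' : g⁻¹ * M.ι r = M.ι r * g⁻¹ := by
    rw [inv_mul_eq_iff_eq_mul, ← mul_assoc, hgr, mul_inv_cancel_right]
  have e : g⁻¹ * h * g * l * (g⁻¹ * h * g)⁻¹ = g⁻¹ * (h * (g * l * g⁻¹) * h⁻¹) * g := by group
  refine ⟨g⁻¹ * h * g, Γ.mul_mem (Γ.mul_mem (Γ.inv_mem hg) (hK hh)) hg, ?_, ?_, ?_, ?_⟩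
  · calc g⁻¹ * h * g * M.ι r = g⁻¹ * h * (g * M.ι r) := by group
      _ = g⁻¹ * (h * M.ι r) * g := by rw [hgr]; group
      _ = (g⁻¹ * M.ι r) * h * g := by rw [h1]; group
      _ = _ := by rw [hgr']; group
  · rw [e]
    calc l * (g⁻¹ * (h * (g * l * g⁻¹) * h⁻¹) * g)
        = g⁻¹ * (g * l * g⁻¹ * (h * (g * l * g⁻¹) * h⁻¹)) * g := by group
      _ = g⁻¹ * (h * (g * l * g⁻¹) * h⁻¹ * (g * l * g⁻¹)) * g := by rw [h2]
      _ = _ := by group
  · rw [e]
    intro h5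
    apply h3
    calc h * (g * l * g⁻¹) * h⁻¹ = g * (g⁻¹ * (h * (g * l * g⁻¹) * h⁻¹) * g) * g⁻¹ := by group
      _ = _ := by rw [h5]
  · rw [e]
    intro h5
    apply h4
    calc h * (g * l * g⁻¹) * h⁻¹ = g * (g⁻¹ * (h * (g * l * g⁻¹) * h⁻¹) * g) * g⁻¹ := by group
      _ = g * M.ι r * l * g⁻¹ := by rw [h5]; group
      _ = _ := by rw [hgr]; group

end Gam

end Cfsg.Agent.MonsterN.RealCom
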