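import Cfsg.Agent.MonsterU.InvTwoLat
import Cfsg.Agent.MonsterU.Lam2
import Cfsg.Agent.SporadicStructure.GolayInterp
import Cfsg.Agent.S0391

/-!
# Sign changes and short vectors

Lemmas on the lattice for the reality and commutation facts in the centralizer of a short element:
`ε` is the sign change on the code word `O`, `r` a vector of norm `32` with `ε r = -r`.
-/

set_option autoImplicit false

namespace Cfsg.Agent.MonsterN.RealComLat

open Cfsg Cfsg.Agent.Leech.Basic Cfsg.Agent.Leech.Code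
open Cfsg.Agent.SporadicStructure.Co0Base
open Cfsg.Agent.MonsterU.InvTwoLat

/-- Even vectors are orthogonal to their image under a sign change. -/
theorem dot_sign {ε : Co0} {O : Finset GolayPt} (hO : O ∈ Words) (hε : IsEps ε O)
    (w : leechLattice) (hw : IsLeech 0 (w : GolayPt → ℤ)) :
    (16 : ℤ) ∣ dotInt (w : GolayPt → ℤ) ((ε • w : leechLattice) : GolayPt → ℤ) := by
  obtain ⟨B, hB, hwB⟩ := exists_cl hw
  have h1 : dotInt (w : GolayPt → ℤ) ((ε • w : leechLattice) : GolayPt → ℤ) =
      sqNorm (w : GolayPt → ℤ) - 2 * ∑ i ∈ O, (w : GolayPt → ℤ) i * (w : GolayPt → ℤ) i := by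
    unfold dotInt sqNorm
    rw [← sum_chi_mul O, Finset.mul_sum, ← Finset.sum_sub_distrib]
    refine Finset.sum_congr rfl fun i _ => ?_
    have h2 := hε.sub w i
    rw [coe_sub] at h2
    have h3 : ((ε • w : leechLattice) : GolayPt → ℤ) i =
        (w : GolayPt → ℤ) i - 2 * (chi O i * (w : GolayPt → ℤ) i) := by linarith
    rw [h3]; ring
  have h2 : (16 : ℤ) ∣ sqNorm (w : GolayPt → ℤ) := Cfsg.Agent.MonsterU.Lam2.dvd_norm w
  have h3 : (8 : ℤ) ∣ ∑ i ∈ O, (w : GolayPt → ℤ) i * (w : GolayPt → ℤ) i := by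
    have h4 : (8 : ℤ) ∣ ∑ i ∈ O, ((w : GolayPt → ℤ) i * (w : GolayPt → ℤ) i - 4 * chi B i) := by
      refine Finset.dvd_sum fun i _ => ?_
      obtain ⟨k, hk⟩ := hwB i
      have h5 : (w : GolayPt → ℤ) i = 2 * chi B i + 4 * k := by linarith
      rw [h5]
      unfold chi
      split_ifs
      · exact ⟨2 * k + 2 * k * k, by ring⟩
      · exact ⟨2 * k * k, by ring⟩
    rw [Finset.sum_sub_distrib, ← Finset.mul_sum] at h4
    have h5 := even_sum_chi hB hO
    omega
  rw [h1]
  omega

theorem isLeech_pr (i j : GolayPt) : IsLeech 0 ((pr i j : leechLattice) : GolayPt → ℤ) := by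
  rcases isLeech_zero_or_one (pr i j).2 with h | h
  · exact h
  · exfalso
    have h2 := h.par none
    rw [pr_coe] at h2
    unfold Int.ModEq at h2
    omega

theorem dot_pr (x : leechLattice) (i j : GolayPt) :
    dotInt (x : GolayPt → ℤ) ((pr i j : leechLattice) : GolayPt → ℤ) =
      4 * ((x : GolayPt → ℤ) i + (x : GolayPt → ℤ) j) := by
  unfold dotInt
  have h4 : ∀ k, (x : GolayPt → ℤ) k * ((pr i j : leechLattice) : GolayPt → ℤ) k =
      (if k = i then 4 * (x : GolayPt → ℤ) k else 0) +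
        (if k = j then 4 * (x : GolayPt → ℤ) k else 0) := by
    intro k
    rw [pr_coe]
    split_ifs <;> ring
  simp only [h4]
  rw [Finset.sum_add_distrib, Finset.sum_ite_eq', Finset.sum_ite_eq']
  simp only [Finset.mem_univ, if_true]
  ring

/-- the support of a vector negated by a sign change -/
theorem zero_of_neg {ε : Co0} {O : Finset GolayPt} (hε : IsEps ε O) {r : leechLattice}
    (hr : ε • r = -r) {j : GolayPt} (hj : j ∉ O) : (r : GolayPt → ℤ) j = 0 := by
  have h1 := hε r j
  rw [hr, coe_neg, if_neg hj] at h1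
  omega

/-- the vector `2 χ_d + 4 a` -/
def vf (d : Finset GolayPt) (hd : d ∈ Words) (a : GolayPt → ℤ) (ha : (2 : ℤ) ∣ ∑ i, a i) :
    leechLattice := ⟨fun i => 2 * chi d i + 4 * a i, mem_form hd a ha⟩

theorem vf_coe (d : Finset GolayPt) (hd : d ∈ Words) (a : GolayPt → ℤ) (ha : (2 : ℤ) ∣ ∑ i, a i)
    (i : GolayPt) : ((vf d hd a ha : leechLattice) : GolayPt → ℤ) i = 2 * chi d i + 4 * a i := rfl

theorem isLeech_vf (d : Finset GolayPt) (hd : d ∈ Words) (a : GolayPt → ℤ)
    (ha : (2 : ℤ) ∣ ∑ i, a i) : IsLeech 0 ((vf d hd a ha : leechLattice) : GolayPt → ℤ) := by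
  rcases isLeech_zero_or_one (vf d hd a ha).2 with h | h
  · exact h
  · exfalso
    have h2 := h.par none
    rw [vf_coe] at h2
    unfold Int.ModEq at h2
    omega

theorem dot_vf (x : leechLattice) (d : Finset GolayPt) (hd : d ∈ Words) (a : GolayPt → ℤ)
    (ha : (2 : ℤ) ∣ ∑ i, a i) :
    dotInt (x : GolayPt → ℤ) ((vf d hd a ha : leechLattice) : GolayPt → ℤ) =
      2 * ∑ i ∈ d, (x : GolayPt → ℤ) i + 4 * ∑ i, a i * (x : GolayPt → ℤ) i := by
  unfold dotInt
  rw [← sum_chi_mul d, Finset.mul_sum, Finset.mul_sum, ← Finset.sum_add_distrib]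
  refine Finset.sum_congr rfl fun i _ => ?_
  rw [vf_coe]; ring

/-- Two distinct points are separated by a code word. -/
theorem exists_sep {p q : GolayPt} (h : p ≠ q) : ∃ d ∈ Words, p ∈ d ∧ q ∉ d := by
  classical
  obtain ⟨w, hw, hf⟩ := Cfsg.Agent.SporadicStructure.GolayInterp.exists_word_interp {p, q} (by
    rw [Finset.card_pair h]; norm_num) (fun i => if i = p then 1 else 0)
  refine ⟨support₂ w, ⟨w, hw, rfl⟩, ?_, ?_⟩
  · rw [mem_support₂, hf p (by simp), if_pos rfl]
    exact one_ne_zero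
  · rw [mem_support₂, hf q (by simp), if_neg (Ne.symm h)]
    exact not_not.2 rfl

/-- An integer function with square sum `2`. -/
theorem exists_two (a : GolayPt → ℤ) (h : ∑ i, a i * a i = 2) :
    ∃ p q, p ≠ q ∧ (a p = 1 ∨ a p = -1) ∧ ∀ i, i ≠ p → i ≠ q → a i = 0 := by
  classical
  have hnn : ∀ i, 0 ≤ a i * a i := fun i => mul_self_nonneg _
  have hpos : ∀ i, a i ≠ 0 → 1 ≤ a i * a i := fun i hi => by
    have := hnn i
    have h2 : a i * a i ≠ 0 := mul_ne_zero hi hi
    omega
  obtain ⟨p, hp⟩ : ∃ p, a p ≠ 0 := by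
    by_contra hcon
    push Not at hcon
    rw [Finset.sum_eq_zero fun i _ => by rw [hcon i, mul_zero]] at h
    omega
  have h1 : a p * a p + ∑ i ∈ Finset.univ.erase p, a i * a i = 2 := by
    exact (Finset.add_sum_erase Finset.univ (fun i => a i * a i) (Finset.mem_univ p)).trans h
  obtain ⟨q, hqp, hq⟩ : ∃ q, q ≠ p ∧ a q ≠ 0 := by
    by_contra hcon
    push Not at hcon
    rw [Finset.sum_eq_zero fun i hi => by
      rw [hcon i (Finset.ne_of_mem_erase hi), mul_zero], add_zero] at h1
    have h2 : a p ≤ 1 := by nlinarith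
    have h3 : -1 ≤ a p := by nlinarith
    interval_cases h4 : a p <;> omega
  have h2 : a p * a p + (a q * a q + ∑ i ∈ (Finset.univ.erase p).erase q, a i * a i) = 2 := by
    have h3 : a q * a q + ∑ i ∈ (Finset.univ.erase p).erase q, a i * a i =
        ∑ i ∈ Finset.univ.erase p, a i * a i :=
      Finset.add_sum_erase (Finset.univ.erase p) (fun i => a i * a i)
        (Finset.mem_erase.2 ⟨hqp, Finset.mem_univ q⟩)
    rw [h3]; exact h1
  have h3 : 0 ≤ ∑ i ∈ (Finset.univ.erase p).erase q, a i * a i := Finset.sum_nonneg fun i _ => hnn i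
  have hp1 := hpos p hp
  have hq1 := hpos q hq
  refine ⟨p, q, hqp.symm, ?_, fun i hip hiq => ?_⟩
  · have h4 : a p * a p = 1 := by omega
    have h5 : a p ≤ 1 := by nlinarith
    have h6 : -1 ≤ a p := by nlinarith
    interval_cases h7 : a p <;> omega
  · by_contra hi
    have h4 : a i * a i ≤ ∑ i ∈ (Finset.univ.erase p).erase q, a i * a i :=
      Finset.single_le_sum (f := fun i => a i * a i) (fun i _ => hnn i)
        (Finset.mem_erase.2 ⟨hiq, Finset.mem_erase.2 ⟨hip, Finset.mem_univ i⟩⟩)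
    have h5 := hpos i hi
    omega

/-- **First lattice lemma** -/
theorem exists_odd {ε : Co0} {O : Finset GolayPt} (hO : O ∈ Words) (hε : IsEps ε O)
    {j : GolayPt} (hj : j ∉ O) {r : leechLattice} (hr : ε • r = -r)
    (hn : sqNorm (r : GolayPt → ℤ) = 32) :
    ∃ w : leechLattice, (16 : ℤ) ∣ dotInt (w : GolayPt → ℤ) ((ε • w : leechLattice) : GolayPt → ℤ) ∧
      ¬ (16 : ℤ) ∣ dotInt (r : GolayPt → ℤ) (w : GolayPt → ℤ) := by
  by_cases h : ∃ i, ¬ (4 : ℤ) ∣ (r : GolayPt → ℤ) i
  · obtain ⟨i, hi⟩ := h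
    refine ⟨pr i j, dot_sign hO hε _ (isLeech_pr i j), ?_⟩
    rw [dot_pr, zero_of_neg hε hr hj]
    omega
  · push Not at h
    choose a ha using h
    -- the square sum of `a` is `2`
    have h1 : ∑ i, a i * a i = 2 := by
      have h2 : sqNorm (r : GolayPt → ℤ) = 16 * ∑ i, a i * a i := by
        unfold sqNorm
        rw [Finset.mul_sum]
        refine Finset.sum_congr rfl fun i _ => ?_
        rw [ha i]; ring
      rw [hn] at h2
      omega
    obtain ⟨p, q, hpq, hp, hz⟩ := exists_two a h1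
    obtain ⟨d, hd, hpd, hqd⟩ := exists_sep hpq
    refine ⟨vf d hd 0 (by simp), dot_sign hO hε _ (isLeech_vf d hd 0 _), ?_⟩
    have h3 : ∑ i ∈ d, (r : GolayPt → ℤ) i = 4 * a p := by
      rw [Finset.sum_eq_single p]
      · exact ha p
      · intro b hb hbp
        rw [ha b, hz b hbp (fun e => hqd (e ▸ hb)), mul_zero]
      · intro h; exact absurd hpd h
    have h4 : ∑ i, (0 : GolayPt → ℤ) i * (r : GolayPt → ℤ) i = 0 :=
      Finset.sum_eq_zero fun i _ => zero_mul _
    rw [dot_vf, h3, h4]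
    rcases hp with hp | hp <;> rw [hp] <;> norm_num

/-- the squares of the coordinates on the support -/
theorem sq_of_not_dvd {O : Finset GolayPt} (hO : O ∈ Words) {r : leechLattice} {j : GolayPt}
    (hj : j ∉ O) (hz : ∀ k, k ∉ O → (r : GolayPt → ℤ) k = 0)
    (hn : sqNorm (r : GolayPt → ℤ) = 32) (h : ∀ i ∈ O, ¬ (4 : ℤ) ∣ (r : GolayPt → ℤ) i) :
    O.card = 8 ∧ ∀ i ∈ O, (r : GolayPt → ℤ) i = 2 ∨ (r : GolayPt → ℤ) i = -2 := by
  have h0 : IsLeech 0 (r : GolayPt → ℤ) := even_of_zero (hz j hj)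
  have h1 : ∀ i ∈ O, 4 ≤ (r : GolayPt → ℤ) i * (r : GolayPt → ℤ) i := by
    intro i hi
    have h2 := h0.par i
    have h3 := h i hi
    unfold Int.ModEq at h2
    have h4 : (r : GolayPt → ℤ) i ≤ -2 ∨ 2 ≤ (r : GolayPt → ℤ) i := by omega
    rcases h4 with h4 | h4 <;> nlinarith
  have h2 : ∑ i ∈ O, (r : GolayPt → ℤ) i * (r : GolayPt → ℤ) i = 32 := by
    rw [← hn]
    unfold sqNorm
    rw [← Finset.sum_subset (Finset.subset_univ O)]
    · exact Finset.sum_congr rfl fun i _ => (sq _).symm
    · intro i _ hi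
      rw [hz i hi]; norm_num
  have h3 : (O.card : ℤ) * 4 ≤ 32 := by
    rw [← h2]
    have h4 := Finset.card_nsmul_le_sum O (fun i => (r : GolayPt → ℤ) i * (r : GolayPt → ℤ) i) 4 h1
    rwa [nsmul_eq_mul] at h4
  have h4 : O.card = 8 := by
    have h5 : O.card ≠ 0 := by
      intro h6
      rw [Finset.card_eq_zero.1 h6, Finset.sum_empty] at h2
      omega
    rcases card_words hO with h6 | h6 | h6 | h6 | h6 <;> omega
  refine ⟨h4, fun i hi => ?_⟩
  have h5 : ∑ i ∈ O, ((r : GolayPt → ℤ) i * (r : GolayPt → ℤ) i - 4) = 0 := by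
    rw [Finset.sum_sub_distrib, h2, Finset.sum_const, h4]
    norm_num
  have h6 := (Finset.sum_eq_zero_iff_of_nonneg fun i hi => sub_nonneg.2 (h1 i hi)).1 h5 i hi
  have h7 : (r : GolayPt → ℤ) i ≤ 2 := by nlinarith
  have h8 : -2 ≤ (r : GolayPt → ℤ) i := by nlinarith
  have h9 := h i hi
  have h10 := h0.par i
  unfold Int.ModEq at h10
  omega

/-- **Second lattice lemma** -/
theorem exists_comm {ε : Co0} {O : Finset GolayPt} (hO : O ∈ Words) (hε : IsEps ε O)
    {j : GolayPt} (hj : j ∉ O) {r : leechLattice} (hr : ε • r = -r)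
    (hn : sqNorm (r : GolayPt → ℤ) = 32) :
    ∃ w : leechLattice, (16 : ℤ) ∣ dotInt (w : GolayPt → ℤ) ((ε • w : leechLattice) : GolayPt → ℤ) ∧
      (16 : ℤ) ∣ dotInt (r : GolayPt → ℤ) (w : GolayPt → ℤ) ∧
      (¬ ∃ t : leechLattice, w - ε • w = 2 • t) ∧
      ¬ ∃ t : leechLattice, w - ε • w - r = 2 • t := by
  classical
  have hz : ∀ k, k ∉ O → (r : GolayPt → ℤ) k = 0 := fun k hk => zero_of_neg hε hr hk
  by_cases h : ∃ i ∈ O, (4 : ℤ) ∣ (r : GolayPt → ℤ) i
  · obtain ⟨i, hi, a, ha⟩ := h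
    have hij : i ≠ j := fun e => hj (e ▸ hi)
    have hw : ∀ k, chi O k * ((pr i j : leechLattice) : GolayPt → ℤ) k =
        4 * (if k = i then 1 else 0) := by
      intro k
      rw [pr_coe]
      by_cases hk : k = i
      · rw [hk, chi_mem hi, if_pos rfl, if_neg hij]; ring
      · by_cases hkj : k = j
        · rw [hkj, chi_not_mem hj, if_neg (Ne.symm hij)]; ring
        · rw [if_neg hk, if_neg hkj]; ring
    refine ⟨pr i j, dot_sign hO hε _ (isLeech_pr i j), ?_, ?_, ?_⟩
    · rw [dot_pr, hz j hj, ha]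
      exact ⟨a, by ring⟩
    · rintro ⟨t, ht⟩
      have h1 := even_of_four t (fun k => if k = i then 1 else 0) (fun k => by
        have h2 := congrArg (fun v : leechLattice => (v : GolayPt → ℤ) k) ht
        simp only [hε.sub, coe_two, hw] at h2
        linarith)
      rw [Finset.sum_ite_eq'] at h1
      simp at h1
    · rintro ⟨t, ht⟩
      have h1 : ∀ k, 2 * (t : GolayPt → ℤ) k = 8 * (if k = i then 1 else 0) - (r : GolayPt → ℤ) k := by
        intro k
        have h2 := congrArg (fun v : leechLattice => (v : GolayPt → ℤ) k) ht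
        simp only [coe_sub _ r, hε.sub, coe_two, hw] at h2
        linarith
      have h2 : 4 * sqNorm (t : GolayPt → ℤ) = 96 - 16 * (r : GolayPt → ℤ) i := by
        have h3 : 4 * sqNorm (t : GolayPt → ℤ) =
            ∑ k, ((64 * (if k = i then 1 else 0) - 16 * (if k = i then (r : GolayPt → ℤ) k else 0)) +
              (r : GolayPt → ℤ) k ^ 2) := by
          unfold sqNorm
          rw [Finset.mul_sum]
          refine Finset.sum_congr rfl fun k _ => ?_
          have h4 := h1 k
          have h5 : 4 * (t : GolayPt → ℤ) k ^ 2 = (2 * (t : GolayPt → ℤ) k) ^ 2 := by ring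
          rw [h5, h4]
          split_ifs <;> ring
        rw [h3, Finset.sum_add_distrib, Finset.sum_sub_distrib, ← Finset.mul_sum, ← Finset.mul_sum,
          Finset.sum_ite_eq', Finset.sum_ite_eq']
        have h4 : ∑ k, (r : GolayPt → ℤ) k ^ 2 = 32 := hn
        rw [h4]
        simp only [Finset.mem_univ, if_true]
        ring
      have h3 : (16 : ℤ) ∣ sqNorm (t : GolayPt → ℤ) := Cfsg.Agent.MonsterU.Lam2.dvd_norm t
      rw [ha] at h2
      omega
  · push Not at h
    obtain ⟨h8, h2⟩ := sq_of_not_dvd hO hj hz hn h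
    obtain ⟨a, b, ha, hb, hab⟩ : ∃ a b, a ∈ O ∧ b ∈ O ∧ a ≠ b := by
      obtain ⟨a, ha, b, hb, hab⟩ := Finset.one_lt_card.1 (by omega : 1 < O.card)
      exact ⟨a, b, ha, hb, hab⟩
    obtain ⟨d, hd, hdO⟩ := exists_trace ⟨hO, h8⟩ (S := {a, b}) (by
      intro x hx
      rw [Finset.mem_insert, Finset.mem_singleton] at hx
      rcases hx with rfl | rfl
      · exact ha
      · exact hb) (by rw [Finset.card_pair hab]; exact even_two)
    have had : a ∈ d := by
      have : a ∈ d ∩ O := by rw [hdO]; simp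
      exact (Finset.mem_inter.1 this).1
    have hsum : ∑ i ∈ d, (r : GolayPt → ℤ) i = (r : GolayPt → ℤ) a + (r : GolayPt → ℤ) b := by
      rw [← Finset.sum_pair hab, ← hdO]
      symm
      refine Finset.sum_subset Finset.inter_subset_left fun x hx hx' => ?_
      exact hz x fun hxO => hx' (Finset.mem_inter.2 ⟨hx, hxO⟩)
    obtain ⟨m, hm⟩ : ∃ m : ℤ, (16 : ℤ) ∣ 2 * ((r : GolayPt → ℤ) a + (r : GolayPt → ℤ) b) +
        4 * (m * (r : GolayPt → ℤ) a) := by
      rcases h2 a ha with e | e <;> rcases h2 b hb with e' | e' <;> rw [e, e']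
      · exact ⟨1, by norm_num⟩
      · exact ⟨0, by norm_num⟩
      · exact ⟨0, by norm_num⟩
      · exact ⟨1, by norm_num⟩
    have haj : a ≠ j := fun e => hj (e ▸ ha)
    have hev : (2 : ℤ) ∣ ∑ i, (m * ((if i = a then 1 else 0) + (if i = j then 1 else 0))) := by
      rw [← Finset.mul_sum, Finset.sum_add_distrib, Finset.sum_ite_eq', Finset.sum_ite_eq']
      simp only [Finset.mem_univ, if_true]
      exact ⟨m, by ring⟩
    set a' : GolayPt → ℤ := fun i => m * ((if i = a then 1 else 0) + (if i = j then 1 else 0)) with ha'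
    have hchi : ∀ k ∈ O, chi d k = chi {a, b} k := by
      intro k hk
      unfold chi
      by_cases hkd : k ∈ d
      · have : k ∈ ({a, b} : Finset GolayPt) := by rw [← hdO]; exact Finset.mem_inter.2 ⟨hkd, hk⟩
        rw [if_pos hkd, if_pos this]
      · have : k ∉ ({a, b} : Finset GolayPt) := by
          rw [← hdO]; exact fun h => hkd (Finset.mem_inter.1 h).1
        rw [if_neg hkd, if_neg this]
    refine ⟨vf d hd a' hev, dot_sign hO hε _ (isLeech_vf d hd a' hev), ?_, ?_, ?_⟩
    · have h3 : ∑ i, a' i * (r : GolayPt → ℤ) i = m * (r : GolayPt → ℤ) a := by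
        have h4 : ∀ i, a' i * (r : GolayPt → ℤ) i = (if i = a then m * (r : GolayPt → ℤ) i else 0) +
            (if i = j then m * (r : GolayPt → ℤ) i else 0) := by
          intro i
          rw [ha']
          dsimp only
          split_ifs <;> ring
        simp only [h4]
        rw [Finset.sum_add_distrib, Finset.sum_ite_eq', Finset.sum_ite_eq']
        simp only [Finset.mem_univ, if_true]
        rw [hz j hj]; ring
      rw [dot_vf, hsum, h3]
      exact hm
    · rintro ⟨t, ht⟩
      have h1 : ∀ k, (t : GolayPt → ℤ) k = chi O k * (2 * chi d k + 4 * a' k) := by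
        intro k
        have h2 := congrArg (fun v : leechLattice => (v : GolayPt → ℤ) k) ht
        simp only [hε.sub, coe_two, vf_coe] at h2
        linarith
      have h3 : IsLeech 0 (t : GolayPt → ℤ) := even_of_zero (j := j) (by
        rw [h1, chi_not_mem hj, zero_mul])
      obtain ⟨B, hB, htB⟩ := exists_cl h3
      have h4 : Cl (t : GolayPt → ℤ) {a, b} := by
        intro k
        rw [h1]
        by_cases hk : k ∈ O
        · rw [chi_mem hk, hchi k hk]
          exact ⟨a' k, by ring⟩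
        · have : k ∉ ({a, b} : Finset GolayPt) := by
            rw [← hdO]; exact fun h => hk (Finset.mem_inter.1 h).2
          rw [chi_not_mem hk, chi_not_mem this]
          norm_num
      have h5 := cl_unique htB h4
      rw [h5] at hB
      have h6 := card_words hB
      rw [Finset.card_pair hab] at h6
      omega
    · rintro ⟨t, ht⟩
      have h1 : ∀ k, 2 * (t : GolayPt → ℤ) k =
          2 * (chi O k * (2 * chi d k + 4 * a' k)) - (r : GolayPt → ℤ) k := by
        intro k
        have h2 := congrArg (fun v : leechLattice => (v : GolayPt → ℤ) k) ht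
        simp only [coe_sub _ r, hε.sub, coe_two, vf_coe] at h2
        linarith
      have h3 : IsLeech 0 (t : GolayPt → ℤ) := even_of_zero (j := j) (by
        have h4 := h1 j
        rw [chi_not_mem hj, hz j hj] at h4
        omega)
      have h4 := h3.par a
      have h5 := h1 a
      rw [chi_mem ha, chi_mem had] at h5
      unfold Int.ModEq at h4
      rcases h2 a ha with e | e <;> rw [e] at h5 <;> omega

end Cfsg.Agent.MonsterN.RealComLat
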