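import Cfsg.Agent.MonsterN.Swap
import Cfsg.Agent.MonsterN.FiWord
import Cfsg.Agent.MonsterN.Line
import Cfsg.Agent.R01.IdentWord

/-!
# The fourteenth node commutes with `e₁`

`Ten y e`: `e = e₂` has all the relations of `PRel` except the commutation with `e₁ = y 4`.
`comm`: it commutes with `e₁`.  Proof: with `w` the reversal of the chain `d₃ c₃ b₃ a b₁ c₁ d₁ e₁ f₁` the element
`w e w` commutes with `e₁` and, as `e`, with `a b₁ c₁ d₁ b₂ c₂ b₃ f₁ d₃`, and braids with `f₂`.  In
`C_G(f₁, d₃)/⟨f₁, d₃⟩ ≅ ²E₆(2)` (conjugate to `C_G(f₁, f₂)` by the reversal of the chain `f₂ e₂ d₂ c₂ b₂ a b₃ c₃ d₃`)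
the three root involutions `f₂, e, w e w` lie on a line (`Line.main`).
-/

set_option autoImplicit false

namespace Cfsg.Agent.MonsterN

open Cfsg Cfsg.Agent.Bimonster Cfsg.Agent.Bimonster.Tits Cfsg.Spor Cfsg.Agent.BabyU.OutFree

variable {G : Type*} [Group G] {y : ℕ → G}

theorem rot_pow {p q : G} {n : ℕ} (h : (p * q) ^ n = 1) : (q * p) ^ n = 1 := by
  have : q * p = q * (p * q) * q⁻¹ := by group
  rw [this, conj_pow, h, mul_one, mul_inv_cancel]

theorem fi_key : ∀ i j : Fi23.Gen, (fiIdx i < 14 ∧ fiIdx j < 14) ∧ (fiIdx i ≠ 9 ∧ fiIdx j ≠ 9) ∧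
    ((i = j ∧ coxLabel Fi23.edges i j = 1) ∨
      (adjB (fiIdx i) (fiIdx j) = true ∧ coxLabel Fi23.edges i j = 3) ∨
      (adjB (fiIdx i) (fiIdx j) = false ∧ coxLabel Fi23.edges i j = 2)) := by
  intro i j; cases i <;> cases j <;> decide

/-- The relations of `Fi₂₃`. -/
theorem Pre.fiRel (h : Pre y) : FiRel y := by
  refine ⟨?_, ?_, ?_⟩
  · intro i j
    obtain ⟨⟨hi, hj⟩, ⟨hi9, hj9⟩, hc⟩ := fi_key i j
    rcases hc with ⟨rfl, hl⟩ | ⟨ha, hl⟩ | ⟨ha, hl⟩
    · rw [hl, pow_one, h.sq _ hi hi9]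
    · rw [hl]; exact h.cube hi hj hi9 hj9 ha
    · have hb := h.cm _ hi _ hj hi9 hj9 ha
      rw [hl, pow_two]
      calc y (fiIdx i) * y (fiIdx j) * (y (fiIdx i) * y (fiIdx j))
          = y (fiIdx i) * (y (fiIdx j) * y (fiIdx i)) * y (fiIdx j) := by group
        _ = (y (fiIdx i) * y (fiIdx i)) * (y (fiIdx j) * y (fiIdx j)) := by rw [← hb]; group
        _ = 1 := by rw [h.sq _ hi hi9, h.sq _ hj hj9, mul_one]
  · have h1 := h.spider
    have e1 : ev y spW = ev y [0, 1, 2, 0, 6, 7] * ev y [0, 11, 12] := by rw [← ev_append]; rfl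
    have e2 : ev y [0, 11, 12, 0, 1, 2, 0, 6, 7] = ev y [0, 11, 12] * ev y [0, 1, 2, 0, 6, 7] := by
      rw [← ev_append]; rfl
    rw [e1] at h1
    rw [e2]
    exact rot_pow h1
  · have e : TwoESix.Cox10.ev (fun i => y (nl i)) [9, 8, 7, 3, 2, 1, 4] = ev y [13, 12, 11, 0, 1, 2, 6] := by
      simp only [TwoESix.Cox10.ev, ev, List.map_cons, List.map_nil, nl]
      rfl
    rw [← e, ← h.sig2]
    exact TwoESix.Cox10.pow9_eq h.liftable (w' := TwoESix.Cox10.W213) (by decide +kernel)

/-- The relations of `e₂`, without the commutation with `e₁`. -/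
structure Ten (y : ℕ → G) (e : G) : Prop where
  sq : e * e = 1
  cm : ∀ i ∈ [0, 1, 2, 3, 5, 6, 7, 11, 12, 13], e * y i = y i * e
  b8 : e * y 8 * e = y 8 * e * y 8
  b10 : e * y 10 * e = y 10 * e * y 10

/-! ### The first reversal -/

section first

variable {e : G}

/-- `w e w`, `w` the reversal of `d₃ c₃ b₃ a b₁ c₁ d₁ e₁ f₁` -/
def rv (y : ℕ → G) (e : G) : G := ev y FiWord.wA * e * ev y FiWord.wA

theorem rv_comm (h : Pre y) (he : Ten y e) : ∀ i ∈ [0, 1, 2, 3, 4, 5, 6, 7, 11, 13],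
    rv y e * y i = y i * rv y e := by
  have hf := h.fiRel
  have h5 := h.f1a
  intro i hi
  simp only [List.mem_cons, List.not_mem_nil, or_false] at hi
  rcases hi with rfl | rfl | rfl | rfl | rfl | rfl | rfl | rfl | rfl | rfl
  · exact FiWord.comm_of hf h5 (FiWord.conj0 hf h5) (he.cm _ (by decide))
  · exact FiWord.comm_of hf h5 (FiWord.conj1 hf h5) (he.cm _ (by decide))
  · exact FiWord.comm_of hf h5 (FiWord.conj2 hf h5) (he.cm _ (by decide))
  · exact FiWord.comm_of hf h5 (FiWord.conj3 hf h5) (he.cm _ (by decide))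
  · exact FiWord.comm_of hf h5 (FiWord.conj4 hf h5) (he.cm _ (by decide))
  · exact FiWord.comm_of hf h5 (FiWord.conj5 hf h5) (he.cm _ (by decide))
  · refine FiWord.comm6 hf h5 fun i hi => he.cm i ?_
    revert i; decide
  · exact FiWord.comm_of hf h5 (FiWord.conj7 hf h5) (he.cm _ (by decide))
  · exact FiWord.comm_of hf h5 (FiWord.conj11 hf h5) (he.cm _ (by decide))
  · exact FiWord.comm_of hf h5 (FiWord.conj13 hf h5) (he.cm _ (by decide))

theorem rv_sq (h : Pre y) (he : Ten y e) : rv y e * rv y e = 1 := by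
  have hs := FiWord.sq h.fiRel h.f1a
  calc rv y e * rv y e = ev y FiWord.wA * e * (ev y FiWord.wA * ev y FiWord.wA) * e * ev y FiWord.wA := by
        rw [rv]; group
    _ = ev y FiWord.wA * (e * e) * ev y FiWord.wA := by rw [hs]; group
    _ = 1 := by rw [he.sq, mul_one, hs]

theorem w_ten (h : Pre y) : ev y FiWord.wA * y 10 = y 10 * ev y FiWord.wA := by
  have key : ∀ i ∈ FiWord.wA, y 10 * y i = y i * y 10 := by
    intro i hi
    have hk : ∀ i ∈ FiWord.wA, i < 14 ∧ i ≠ 9 ∧ adjB 10 i = false := by decide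
    obtain ⟨h1, h2, h3⟩ := hk i hi
    exact h.cm 10 (by norm_num) i h1 (by norm_num) h2 h3
  exact (FiWord.comm_ev key).symm

theorem rv_braid (h : Pre y) (he : Ten y e) : rv y e * y 10 * rv y e = y 10 * rv y e * y 10 := by
  have hs := FiWord.sq h.fiRel h.f1a
  have ht := w_ten h
  set w := ev y FiWord.wA with hw
  have e1 : rv y e * y 10 * rv y e = w * (e * y 10 * e) * w := by
    calc rv y e * y 10 * rv y e = w * e * (w * y 10) * w * e * w := by simp only [rv, ← hw]; group
      _ = w * e * y 10 * (w * w) * e * w := by rw [ht]; group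
      _ = _ := by rw [hs]; group
  have e2 : y 10 * rv y e * y 10 = w * (y 10 * e * y 10) * w := by
    calc y 10 * rv y e * y 10 = (y 10 * w) * e * (w * y 10) := by simp only [rv, ← hw]; group
      _ = (w * y 10) * e * (y 10 * w) := by rw [ht]
      _ = _ := by group
  rw [e1, e2, he.b10]

theorem rv_ne (h : Pre y) (hne : e ≠ y 10) : rv y e ≠ y 10 := by
  have hs := FiWord.sq h.fiRel h.f1a
  have ht := w_ten h
  intro hr
  apply hne
  have : ev y FiWord.wA * rv y e * ev y FiWord.wA = e := by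
    rw [rv]
    calc ev y FiWord.wA * (ev y FiWord.wA * e * ev y FiWord.wA) * ev y FiWord.wA
        = (ev y FiWord.wA * ev y FiWord.wA) * e * (ev y FiWord.wA * ev y FiWord.wA) := by group
      _ = e := by rw [hs, one_mul, mul_one]
  rw [← this, hr, ht, mul_assoc, hs, mul_one]

end first

/-! ### The second reversal -/

section second

variable {e : G}

/-- all letters, with `e` in place of `9` and `1` in place of `4` -/
def yy (y : ℕ → G) (e : G) (i : ℕ) : G := if i = 9 then e else if i = 4 then 1 else y i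

/-- the edges not involving the letter `4` -/
def Ed : List (ℕ × ℕ) :=
  [(0, 1), (1, 2), (2, 3), (0, 6), (6, 7), (7, 8), (8, 9), (9, 10), (0, 11), (11, 12), (12, 13)]

theorem adj_Ed : ∀ i < 14, ∀ j < 14, i ≠ 4 → j ≠ 4 → R01.IdentWord.adj Ed i j = adjB i j := by decide

theorem adj_four : ∀ i < 14, R01.IdentWord.adj Ed i 4 = false ∧ R01.IdentWord.adj Ed 4 i = false := by decide

theorem cube_of {a b : G} (ha : a * a = 1) (hb : b * b = 1) (h : a * b * a = b * a * b) : (a * b) ^ 3 = 1 := by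
  rw [pow_succ, pow_two]
  calc a * b * (a * b) * (a * b) = (a * b * a) * (b * a * b) := by group
    _ = (b * a * b) * (b * a * b) := by rw [h]
    _ = b * a * (b * b) * a * b := by group
    _ = b * (a * a) * b := by rw [hb]; group
    _ = 1 := by rw [ha, mul_one, hb]

theorem list_or : ∀ i < 14, i = 4 ∨ i = 8 ∨ i = 9 ∨ i = 10 ∨ i ∈ [0, 1, 2, 3, 5, 6, 7, 11, 12, 13] := by decide

theorem list_ne_four {i : ℕ} (hi : i < 14) (h4 : i ≠ 4) (h8 : i ≠ 8) (h9 : i ≠ 9) (h10 : i ≠ 10) :
    i ∈ [0, 1, 2, 3, 5, 6, 7, 11, 12, 13] := by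
  rcases list_or i hi with h | h | h | h | h
  · exact absurd h h4
  · exact absurd h h8
  · exact absurd h h9
  · exact absurd h h10
  · exact h

/-- Coxeter identities in the letters other than `4`. -/
theorem word (h : Pre y) (he : Ten y e) (ω ω' : List ℕ) (hc : R01.IdentWord.test 14 Ed ω ω' = true) :
    (ω.map (yy y e)).prod = (ω'.map (yy y e)).prod := by
  have hy9 : yy y e 9 = e := rfl
  have hy4 : yy y e 4 = 1 := rfl
  have hy : ∀ i, i ≠ 9 → i ≠ 4 → yy y e i = y i := fun i h9 h4 => by rw [yy, if_neg h9, if_neg h4]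
  refine R01.IdentWord.word_eq 14 Ed (yy y e) ?_ ?_ ?_ ω ω' hc
  · intro i hi
    by_cases h9 : i = 9
    · rw [h9, hy9]; exact he.sq
    by_cases h4 : i = 4
    · rw [h4, hy4, one_mul]
    rw [hy i h9 h4]; exact h.sq i hi h9
  · intro i hi j hj _ ha
    by_cases h4 : i = 4
    · rw [h4, (adj_four j hj).2] at ha; exact absurd ha Bool.false_ne_true
    by_cases h4' : j = 4
    · rw [h4', (adj_four i hi).1] at ha; exact absurd ha Bool.false_ne_true
    rw [adj_Ed i hi j hj h4 h4'] at ha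
    by_cases h9 : i = 9
    · rw [h9, adjB_comm] at ha
      rw [h9, hy9]
      rcases (adj_nine j hj).1 ha with rfl | rfl
      · rw [hy 8 (by norm_num) (by norm_num)]
        exact cube_of he.sq (h.sq 8 (by norm_num) (by norm_num)) he.b8
      · rw [hy 10 (by norm_num) (by norm_num)]
        exact cube_of he.sq (h.sq 10 (by norm_num) (by norm_num)) he.b10
    by_cases h9' : j = 9
    · rw [h9'] at ha
      rw [h9', hy9]
      rcases (adj_nine i hi).1 ha with rfl | rfl
      · rw [hy 8 (by norm_num) (by norm_num)]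
        exact cube_of (h.sq 8 (by norm_num) (by norm_num)) he.sq he.b8.symm
      · rw [hy 10 (by norm_num) (by norm_num)]
        exact cube_of (h.sq 10 (by norm_num) (by norm_num)) he.sq he.b10.symm
    rw [hy i h9 h4, hy j h9' h4']
    exact h.cube hi hj h9 h9' ha
  · intro i hi j hj _ ha
    by_cases h4 : i = 4
    · rw [h4, hy4, one_mul, mul_one]
    by_cases h4' : j = 4
    · rw [h4', hy4, one_mul, mul_one]
    rw [adj_Ed i hi j hj h4 h4'] at ha
    have nine : ∀ k < 14, k ≠ 4 → adjB k 9 = false → e * yy y e k = yy y e k * e := by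
      intro k hk hk4 hka
      by_cases hk9 : k = 9
      · rw [hk9, hy9]
      have h8 : k ≠ 8 := by rintro rfl; exact absurd hka (by decide)
      have h10 : k ≠ 10 := by rintro rfl; exact absurd hka (by decide)
      rw [hy k hk9 hk4]
      exact he.cm k (list_ne_four hk hk4 h8 hk9 h10)
    by_cases h9 : i = 9
    · rw [h9, adjB_comm] at ha
      rw [h9, hy9]; exact nine j hj h4' ha
    by_cases h9' : j = 9
    · rw [h9'] at ha
      rw [h9', hy9]; exact (nine i hi h4 ha).symm
    rw [hy i h9 h4, hy j h9' h4']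
    exact h.cm i hi j hj h9 h9' ha

/-- the reversal of the chain `f₂ e₂ d₂ c₂ b₂ a b₃ c₃ d₃` -/
def wB : List ℕ :=
  [10, 9, 10, 8, 9, 10, 7, 8, 9, 10, 6, 7, 8, 9, 10, 0, 6, 7, 8, 9, 10, 11, 0, 6, 7, 8, 9, 10,
    12, 11, 0, 6, 7, 8, 9, 10, 13, 12, 11, 0, 6, 7, 8, 9, 10]

/-- its value -/
def vB (y : ℕ → G) (e : G) : G := (wB.map (yy y e)).prod

theorem vB_sq (h : Pre y) (he : Ten y e) : vB y e * vB y e = 1 := by
  have := word h he (wB ++ wB) [] (by decide +kernel)
  rwa [List.map_append, List.prod_append, List.map_nil, List.prod_nil] at this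

theorem vB_conj (h : Pre y) (he : Ten y e) (i j : ℕ) (hc : R01.IdentWord.test 14 Ed (wB ++ [i]) ([j] ++ wB) = true) :
    vB y e * yy y e i * vB y e = yy y e j := by
  have := word h he _ _ hc
  rw [List.map_append, List.prod_append, List.map_append, List.prod_append, List.map_cons, List.map_nil,
    List.prod_cons, List.prod_nil, mul_one, List.map_cons, List.map_nil, List.prod_cons, List.prod_nil, mul_one] at this
  change vB y e * yy y e i = yy y e j * vB y e at this
  rw [this, mul_assoc, vB_sq h he, mul_one]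

theorem vB_inv (h : Pre y) (he : Ten y e) : (vB y e)⁻¹ = vB y e := inv_eq_of_mul_eq_one_left (vB_sq h he)

end second

end Cfsg.Agent.MonsterN
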