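import Cfsg.Agent.MonsterN.Local
import Cfsg.Agent.BabyU.Out

/-!
# An element exchanging `f₁` and `f₂` can be chosen to exchange the first two arms

`KD h R π`: `C_G(f₂, f₁) / ⟨f₂, f₁⟩ ≅ E`.  By `BabyU.Out.arms` the configuration of the ten nodes and its conjugate
under an element exchanging `f₁` and `f₂` are conjugate in `E` up to a permutation of the arms; the values
`f₁, f₂, 1` of the three `E₇` words determine the permutation and the signs (`swap`).
-/

set_option autoImplicit false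

namespace Cfsg.Agent.MonsterN

open Cfsg Cfsg.Agent.TwoESix.Cox10 Cfsg.Agent.TwoESix.Lift Cfsg.Agent.TwoESix.Cover Cfsg.Agent.BabyU.OutFree

variable {G : Type*} [Group G] {y : ℕ → G}

/-- Conjugation by an element exchanging `f₂` and `f₁`. -/
def cj {n : G} (h1 : n * y 10 * n⁻¹ = y 5) (h2 : n * y 5 * n⁻¹ = y 10) : KK y →* KK y where
  toFun k := ⟨n * k * n⁻¹, by
    obtain ⟨h3, h4⟩ := mem_KK.1 k.2
    refine mem_KK.2 ⟨?_, ?_⟩
    · rw [← h2]
      calc n * k * n⁻¹ * (n * y 5 * n⁻¹) = n * (k * y 5) * n⁻¹ := by group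
        _ = n * (y 5 * k) * n⁻¹ := by rw [h4]
        _ = _ := by group
    · rw [← h1]
      calc n * k * n⁻¹ * (n * y 10 * n⁻¹) = n * (k * y 10) * n⁻¹ := by group
        _ = n * (y 10 * k) * n⁻¹ := by rw [h3]
        _ = _ := by group⟩
  map_one' := Subtype.ext (by simp)
  map_mul' a b := Subtype.ext (by
    show n * (a * b : G) * n⁻¹ = n * a * n⁻¹ * (n * b * n⁻¹)
    group)

theorem coe_cj {n : G} (h1 : n * y 10 * n⁻¹ = y 5) (h2 : n * y 5 * n⁻¹ = y 10) (k : KK y) :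
    (cj h1 h2 k : G) = n * k * n⁻¹ := rfl

theorem inv_swap {n a b : G} (h : n * a * n⁻¹ = b) : n⁻¹ * b * n⁻¹⁻¹ = a := by
  rw [← h]; group

theorem cj_surj {n : G} (h1 : n * y 10 * n⁻¹ = y 5) (h2 : n * y 5 * n⁻¹ = y 10) :
    Function.Surjective (cj h1 h2) := by
  intro k
  refine ⟨cj (inv_swap h2) (inv_swap h1) k, Subtype.ext ?_⟩
  rw [coe_cj, coe_cj]; group

variable {E : Type*} [Group E] {h : Pre y} {R : Set E} {π : KK y →* E}

theorem cj_f2 {n : G} (h1 : n * y 10 * n⁻¹ = y 5) (h2 : n * y 5 * n⁻¹ = y 10) : cj h1 h2 h.f2 = h.f1 :=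
  Subtype.ext h1

theorem cj_f1 {n : G} (h1 : n * y 10 * n⁻¹ = y 5) (h2 : n * y 5 * n⁻¹ = y 10) : cj h1 h2 h.f1 = h.f2 :=
  Subtype.ext h2

theorem KD.cj_ker (D : KD h R π) {n : G} (h1 : n * y 10 * n⁻¹ = y 5) (h2 : n * y 5 * n⁻¹ = y 10) {v : KK y}
    (hv : π v = 1) : π (cj h1 h2 v) = 1 := by
  rw [D.ker]
  rcases (D.ker v).1 hv with rfl | rfl | rfl | rfl
  · left; exact map_one _
  · right; right; left; exact cj_f2 h1 h2
  · right; left; exact cj_f1 h1 h2
  · right; right; right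
    rw [map_mul, cj_f2, cj_f1, h.f1_comm]

/-- The conjugate configuration. -/
theorem KD.gg_cj (D : KD h R π) {n : G} (h1 : n * y 10 * n⁻¹ = y 5) (h2 : n * y 5 * n⁻¹ = y 10) :
    GG (fun i => π (cj h1 h2 (h.nd i))) := by
  set θ := cj h1 h2 with hθ
  have hsig : ∀ w : List (Fin 10), π (ev h.nd w ^ 9) = 1 → ev (fun i => π (θ (h.nd i))) w ^ 9 = 1 := by
    intro w hw
    have e : ev (fun i => π (θ (h.nd i))) w ^ 9 = π (θ (ev h.nd w ^ 9)) := by
      rw [map_pow, map_pow, ev_map, ev_map]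
    rw [e]
    exact D.cj_ker h1 h2 hw
  have hw : ∀ k, π (ev h.nd (W k) ^ 9) = 1 := by
    intro k
    have hg := (good_iff.1 D.gg.1).2 k
    rw [sig] at hg
    rw [map_pow, ev_map]; exact hg
  refine ⟨⟨?_, ?_, ?_, ?_, ?_⟩, ?_⟩
  · intro i j
    rw [← map_mul, ← map_mul, ← map_pow, ← map_pow, h.liftableK i j, map_one, map_one]
  · have e : ev (fun i => π (θ (h.nd i))) spider ^ 10 = π (θ (ev h.nd spider ^ 10)) := by
      rw [map_pow, map_pow, ev_map, ev_map]
    rw [e, h.cs.spider, map_one, map_one]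
  · exact hsig W321 (hw 0)
  · exact hsig W231 (hw 1)
  · exact hsig W213 (hw 2)
  · set S := Subgroup.closure (Set.range fun i => π (θ (h.nd i))) with hS
    set S' := S.comap (π.comp θ) with hS'
    have hker : π.ker ≤ S' := by
      intro v hv
      rw [MonoidHom.mem_ker] at hv
      rw [hS', Subgroup.mem_comap]
      have : (π.comp θ) v = 1 := D.cj_ker h1 h2 hv
      rw [this]; exact one_mem _
    have hmap : S'.map π = ⊤ := by
      rw [eq_top_iff, ← D.gen, Subgroup.closure_le]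
      rintro _ ⟨i, rfl⟩
      refine ⟨h.nd i, ?_, rfl⟩
      rw [hS', SetLike.mem_coe, Subgroup.mem_comap]
      exact Subgroup.subset_closure ⟨i, rfl⟩
    have htop : S' = ⊤ := by
      have := Subgroup.comap_map_eq_self hker
      rw [hmap, Subgroup.comap_top] at this
      exact this.symm
    rw [eq_top_iff]
    intro e _
    obtain ⟨k, rfl⟩ := D.surj e
    obtain ⟨k, rfl⟩ := cj_surj h1 h2 k
    have : k ∈ S' := by rw [htop]; exact Subgroup.mem_top _
    rw [hS', Subgroup.mem_comap] at this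
    exact this

theorem pow_nine_mul {M : Type*} [Group M] {a v : M} (hc : v * a = a * v) (hv : v * v = 1) :
    (a * v) ^ 9 = a ^ 9 * v := by
  have h1 : Commute a v := hc.symm
  rw [h1.mul_pow]
  congr 1
  rw [← pow_two] at hv
  have : v ^ 9 = (v ^ 2) ^ 4 * v := by rw [← pow_mul, ← pow_succ]
  rw [this, hv, one_pow, one_mul]

theorem ev_mul_v {M : Type*} [Group M] (s : Fin 10 → M) {v : M} (hc : ∀ k, v * k = k * v) (w : List (Fin 10)) :
    ev (fun i => s i * v) w = ev s w * v ^ w.length := by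
  induction w with
  | nil => simp [ev_nil]
  | cons i w ih =>
    rw [ev_cons, ih, ev_cons, List.length_cons, pow_succ']
    calc s i * v * (ev s w * v ^ w.length) = s i * (v * ev s w) * v ^ w.length := by group
      _ = s i * (ev s w * v) * v ^ w.length := by rw [hc]
      _ = _ := by group

theorem sig_mul_v {M : Type*} [Group M] (s : Fin 10 → M) {v : M} (hc : ∀ k, v * k = k * v) (hv : v * v = 1)
    (k : Fin 3) : sig (fun i => s i * v) k = sig s k * v := by
  rw [sig, ev_mul_v s hc, W_length]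
  have h7 : v ^ 7 = v := by
    have hv' : v ^ 2 = 1 := by rw [pow_two]; exact hv
    have : v ^ 7 = (v ^ 2) ^ 3 * v := by rw [← pow_mul, ← pow_succ]
    rw [this, hv', one_pow, one_mul]
  rw [h7, pow_nine_mul (hc _) hv]
  rfl

variable {F : Type*} [Field F] [Fintype F] {hF : Fintype.card F = 2 ^ 2}

theorem Q6_all : ∀ k : Fin 6,
    (k = 0 ∧ Q6 k 0 = 0 ∧ Q6 k 1 = 1 ∧ Q6 k 2 = 2) ∨ (k = 1 ∧ Q6 k 0 = 1 ∧ Q6 k 1 = 0 ∧ Q6 k 2 = 2) ∨
    (k = 2 ∧ Q6 k 0 = 2 ∧ Q6 k 1 = 1 ∧ Q6 k 2 = 0) ∨ (k = 3 ∧ Q6 k 0 = 0 ∧ Q6 k 1 = 2 ∧ Q6 k 2 = 1) ∨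
    (k = 4 ∧ Q6 k 0 = 2 ∧ Q6 k 1 = 0 ∧ Q6 k 2 = 1) ∨ (k = 5 ∧ Q6 k 0 = 1 ∧ Q6 k 1 = 2 ∧ Q6 k 2 = 0) := by
  decide

/-- **The exchange of the first two arms.** -/
theorem swap [Finite HB] {M' : Type*} [Group M'] (hcov : IsNonsplitDoubleCover M' E)
    (hcard : Nat.card HB ≤ Nat.card E) (hE : ∃ a b : E, ¬ Commute a b) (H : BabyU.OutCount.Hyp hF R)
    (D : KD h R π) {n : G} (h1 : n * y 10 * n⁻¹ = y 5) (h2 : n * y 5 * n⁻¹ = y 10)
    (hinv : ∀ k : KK y, π k ∈ R → π (cj h1 h2 k) ∈ R) :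
    ∃ m : G, m * y 10 * m⁻¹ = y 5 ∧ m * y 5 * m⁻¹ = y 10 ∧ ∀ i, m * y (nl i) * m⁻¹ = y (nl (pAB i)) := by
  obtain ⟨x, k, hx⟩ := BabyU.Out.arms hcov hcard hE H D.gg D.node (D.gg_cj h1 h2) fun i => hinv _ (D.node i)
  obtain ⟨c, rfl⟩ := D.surj x
  set m : G := (c : G) * n with hm
  have hc1 : (c : G) * y 10 * (c : G)⁻¹ = y 10 := by rw [(mem_KK.1 c.2).1]; group
  have hc2 : (c : G) * y 5 * (c : G)⁻¹ = y 5 := by rw [(mem_KK.1 c.2).2]; group
  have m1 : m * y 10 * m⁻¹ = y 5 := by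
    calc m * y 10 * m⁻¹ = c * (n * y 10 * n⁻¹) * (c : G)⁻¹ := by rw [hm]; group
      _ = y 5 := by rw [h1, hc2]
  have m2 : m * y 5 * m⁻¹ = y 10 := by
    calc m * y 5 * m⁻¹ = c * (n * y 5 * n⁻¹) * (c : G)⁻¹ := by rw [hm]; group
      _ = y 10 := by rw [h2, hc1]
  refine ⟨m, m1, m2, ?_⟩
  set θ := cj m1 m2 with hθ
  have hθe : ∀ a : KK y, θ a = c * cj h1 h2 a * c⁻¹ := by
    intro a
    apply Subtype.ext
    show m * a * m⁻¹ = c * (n * a * n⁻¹) * (c : G)⁻¹
    rw [hm]; group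
  have hθπ : ∀ i, π (θ (h.nd i)) = π (h.nd (P6 k i)) := by
    intro i
    rw [hθe, map_mul, map_mul, map_inv, hx]
  -- the common factor
  have hv : ∀ i, π ((h.nd (P6 k i))⁻¹ * θ (h.nd i)) = 1 := by
    intro i
    rw [map_mul, map_inv, hθπ, inv_mul_cancel]
  set v : Fin 10 → KK y := fun i => (h.nd (P6 k i))⁻¹ * θ (h.nd i) with hvdef
  have hθv : ∀ i, θ (h.nd i) = h.nd (P6 k i) * v i := by
    intro i
    rw [hvdef]
    show _ = h.nd (P6 k i) * ((h.nd (P6 k i))⁻¹ * θ (h.nd i))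
    rw [mul_inv_cancel_left]
  have hvc : ∀ i (a : KK y), v i * a = a * v i := fun i a => D.ker_comm (hv i) a
  have hv2 : ∀ i, v i * v i = 1 := fun i => D.ker_sq (hv i)
  have hvadj : ∀ i j, adj i j = true → v i = v j := by
    intro i j hij
    have b1 := braid h.liftableK hij
    have b2 : adj (P6 k i) (P6 k j) = true := by rw [adj_P6]; exact hij
    have b2' := braid h.liftableK b2
    have b3 := congrArg θ b1
    rw [map_mul, map_mul, map_mul, map_mul, hθv, hθv] at b3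
    set p := h.nd (P6 k i)
    set q := h.nd (P6 k j)
    have e1 : p * v i * (q * v j) * (p * v i) = (p * q * p) * (v i * v i) * v j := by
      calc p * v i * (q * v j) * (p * v i) = p * (v i * q) * v j * (p * v i) := by group
        _ = p * q * v i * (v j * p) * v i := by rw [hvc]; group
        _ = p * q * (v i * p) * v j * v i := by rw [hvc j p]; group
        _ = p * q * p * v i * (v j * v i) := by rw [hvc i p]; group
        _ = _ := by rw [hvc j (v i)]; group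
    have e2 : q * v j * (p * v i) * (q * v j) = (q * p * q) * (v j * v j) * v i := by
      calc q * v j * (p * v i) * (q * v j) = q * (v j * p) * v i * (q * v j) := by group
        _ = q * p * v j * (v i * q) * v j := by rw [hvc]; group
        _ = q * p * (v j * q) * v i * v j := by rw [hvc i q]; group
        _ = q * p * q * v j * (v i * v j) := by rw [hvc j q]; group
        _ = _ := by rw [hvc i (v j)]; group
    rw [e1, e2, hv2, hv2, mul_one, mul_one, b2'] at b3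
    exact (mul_left_cancel b3).symm
  have hv3 : ∀ i, v i = v 3 := all_nodes (fun i => v i = v 3) (fun i j hij hi => by rw [← hvadj i j hij, hi]) rfl
  have hsigθ : ∀ j, θ (sig h.nd j) = sig h.nd (Q6 k j) * v 3 := by
    intro j
    rw [← sig_P6 h.cs, ← sig_mul_v _ (hvc 3) (hv2 3)]
    rw [sig, map_pow, ev_map, sig]
    congr 2
    funext i
    rw [hθv, hv3 i]
  have s0 := hsigθ 0
  have s1 := hsigθ 1
  have s2 := hsigθ 2
  have t0 : θ h.f1 = h.f2 := cj_f1 m1 m2
  have t1 : θ h.f2 = h.f1 := cj_f2 m1 m2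
  rw [h.sigK0, t0] at s0
  rw [h.sigK1, t1] at s1
  rw [h.sigK2, map_one] at s2
  have n12 : h.f1 ≠ h.f2 := fun e => D.ne (congrArg Subtype.val e).symm
  have n1 : h.f1 ≠ 1 := fun e => D.ne1 (congrArg Subtype.val e)
  have n2 : h.f2 ≠ 1 := fun e => D.ne2 (congrArg Subtype.val e)
  have q0 := h.sigK0
  have q1 := h.sigK1
  have q2 := h.sigK2
  have f11 := h.f1_sq
  have f22 := h.f2_sq
  -- only the first exchange is possible
  have hk : k = 1 ∧ v 3 = 1 := by
    have key : ∀ a b c : Fin 3, Q6 k 0 = a → Q6 k 1 = b → Q6 k 2 = c →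
        h.f2 = sig h.nd a * v 3 ∧ h.f1 = sig h.nd b * v 3 ∧ 1 = sig h.nd c * v 3 := by
      rintro a b c rfl rfl rfl
      exact ⟨s0, s1, s2⟩
    have hQ := Q6_all k
    rcases hQ with ⟨e, a, b, c⟩ | ⟨e, a, b, c⟩ | ⟨e, a, b, c⟩ | ⟨e, a, b, c⟩ | ⟨e, a, b, c⟩ | ⟨e, a, b, c⟩
    · obtain ⟨k0, k1, k2⟩ := key _ _ _ a b c
      rw [q2, one_mul] at k2
      rw [q0, ← k2, mul_one] at k0
      exact absurd k0.symm n12
    · obtain ⟨k0, k1, k2⟩ := key _ _ _ a b c
      rw [q2, one_mul] at k2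
      exact ⟨e, k2.symm⟩
    · obtain ⟨k0, k1, k2⟩ := key _ _ _ a b c
      rw [q2, one_mul] at k0
      rw [q1, ← k0, f22] at k1
      exact absurd k1 n1
    · obtain ⟨k0, k1, k2⟩ := key _ _ _ a b c
      rw [q2, one_mul] at k1
      rw [q0, ← k1, f11] at k0
      exact absurd k0 n2
    · obtain ⟨k0, k1, k2⟩ := key _ _ _ a b c
      rw [q2, one_mul] at k0
      rw [q1, ← k0, f22] at k2
      rw [q0, ← k0] at k1
      have : h.f2 = 1 := by
        have := mul_left_cancel (a := h.f1) (b := 1) (c := h.f2) (by rw [mul_one]; exact k1)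
        exact this.symm
      exact absurd this n2
    · obtain ⟨k0, k1, k2⟩ := key _ _ _ a b c
      rw [q2, one_mul] at k1
      rw [q1, ← k1] at k0
      have : h.f1 = 1 := by
        have := mul_left_cancel (a := h.f2) (b := 1) (c := h.f1) (by rw [mul_one]; exact k0)
        exact this.symm
      exact absurd this n1
  intro i
  have := hθv i
  rw [hv3 i, hk.2, mul_one, hk.1] at this
  exact congrArg Subtype.val this

end Cfsg.Agent.MonsterN
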