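import Cfsg.Agent.Leech.TransPair

/-!
# Submodules of `Λ / 2Λ` for the stabiliser of a triangle of type 222

`v = 4 e_p - 4 e_q`, `w = 4 e_q - 4 e_k`; `Fix` = the elements of `Co0` fixing `v` and `w`.

* `mem_of_not_tri` : a `Fix`-invariant subgroup `U ≥ 2Λ` of `{v, w}^⊥` (modulo 2) which is not contained in
  `⟨v, w⟩ + 2Λ` contains `v` and `w`;
* `le_of_trivial` : a subgroup `U ≥ 2Λ` containing all `x - g x` for `g ∈ Fix`, `x ∈ {v, w}^⊥`, contains `{v, w}^⊥`.
-/

set_option autoImplicit false

namespace Cfsg.Agent.MonsterN.TriLat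

open Cfsg Cfsg.Agent.Leech.Code Cfsg.Agent.Leech.Basic Cfsg.Agent.Leech.Co0Elts
  Cfsg.Agent.Leech.Xi Cfsg.Agent.Leech.Trans Cfsg.Agent.Leech.TransPair

/-! ### Code words -/

/-- Duality for the words disjoint from a set of at most five points. -/
theorem exists_word_of_even (P : Finset GolayPt) (hP : P.card ≤ 5) (A : Finset GolayPt)
    (hA : ∀ D ∈ Words, Disjoint D P → Even (A ∩ D).card) : ∃ s ⊆ P, symmDiff A s ∈ Words := by
  induction P using Finset.induction_on generalizing A with
  | empty =>
    refine ⟨∅, Finset.Subset.refl _, ?_⟩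
    rw [show symmDiff A ∅ = A from symmDiff_bot A]
    exact mem_of_even_inter fun d hd => hA d hd (Finset.disjoint_empty_right d)
  | insert r P hr ih =>
    rw [Finset.card_insert_of_notMem hr] at hP
    obtain ⟨W, hW, hrW, hWP⟩ := exists_word r P (by omega) hr
    have key : ∀ A : Finset GolayPt, (∀ D ∈ Words, Disjoint D (insert r P) → Even (A ∩ D).card) →
        Even (A ∩ W).card → ∃ s ⊆ P, symmDiff A s ∈ Words := by
      intro A hA hAW
      apply ih (by omega)
      intro D hD hDP
      by_cases hrD : r ∈ D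
      · have h1 : Even (symmDiff D W ∩ A).card := by
          rw [Finset.inter_comm]
          apply hA _ (symmDiff_mem hD hW)
          rw [Finset.disjoint_right]
          intro i hi
          rw [Finset.mem_symmDiff]
          rcases Finset.mem_insert.1 hi with rfl | hi
          · tauto
          · have h2 := Finset.disjoint_right.1 hDP hi
            have h3 := hWP i hi
            tauto
        have h2 := even_symmDiff_inter h1 (by rw [Finset.inter_comm]; exact hAW : Even (W ∩ A).card)
        rw [symmDiff_assoc, symmDiff_self, symmDiff_bot, Finset.inter_comm] at h2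
        exact h2
      · apply hA D hD
        rw [Finset.disjoint_insert_right]
        exact ⟨hrD, hDP⟩
    by_cases hAW : Even (A ∩ W).card
    · obtain ⟨s, hs, h⟩ := key A hA hAW
      exact ⟨s, hs.trans (Finset.subset_insert _ _), h⟩
    · have hA1 : ∀ D ∈ Words, Disjoint D (insert r P) → Even (symmDiff A {r} ∩ D).card := by
        intro D hD hDP
        apply even_symmDiff_inter (hA D hD hDP)
        rw [Finset.disjoint_insert_right] at hDP
        rw [Finset.singleton_inter_of_notMem hDP.1]
        exact Even.zero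
      have hAW1 : Even (symmDiff A {r} ∩ W).card := by
        have e : symmDiff A {r} ∩ W = symmDiff (A ∩ W) {r} := by
          ext i
          simp only [Finset.mem_inter, Finset.mem_symmDiff, Finset.mem_singleton]
          constructor
          · rintro ⟨h1 | h1, h2⟩
            · exact Or.inl ⟨⟨h1.1, h2⟩, h1.2⟩
            · exact Or.inr ⟨h1.1, fun h => h1.2 h.1⟩
          · rintro (⟨⟨h1, h2⟩, h3⟩ | ⟨h1, h2⟩)
            · exact ⟨Or.inl ⟨h1, h3⟩, h2⟩
            · subst h1
              exact ⟨Or.inr ⟨rfl, fun h => h2 ⟨h, hrW⟩⟩, hrW⟩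
        rw [e]
        have h4 := Cfsg.Agent.SporadicA.GolayBase.card_symmDiff_add (A ∩ W) {r}
        rw [Finset.card_singleton] at h4
        rw [Nat.not_even_iff] at hAW
        rw [Nat.even_iff]
        omega
      obtain ⟨s, hs, h⟩ := key _ hA1 hAW1
      refine ⟨symmDiff {r} s, ?_, ?_⟩
      · intro i hi
        rw [Finset.mem_symmDiff] at hi
        rcases hi with hi | hi
        · exact Finset.mem_insert.2 (Or.inl (Finset.mem_singleton.1 hi.1))
        · exact Finset.mem_insert.2 (Or.inr (hs hi.1))
      · rwa [symmDiff_assoc] at h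

/-- An octad through two points avoiding three points. -/
theorem exists_octad_two (i j : GolayPt) (s : Finset GolayPt) (hs : s.card ≤ 3)
    (hi : i ∉ s) (hj : j ∉ s) : ∃ D ∈ Words, D.card = 8 ∧ i ∈ D ∧ j ∈ D ∧ Disjoint D s := by
  obtain ⟨T, hsT, hTu, hT4⟩ := Finset.exists_subsuperset_card_eq (s := s)
    (t := (Finset.univ.erase i).erase j) (n := 4)
    (fun r hr => Finset.mem_erase.2 ⟨fun h => hj (h ▸ hr), Finset.mem_erase.2
      ⟨fun h => hi (h ▸ hr), Finset.mem_univ r⟩⟩) (by omega)
    (by
      have h1 : (Finset.univ.erase i : Finset GolayPt).card = 23 := by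
        rw [Finset.card_erase_of_mem (Finset.mem_univ i), Finset.card_univ, card_golayPt]
      have h2 : ((Finset.univ : Finset GolayPt).erase i).card - 1 ≤
        (((Finset.univ : Finset GolayPt).erase i).erase j).card := Finset.pred_card_le_card_erase
      omega)
  have hiT : i ∉ T := fun h => (Finset.mem_erase.1 (Finset.mem_erase.1 (hTu h)).2).1 rfl
  have hjT : j ∉ T := fun h => (Finset.mem_erase.1 (hTu h)).1 rfl
  obtain ⟨S, hS, hTS⟩ := exists_sextet T hT4
  obtain ⟨t, ht, hit⟩ := sextet_exists hS i
  obtain ⟨u, hu, hju⟩ := sextet_exists hS j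
  have htT : t ≠ T := fun h => hiT (h ▸ hit)
  have huT : u ≠ T := fun h => hjT (h ▸ hju)
  have hcard : S.card = 6 := hS.1
  obtain ⟨u', hu', hu'T, htu', hju'⟩ : ∃ u' ∈ S, u' ≠ T ∧ t ≠ u' ∧ j ∈ t ∪ u' := by
    by_cases htu : t = u
    · obtain ⟨u', hu'⟩ : ((S.erase T).erase t).Nonempty := by
        rw [← Finset.card_pos]
        have h1 : (S.erase T).card = 5 := by rw [Finset.card_erase_of_mem hTS, hcard]
        have h2 : (S.erase T).card - 1 ≤ ((S.erase T).erase t).card := Finset.pred_card_le_card_erase
        omega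
      rw [Finset.mem_erase, Finset.mem_erase] at hu'
      exact ⟨u', hu'.2.2, hu'.2.1, hu'.1.symm, Finset.mem_union_left _ (htu ▸ hju)⟩
    · exact ⟨u, hu, huT, htu, Finset.mem_union_right _ hju⟩
  have hoct := hS.2.2 t ht u' hu' htu'
  refine ⟨t ∪ u', octads_words hoct, hoct.2, Finset.mem_union_left _ hit, hju', ?_⟩
  rw [Finset.disjoint_right]
  intro r hr hrD
  rcases Finset.mem_union.1 hrD with h | h
  · exact htT (sextet_unique hS ht hTS h (hsT hr))
  · exact hu'T (sextet_unique hS hu' hTS h (hsT hr))

/-- The trilinear form on the words disjoint from three points is nondegenerate. -/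
theorem exists_odd_inter {P B : Finset GolayPt} (hP : P.card = 3) (hB : B ∈ Words) (hB0 : B.Nonempty)
    (hBP : Disjoint B P) : ∃ C ∈ Words, ∃ D ∈ Words, Disjoint C P ∧ Disjoint D P ∧
      ¬ Even (B ∩ C ∩ D).card := by
  by_contra hcon
  push Not at hcon
  obtain ⟨i, hi⟩ := hB0
  -- a point outside `B` and `P`
  obtain ⟨j, hj⟩ : ∃ j, j ∉ B ∪ P := by
    apply exists_notMem
    have h1 : (B ∪ P).card = B.card + 3 := by rw [Finset.card_union_of_disjoint hBP, hP]
    have h2 : (B ∪ P).card ≤ 24 := by
      rw [← card_golayPt]; exact Finset.card_le_univ _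
    have h3 := four_dvd_card hB
    omega
  rw [Finset.mem_union, not_or] at hj
  have hiP : i ∉ P := Finset.disjoint_left.1 hBP hi
  obtain ⟨C, hC, hC8, hiC, hjC, hCP⟩ := exists_octad_two i j P (by omega) hiP hj.2
  obtain ⟨s, hs, hW⟩ := exists_word_of_even P (by omega) (B ∩ C)
    (fun D hD hDP => hcon C hC D hD hCP hDP)
  have hdis : Disjoint (B ∩ C) s := by
    rw [Finset.disjoint_left]
    intro r hr hrs
    exact Finset.disjoint_left.1 hBP (Finset.mem_inter.1 hr).1 (hs hrs)
  have e1 : symmDiff (B ∩ C) s = (B ∩ C) ∪ s := by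
    ext r
    rw [Finset.mem_symmDiff, Finset.mem_union]
    have : r ∈ B ∩ C → r ∉ s := fun h => Finset.disjoint_left.1 hdis h
    tauto
  rw [e1] at hW
  have hA7 : (B ∩ C).card ≤ 7 := by
    have h1 : B ∩ C ⊂ C := by
      refine (Finset.ssubset_iff_of_subset Finset.inter_subset_right).2 ⟨j, hjC, fun h => hj.1 (Finset.mem_inter.1 h).1⟩
    have := Finset.card_lt_card h1
    omega
  have hs3 : s.card ≤ 3 := by rw [← hP]; exact Finset.card_le_card hs
  have hWc : ((B ∩ C) ∪ s).card = (B ∩ C).card + s.card := Finset.card_union_of_disjoint hdis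
  have hW8 := eight_le_card hW ⟨i, Finset.mem_union_left _ (Finset.mem_inter.2 ⟨hi, hiC⟩)⟩
  have hW4 := four_dvd_card hW
  have hWeq : ((B ∩ C) ∪ s).card = 8 := by omega
  -- compare with `C`
  have h3 := Cfsg.Agent.SporadicA.GolayBase.card_symmDiff_add ((B ∩ C) ∪ s) C
  have h4 : (B ∩ C).card ≤ (((B ∩ C) ∪ s) ∩ C).card := Finset.card_le_card fun r hr =>
    Finset.mem_inter.2 ⟨Finset.mem_union_left _ hr, (Finset.mem_inter.1 hr).2⟩
  have h5 := symmDiff_mem hW hC
  have h6 : ¬ (symmDiff ((B ∩ C) ∪ s) C).Nonempty := by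
    intro h
    have := eight_le_card h5 h
    omega
  apply h6
  refine ⟨j, ?_⟩
  rw [Finset.mem_symmDiff]
  right
  refine ⟨hjC, fun h => ?_⟩
  rcases Finset.mem_union.1 h with h | h
  · exact hj.1 (Finset.mem_inter.1 h).1
  · exact hj.2 (hs h)

/-! ### Lattice vectors -/

theorem isLeech_four {a : GolayPt → ℤ} (h : Even (∑ i, a i)) : IsLeech 0 (fun i => 4 * a i) := by
  refine ⟨fun i => ?_, ?_, fun c _ => ?_⟩
  · show 4 * a i ≡ 0 [ZMOD 2]
    unfold Int.ModEq; omega
  · rw [← Finset.mul_sum]
    obtain ⟨r, hr⟩ := h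
    rw [hr]
    unfold Int.ModEq; omega
  · rw [← Finset.mul_sum]
    unfold Int.ModEq; omega

/-- The vector `4 a` with `∑ a` even. -/
def four (a : GolayPt → ℤ) (h : Even (∑ i, a i)) : leechLattice := ⟨_, (isLeech_four h).mem⟩

theorem four_coe (a : GolayPt → ℤ) (h : Even (∑ i, a i)) (i : GolayPt) :
    (four a h : GolayPt → ℤ) i = 4 * a i := rfl

theorem isLeech_two_chi {W : Finset GolayPt} (hW : W ∈ Words) : IsLeech 0 (fun i => 2 * chi W i) := by
  refine ⟨fun i => ?_, ?_, fun c hc => ?_⟩
  · show 2 * chi W i ≡ 0 [ZMOD 2]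
    unfold Int.ModEq; omega
  · rw [← Finset.mul_sum, sum_chi]
    obtain ⟨r, hr⟩ := four_dvd_card hW
    rw [hr]
    unfold Int.ModEq; push_cast; omega
  · rw [← Finset.mul_sum]
    have h1 : ∑ i ∈ c, chi W i = ((c ∩ W).card : ℤ) := by
      rw [← sum_chi_mul, sum_chi_chi]
    rw [h1]
    obtain ⟨r, hr⟩ := even_inter hc hW
    rw [hr]
    unfold Int.ModEq; push_cast; omega

theorem sum_ite_one (p : GolayPt) (c : ℤ) : ∑ i : GolayPt, (if i = p then c else 0) = c := by
  rw [Finset.sum_ite_eq' Finset.univ p (fun _ => c), if_pos (Finset.mem_univ p)]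

/-- The vector `8 e_p`. -/
def e8 (p : GolayPt) : leechLattice :=
  four (fun i => if i = p then 2 else 0) (by rw [sum_ite_one]; exact even_two)

theorem e8_coe (p i : GolayPt) : (e8 p : GolayPt → ℤ) i = if i = p then 8 else 0 := by
  show 4 * (if i = p then (2 : ℤ) else 0) = _
  split_ifs <;> rfl

/-- The vector `4 e_l - 4 e_m`. -/
def dd (l m : GolayPt) : leechLattice :=
  four (fun i => (if i = l then 1 else 0) - (if i = m then 1 else 0)) (by
    rw [Finset.sum_sub_distrib, sum_ite_one, sum_ite_one]; exact ⟨0, rfl⟩)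

theorem dd_coe (l m i : GolayPt) : (dd l m : GolayPt → ℤ) i =
    4 * ((if i = l then 1 else 0) - (if i = m then 1 else 0)) := rfl

theorem sub_coe (x y : leechLattice) (i : GolayPt) :
    ((x - y : leechLattice) : GolayPt → ℤ) i = (x : GolayPt → ℤ) i - (y : GolayPt → ℤ) i := rfl

theorem add_coe (x y : leechLattice) (i : GolayPt) :
    ((x + y : leechLattice) : GolayPt → ℤ) i = (x : GolayPt → ℤ) i + (y : GolayPt → ℤ) i := rfl

theorem two_coe (x : leechLattice) (i : GolayPt) :
    ((2 • x : leechLattice) : GolayPt → ℤ) i = 2 * (x : GolayPt → ℤ) i := by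
  rw [two_smul, add_coe]; ring

theorem ext_coe {x y : leechLattice} (h : ∀ i, (x : GolayPt → ℤ) i = (y : GolayPt → ℤ) i) : x = y :=
  Subtype.ext (funext h)

theorem v0_eq_dd {p q : GolayPt} (h : p ≠ q) : v0 p q h = dd p q := by
  apply ext_coe
  intro i
  rw [dd_coe]
  by_cases hp : i = p
  · subst hp; rw [v0_left, if_pos rfl, if_neg h]; rfl
  · by_cases hq : i = q
    · subst hq; rw [v0_right, if_neg hp, if_pos rfl]; rfl
    · rw [v0_other h hp hq, if_neg hp, if_neg hq]; rfl

theorem odv_aux (p : GolayPt) : IsLeech 1 (fun i => if i = p then (-3 : ℤ) else 1) := by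
  have e : ∀ i, (if i = p then (-3 : ℤ) else 1) = 1 - (if i = p then 4 else 0) := fun i => by
    split_ifs <;> rfl
  refine ⟨fun i => ?_, ?_, fun c hc => ?_⟩
  · show (if i = p then (-3 : ℤ) else 1) ≡ 1 [ZMOD 2]
    split_ifs <;> decide
  · show ∑ i, (if i = p then (-3 : ℤ) else 1) ≡ 4 * 1 [ZMOD 8]
    simp only [e]
    rw [Finset.sum_sub_distrib, sum_ite_one, Finset.sum_const, Finset.card_univ, card_golayPt]
    decide
  · show ∑ i ∈ c, (if i = p then (-3 : ℤ) else 1) ≡ 0 [ZMOD 4]
    simp only [e]
    rw [Finset.sum_sub_distrib, Finset.sum_ite_eq', Finset.sum_const]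
    obtain ⟨r, hr⟩ := four_dvd_card hc
    rw [hr]
    unfold Int.ModEq
    split_ifs <;> simp <;> omega

/-- The vector with one coordinate `-3` and the others `1`. -/
def odv (p : GolayPt) : leechLattice := ⟨_, (odv_aux p).mem⟩

theorem odv_coe (p i : GolayPt) : (odv p : GolayPt → ℤ) i = if i = p then -3 else 1 := rfl

theorem odv_isLeech (p : GolayPt) : IsLeech 1 (odv p : GolayPt → ℤ) := odv_aux p

/-! ### Subgroups containing `2 Λ` -/

section

variable {U : AddSubgroup leechLattice} (h2 : ∀ z : leechLattice, 2 • z ∈ U)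

include h2

theorem two_mem {x z : leechLattice} (h : ∀ i, (x : GolayPt → ℤ) i = 2 * (z : GolayPt → ℤ) i) :
    x ∈ U := by
  rw [show x = 2 • z from ext_coe fun i => by rw [h, two_coe]]
  exact h2 z

/-- Vectors `8 b` with `∑ b` even. -/
theorem eight_mem {x : leechLattice} {b : GolayPt → ℤ} (hx : ∀ i, (x : GolayPt → ℤ) i = 8 * b i)
    (hs : Even (∑ i, b i)) : x ∈ U :=
  two_mem h2 (z := four b hs) fun i => by rw [hx, four_coe]; ring

/-- All `8 e_p` are congruent. -/
theorem e8_sub (p r : GolayPt) : e8 p - e8 r ∈ U :=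
  eight_mem h2 (b := fun i => (if i = p then 1 else 0) - (if i = r then 1 else 0))
    (fun i => by rw [sub_coe, e8_coe, e8_coe]; split_ifs <;> rfl) (by
      rw [Finset.sum_sub_distrib, sum_ite_one, sum_ite_one]; exact ⟨0, rfl⟩)

theorem e8_of {p : GolayPt} (h : e8 p ∈ U) (r : GolayPt) : e8 r ∈ U := by
  have := U.sub_mem h (e8_sub h2 p r)
  rwa [sub_sub_cancel] at this

/-- Vectors `8 b` with `∑ b` odd are congruent to `8 e_p`. -/
theorem odd_sub {x : leechLattice} {b : GolayPt → ℤ} (hx : ∀ i, (x : GolayPt → ℤ) i = 8 * b i)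
    (hs : ¬ Even (∑ i, b i)) (p : GolayPt) : x - e8 p ∈ U :=
  eight_mem h2 (b := fun i => b i - (if i = p then 1 else 0))
    (fun i => by rw [sub_coe, e8_coe, hx]; split_ifs <;> ring) (by
      rw [Finset.sum_sub_distrib, sum_ite_one]
      exact (Int.not_even_iff_odd.1 hs).sub_odd odd_one)

theorem e8_of_odd {x : leechLattice} {b : GolayPt → ℤ} (hxU : x ∈ U)
    (hx : ∀ i, (x : GolayPt → ℤ) i = 8 * b i) (hs : ¬ Even (∑ i, b i)) (p : GolayPt) : e8 p ∈ U := by
  have := U.sub_mem hxU (odd_sub h2 hx hs p)
  rwa [sub_sub_cancel] at this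

theorem eight_mem' {p : GolayPt} (hp : e8 p ∈ U) {x : leechLattice} {b : GolayPt → ℤ}
    (hx : ∀ i, (x : GolayPt → ℤ) i = 8 * b i) : x ∈ U := by
  by_cases hs : Even (∑ i, b i)
  · exact eight_mem h2 hx hs
  · have := U.add_mem (odd_sub h2 hx hs p) hp
    rwa [sub_add_cancel] at this

theorem word_mem {W : Finset GolayPt} (hW : W ∈ Words) {x : leechLattice}
    (hx : ∀ i, (x : GolayPt → ℤ) i = 4 * chi W i) : x ∈ U :=
  two_mem h2 (z := ⟨_, (isLeech_two_chi hW).mem⟩) fun i => by rw [hx]; show _ = 2 * (2 * chi W i); ring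

end

/-! ### The stabiliser of the triangle -/

/-- The element fixes `v = 4 e_p - 4 e_q` and `w = 4 e_q - 4 e_k`. -/
def Fix (p q k : GolayPt) (g : Co0) : Prop := g • dd p q = dd p q ∧ g • dd q k = dd q k

/-- `x` is orthogonal to `v` and `w` modulo 2. -/
def Perp (p q k : GolayPt) (x : leechLattice) : Prop :=
  (x : GolayPt → ℤ) p ≡ (x : GolayPt → ℤ) q [ZMOD 4] ∧ (x : GolayPt → ℤ) q ≡ (x : GolayPt → ℤ) k [ZMOD 4]

variable {p q k : GolayPt}

theorem sgn_fix {D : Finset GolayPt} (hD : D ∈ Words) (hDP : Disjoint D {p, q, k}) :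
    Fix p q k (sgn D hD) := by
  have h : ∀ a b : GolayPt, a ∉ D → b ∉ D → sgn D hD • dd a b = dd a b := by
    intro a b ha hb
    apply ext_coe
    intro i
    rw [sgn_coe, sgnMap_apply]
    split_ifs with hi
    · rw [dd_coe, if_neg (fun h : i = a => ha (h ▸ hi)), if_neg (fun h : i = b => hb (h ▸ hi))]; rfl
    · rfl
  have hp : p ∉ D := fun h => Finset.disjoint_left.1 hDP h (by simp)
  have hq : q ∉ D := fun h => Finset.disjoint_left.1 hDP h (by simp)
  have hk : k ∉ D := fun h => Finset.disjoint_left.1 hDP h (by simp)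
  exact ⟨h p q hp hq, h q k hq hk⟩

/-- `x` minus its sign change: `2 x` on `D`. -/
def res (D : Finset GolayPt) (hD : D ∈ Words) (x : leechLattice) : leechLattice := x - sgn D hD • x

theorem res_coe (D : Finset GolayPt) (hD : D ∈ Words) (x : leechLattice) (i : GolayPt) :
    (res D hD x : GolayPt → ℤ) i = if i ∈ D then 2 * (x : GolayPt → ℤ) i else 0 := by
  rw [res, sub_coe, sgn_coe, sgnMap_apply]
  split_ifs <;> ring

theorem exists_xi_fix (hpq : p ≠ q) (hqk : q ≠ k) (hpk : p ≠ k) {l : GolayPt}
    (hl : l ∉ ({p, q, k} : Finset GolayPt)) : ∃ g : Co0, Fix p q k g ∧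
    (∀ x : leechLattice, ∀ i ∈ ({p, q, k, l} : Finset GolayPt), ((g • x : leechLattice) : GolayPt → ℤ) i =
      (x : GolayPt → ℤ) i - ((x : GolayPt → ℤ) p + (x : GolayPt → ℤ) q + (x : GolayPt → ℤ) k +
        (x : GolayPt → ℤ) l) / 2) ∧
    (∀ x : leechLattice, (∀ i, i ∉ ({p, q, k, l} : Finset GolayPt) → (x : GolayPt → ℤ) i = 0) →
      ∀ i, i ∉ ({p, q, k, l} : Finset GolayPt) → ((g • x : leechLattice) : GolayPt → ℤ) i = 0) := by
  simp only [Finset.mem_insert, Finset.mem_singleton, not_or] at hl
  obtain ⟨hlp, hlq, hlk⟩ := hl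
  obtain ⟨g, h1, h2⟩ := exists_xi {p, q, k, l}
    (card_four hpq hpk (Ne.symm hlp) hqk (Ne.symm hlq) (Ne.symm hlk))
  have h1' : ∀ x : leechLattice, ∀ i ∈ ({p, q, k, l} : Finset GolayPt),
      ((g • x : leechLattice) : GolayPt → ℤ) i = (x : GolayPt → ℤ) i - ((x : GolayPt → ℤ) p +
        (x : GolayPt → ℤ) q + (x : GolayPt → ℤ) k + (x : GolayPt → ℤ) l) / 2 := by
    intro x i hi
    rw [h1 x i hi, sum_four hpq hpk (Ne.symm hlp) hqk (Ne.symm hlq) (Ne.symm hlk)]
  refine ⟨g, ?_, h1', h2⟩
  have h : ∀ a ∈ ({p, q, k} : Finset GolayPt), ∀ b ∈ ({p, q, k} : Finset GolayPt), a ≠ b →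
      g • dd a b = dd a b := by
    intro a ha b hb hab
    have hz : ∀ i, i ∉ ({p, q, k, l} : Finset GolayPt) → (dd a b : GolayPt → ℤ) i = 0 := by
      intro i hi
      rw [dd_coe, if_neg, if_neg]
      · rfl
      · rintro rfl; apply hi; simp only [Finset.mem_insert, Finset.mem_singleton] at hb ⊢; tauto
      · rintro rfl; apply hi; simp only [Finset.mem_insert, Finset.mem_singleton] at ha ⊢; tauto
    apply ext_coe
    intro i
    by_cases hi : i ∈ ({p, q, k, l} : Finset GolayPt)
    · rw [h1' _ i hi]
      have hs : (dd a b : GolayPt → ℤ) p + (dd a b : GolayPt → ℤ) q + (dd a b : GolayPt → ℤ) k +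
          (dd a b : GolayPt → ℤ) l = 0 := by
        have h0 := sum_four hpq hpk (Ne.symm hlp) hqk (Ne.symm hlq) (Ne.symm hlk)
          (fun i => (dd a b : GolayPt → ℤ) i)
        rw [← h0]
        have e : ∑ i ∈ ({p, q, k, l} : Finset GolayPt), (dd a b : GolayPt → ℤ) i =
            ∑ i, (dd a b : GolayPt → ℤ) i := by
          apply Finset.sum_subset (Finset.subset_univ _)
          intro i _ hi
          exact hz i hi
        rw [e]
        simp only [dd_coe]
        rw [← Finset.mul_sum, Finset.sum_sub_distrib, sum_ite_one, sum_ite_one]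
        ring
      rw [hs]; simp
    · rw [h2 _ hz i hi, hz i hi]
  exact ⟨h p (by simp) q (by simp) hpq, h q (by simp) k (by simp) hqk⟩

section

variable {U : AddSubgroup leechLattice} (h2 : ∀ z : leechLattice, 2 • z ∈ U)

include h2

/-- **Stage C.** -/
theorem four_mem (hpq : p ≠ q) (hqk : q ≠ k) (hpk : p ≠ k)
    (ht : ∀ l, l ∉ ({p, q, k} : Finset GolayPt) → ∀ x : leechLattice,
      (∀ i, (x : GolayPt → ℤ) i = 4 * chi {p, q, k, l} i) → x ∈ U)
    (hR : ∀ D (hD : D ∈ Words), Disjoint D {p, q, k} → ∀ l m, l ∉ ({p, q, k} : Finset GolayPt) →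
      m ∉ ({p, q, k} : Finset GolayPt) → dd l m ∈ U → res D hD (dd l m) ∈ U) :
    (∀ i, e8 i ∈ U) ∧ ∀ i j, dd i j ∈ U := by
  have hcard : ∀ l, l ∉ ({p, q, k} : Finset GolayPt) → Even (∑ i, chi {p, q, k, l} i) := by
    intro l hl
    simp only [Finset.mem_insert, Finset.mem_singleton, not_or] at hl
    rw [sum_chi, card_four hpq hpk (Ne.symm hl.1) hqk (Ne.symm hl.2.1) (Ne.symm hl.2.2)]
    exact ⟨2, rfl⟩
  -- outside the three points
  have hout : ∀ l m, l ∉ ({p, q, k} : Finset GolayPt) → m ∉ ({p, q, k} : Finset GolayPt) →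
      dd l m ∈ U := by
    intro l m hl hm
    have h3 := U.sub_mem (ht l hl (four _ (hcard l hl)) fun i => rfl)
      (ht m hm (four _ (hcard m hm)) fun i => rfl)
    have e : four _ (hcard l hl) - four _ (hcard m hm) = dd l m := by
      apply ext_coe
      intro i
      rw [sub_coe, four_coe, four_coe, dd_coe]
      unfold chi
      simp only [Finset.mem_insert, Finset.mem_singleton, not_or] at hl hm ⊢
      by_cases h1 : i = p ∨ i = q ∨ i = k
      · have h4 : i ≠ l := by
          rintro rfl; tauto
        have h5 : i ≠ m := by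
          rintro rfl; tauto
        rw [if_pos (by tauto), if_pos (by tauto), if_neg h4, if_neg h5]; rfl
      · by_cases h4 : i = l <;> by_cases h5 : i = m
        · rw [if_pos (by tauto), if_pos (by tauto), if_pos h4, if_pos h5]; rfl
        · rw [if_pos (by tauto), if_neg (by tauto), if_pos h4, if_neg h5]; rfl
        · rw [if_neg (by tauto), if_pos (by tauto), if_neg h4, if_pos h5]; rfl
        · rw [if_neg (by tauto), if_neg (by tauto), if_neg h4, if_neg h5]; rfl
    rwa [e] at h3
  have hP3 : ({p, q, k} : Finset GolayPt).card = 3 := by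
    rw [Finset.card_insert_of_notMem, Finset.card_insert_of_notMem, Finset.card_singleton]
    · simpa using hqk
    · simp only [Finset.mem_insert, Finset.mem_singleton, not_or]; exact ⟨hpq, hpk⟩
  -- the vector `8 e`
  obtain ⟨l, hl⟩ := exists_notMem {p, q, k} (by omega)
  obtain ⟨m, hm⟩ := exists_notMem (insert l {p, q, k})
    (lt_of_le_of_lt (Finset.card_insert_le _ _) (by omega))
  rw [Finset.mem_insert, not_or] at hm
  have h8 : e8 l ∈ U := by
    obtain ⟨D, hD, hlD, hDs⟩ := exists_word l (insert m {p, q, k})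
      ((Finset.card_insert_le _ _).trans (by omega))
      (by rw [Finset.mem_insert, not_or]; exact ⟨fun h => hm.1 h.symm, hl⟩)
    have hDP : Disjoint D {p, q, k} :=
      Finset.disjoint_right.2 fun i hi => hDs i (Finset.mem_insert_of_mem hi)
    have h3 := hR D hD hDP l m hl hm.2 (hout l m hl hm.2)
    have e : res D hD (dd l m) = e8 l := by
      apply ext_coe
      intro i
      rw [res_coe, dd_coe, e8_coe]
      have hmD : m ∉ D := hDs m (Finset.mem_insert_self _ _)
      by_cases hi : i = l
      · subst hi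
        rw [if_pos hlD, if_pos rfl, if_pos rfl, if_neg (fun h => hm.1 h.symm)]; rfl
      · rw [if_neg hi]
        split_ifs with h5 h6
        · exact absurd (h6 ▸ h5) hmD
        · rfl
        · rfl
    rwa [e] at h3
  have h8' := e8_of h2 h8
  refine ⟨h8', ?_⟩
  -- one of the three points
  have hin : ∀ i ∈ ({p, q, k} : Finset GolayPt), dd i l ∈ U := by
    intro i hi
    obtain ⟨O, hO, hiO, hOs⟩ := exists_word i (({p, q, k} : Finset GolayPt).erase i)
      (by rw [Finset.card_erase_of_mem hi]; omega) (Finset.notMem_erase _ _)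
    have h4 : Even (∑ j, chi O j) := by
      rw [sum_chi]
      obtain ⟨r, hr⟩ := four_dvd_card hO
      exact ⟨2 * r, by rw [hr]; push_cast; ring⟩
    have h5 : four _ h4 ∈ U := word_mem h2 hO fun i => rfl
    have h6 : ∑ j ∈ O.erase i, dd j l ∈ U := by
      apply U.sum_mem
      intro j hj
      apply hout j l _ hl
      intro hjP
      exact hOs j (Finset.mem_erase.2 ⟨(Finset.mem_erase.1 hj).1, hjP⟩) (Finset.mem_erase.1 hj).2
    have h7 := U.sub_mem h5 h6
    have h9 : four _ h4 - ∑ j ∈ O.erase i, dd j l - dd i l ∈ U := by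
      apply eight_mem' h2 h8 (b := fun j => if j = l then (O.card : ℤ) / 2 else 0)
      intro j
      have e1 : ∑ j ∈ O.erase i, dd j l + dd i l = ∑ j ∈ O, dd j l := Finset.sum_erase_add _ _ hiO
      have e2 : ((∑ j ∈ O, dd j l : leechLattice) : GolayPt → ℤ) j = 4 * (chi O j - (if j = l then (O.card : ℤ) else 0)) := by
        rw [AddSubgroup.val_finsetSum, Finset.sum_apply]
        simp only [dd_coe]
        rw [← Finset.mul_sum, Finset.sum_sub_distrib, Finset.sum_const]
        unfold chi
        rw [Finset.sum_ite_eq O j]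
        split_ifs <;> simp
      rw [sub_sub, e1, sub_coe, four_coe, e2]
      obtain ⟨r, hr⟩ := four_dvd_card hO
      rw [hr]
      push_cast
      split_ifs <;> omega
    have h10 := U.sub_mem h7 h9
    rwa [sub_sub_cancel] at h10
  have hall : ∀ i, dd i l ∈ U := by
    intro i
    by_cases hi : i ∈ ({p, q, k} : Finset GolayPt)
    · exact hin i hi
    · exact hout i l hi hl
  intro i j
  have := U.sub_mem (hall i) (hall j)
  have e : dd i l - dd j l = dd i j := by
    apply ext_coe
    intro r
    rw [sub_coe, dd_coe, dd_coe, dd_coe]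
    ring
  rwa [e] at this

end

/-! ### Subgroups invariant under `Fix` -/

/-- `2 Λ` -/
def tw : AddSubgroup leechLattice := (nsmulAddMonoidHom (α := leechLattice) 2).range

theorem mem_tw {x : leechLattice} : x ∈ tw ↔ ∃ z : leechLattice, x = 2 • z :=
  ⟨fun ⟨z, hz⟩ => ⟨z, hz.symm⟩, fun ⟨z, hz⟩ => ⟨z, hz.symm⟩⟩

theorem two_mem_tw (z : leechLattice) : 2 • z ∈ tw := mem_tw.2 ⟨z, rfl⟩

/-- `x` is in `⟨v, w⟩ + 2 Λ`. -/
def Tri (p q k : GolayPt) (x : leechLattice) : Prop :=
  x ∈ tw ∨ x - dd p q ∈ tw ∨ x - dd q k ∈ tw ∨ x - dd p k ∈ tw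

theorem Tri.congr {x y : leechLattice} (h : x - y ∈ tw) (hx : Tri p q k x) : Tri p q k y := by
  have key : ∀ u, x - u ∈ tw → y - u ∈ tw := by
    intro u hu
    have := tw.sub_mem hu h
    rwa [sub_sub_sub_cancel_left] at this
  rcases hx with h0 | h0 | h0 | h0
  · left
    have := key 0 (by rwa [sub_zero])
    rwa [sub_zero] at this
  · exact Or.inr (Or.inl (key _ h0))
  · exact Or.inr (Or.inr (Or.inl (key _ h0)))
  · exact Or.inr (Or.inr (Or.inr (key _ h0)))

/-- Parity of a sum of integers. -/
theorem even_sum_iff {c : GolayPt → ℤ} {B : Finset GolayPt} (hB : ∀ i, Odd (c i) ↔ i ∈ B)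
    (S : Finset GolayPt) : Even (∑ i ∈ S, c i) ↔ Even (B ∩ S).card := by
  induction S using Finset.induction_on with
  | empty => simp
  | insert r S hr ih =>
    rw [Finset.sum_insert hr, Int.even_add, ih]
    by_cases hrB : r ∈ B
    · rw [Finset.inter_insert_of_mem hrB, Finset.card_insert_of_notMem (fun h => hr (Finset.mem_inter.1 h).2),
        Nat.even_add_one]
      have : ¬ Even (c r) := Int.not_even_iff_odd.2 ((hB r).2 hrB)
      tauto
    · rw [Finset.inter_insert_of_notMem hrB]
      have : Even (c r) := Int.not_odd_iff_even.1 fun h => hrB ((hB r).1 h)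
      tauto

theorem card_P (hpq : p ≠ q) (hqk : q ≠ k) (hpk : p ≠ k) : ({p, q, k} : Finset GolayPt).card = 3 := by
  rw [Finset.card_insert_of_notMem, Finset.card_insert_of_notMem, Finset.card_singleton]
  · simpa using hqk
  · simp only [Finset.mem_insert, Finset.mem_singleton, not_or]; exact ⟨hpq, hpk⟩

/-- A codeword disjoint from the three points. -/
theorem exists_word_disj (hpq : p ≠ q) (hqk : q ≠ k) (hpk : p ≠ k) :
    ∃ C ∈ Words, C.Nonempty ∧ Disjoint C {p, q, k} := by
  have hP3 := card_P hpq hqk hpk
  obtain ⟨l, hl⟩ := exists_notMem {p, q, k} (by omega)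
  obtain ⟨C, hC, hlC, hCs⟩ := exists_word l {p, q, k} (by omega) hl
  exact ⟨C, hC, ⟨l, hlC⟩, Finset.disjoint_right.2 hCs⟩

section

variable {U : AddSubgroup leechLattice} (h2 : ∀ z : leechLattice, 2 • z ∈ U)

include h2

theorem e8_of_even (hpq : p ≠ q) (hqk : q ≠ k) (hpk : p ≠ k)
    (hR : ∀ D (hD : D ∈ Words), Disjoint D {p, q, k} → ∀ x ∈ U, res D hD x ∈ U)
    {x : leechLattice} (hx : x ∈ U) {c : GolayPt → ℤ} (hc : ∀ i, (x : GolayPt → ℤ) i = 2 * c i)
    {B : Finset GolayPt} (hcB : ∀ i, Odd (c i) ↔ i ∈ B) (hB : B ∈ Words) (hB0 : B.Nonempty)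
    (hBP : Disjoint B {p, q, k}) (r : GolayPt) : e8 r ∈ U := by
  obtain ⟨C, hC, D, hD, hCP, hDP, hodd⟩ := exists_odd_inter (card_P hpq hqk hpk) hB hB0 hBP
  have h3 := hR D hD hDP _ (hR C hC hCP x hx)
  refine e8_of_odd h2 (b := fun i => if i ∈ C ∩ D then c i else 0) h3 (fun i => ?_) ?_ r
  · rw [res_coe, res_coe, hc]
    by_cases h4 : i ∈ C <;> by_cases h5 : i ∈ D <;> simp [h4, h5]; ring
  · rw [Finset.sum_ite_mem, Finset.univ_inter, even_sum_iff hcB, ← Finset.inter_assoc]
    exact hodd

/-- **Submodules not contained in `⟨v, w⟩`.** -/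
theorem mem_of_not_tri (hpq : p ≠ q) (hqk : q ≠ k) (hpk : p ≠ k)
    (hU : ∀ g, Fix p q k g → ∀ x ∈ U, g • x ∈ U) (hperp : ∀ x ∈ U, Perp p q k x)
    {x : leechLattice} (hx : x ∈ U) (hnx : ¬ Tri p q k x) : (∀ i, e8 i ∈ U) ∧ ∀ i j, dd i j ∈ U := by
  have hR : ∀ D (hD : D ∈ Words), Disjoint D {p, q, k} → ∀ x ∈ U, res D hD x ∈ U :=
    fun D hD hDP x hx => U.sub_mem hx (hU _ (sgn_fix hD hDP) x hx)
  -- it is enough to find `8 e_p + u` with `u` fixed
  suffices hmain : ∃ u : leechLattice, (∀ g, Fix p q k g → g • u = u) ∧ e8 p + u ∈ U by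
    obtain ⟨u, hu, huU⟩ := hmain
    apply four_mem h2 hpq hqk hpk
    · intro l hl y hy
      obtain ⟨g, hg, hg1, hg2⟩ := exists_xi_fix hpq hqk hpk hl
      have h3 := U.sub_mem huU (hU g hg _ huU)
      rw [smul_add_co0, hu g hg, add_sub_add_right_eq_sub] at h3
      have e : y = e8 p - g • e8 p := by
        apply ext_coe
        intro i
        rw [sub_coe, hy]
        simp only [Finset.mem_insert, Finset.mem_singleton, not_or] at hl
        by_cases hi : i ∈ ({p, q, k, l} : Finset GolayPt)
        · rw [hg1 _ i hi, chi_mem hi, e8_coe p p, e8_coe p q, e8_coe p k, e8_coe p l, if_pos rfl,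
            if_neg (Ne.symm hpq), if_neg (Ne.symm hpk), if_neg hl.1]
          ring
        · rw [hg2 _ _ i hi, chi_not_mem hi, e8_coe, if_neg]
          · rfl
          · rintro rfl; exact hi (by simp)
          · intro j hj
            rw [e8_coe, if_neg]
            rintro rfl; exact hj (by simp)
      rw [e]; exact h3
    · intro D hD hDP l m _ _ hlm
      exact hR D hD hDP _ hlm
  have h0 : ∀ g : Co0, g • (0 : leechLattice) = 0 := smul_zero_co0
  -- reduction to the case of a word disjoint from `P`
  have hdone : e8 p ∈ U → ∃ u : leechLattice, (∀ g, Fix p q k g → g • u = u) ∧ e8 p + u ∈ U :=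
    fun h => ⟨0, fun g _ => h0 g, by rwa [add_zero]⟩
  rcases isLeech_zero_or_one x.2 with hl | hl
  · obtain ⟨x', hx', hnx', B, hB, a, hxa, hBP⟩ : ∃ x' ∈ U, ¬ Tri p q k x' ∧ ∃ B ∈ Words, ∃ a : GolayPt → ℤ,
        (∀ i, (x' : GolayPt → ℤ) i = 2 * chi B i + 4 * a i) ∧ Disjoint B {p, q, k} := by
      obtain ⟨B, hB, a, hxa, ha⟩ := exists_form hl (Or.inl rfl)
      have hP := hperp x hx
      have hB1 : p ∈ B ↔ q ∈ B := by
        have h1 := hP.1
        rw [hxa, hxa] at h1
        unfold Int.ModEq chi at h1
        by_cases hp : p ∈ B <;> by_cases hq : q ∈ B <;> simp only [hp, hq, if_true, if_false] at h1 ⊢ <;> omega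
      have hB2 : q ∈ B ↔ k ∈ B := by
        have h1 := hP.2
        rw [hxa, hxa] at h1
        unfold Int.ModEq chi at h1
        by_cases hp : q ∈ B <;> by_cases hq : k ∈ B <;> simp only [hp, hq, if_true, if_false] at h1 ⊢ <;> omega
      by_cases hp : p ∈ B
      · -- subtract twice an odd vector
        obtain ⟨o, ho⟩ : ∃ o : leechLattice, IsLeech 1 (o : GolayPt → ℤ) := ⟨odv p, odv_isLeech p⟩
        have ho1 : ∀ i, ∃ b, (o : GolayPt → ℤ) i = 2 * b + 1 := fun i => by
          have := ho.par i
          exact ⟨(o : GolayPt → ℤ) i / 2, by unfold Int.ModEq at this; omega⟩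
        choose b hb using ho1
        refine ⟨x - 2 • o, U.sub_mem hx (h2 o), fun h => hnx (h.congr ?_), Bᶜ, compl_mem hB,
          fun i => a i - b i + (if i ∈ B then 0 else -1), fun i => ?_, ?_⟩
        · rw [sub_sub_cancel_left]
          exact tw.neg_mem (two_mem_tw o)
        · rw [sub_coe, two_coe, hxa, hb]
          show _ = 2 * chi Bᶜ i + 4 * (a i - b i + if i ∈ B then 0 else -1)
          unfold chi
          by_cases hi : i ∈ B
          · rw [if_pos hi, if_neg (by simpa using hi), if_pos hi]; ring
          · rw [if_neg hi, if_pos (by simpa using hi), if_neg hi]; ring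
        · rw [Finset.disjoint_right]
          intro i hi
          simp only [Finset.mem_insert, Finset.mem_singleton] at hi
          rw [Finset.mem_compl, not_not]
          rcases hi with rfl | rfl | rfl
          · exact hp
          · exact hB1.1 hp
          · exact hB2.1 (hB1.1 hp)
      · refine ⟨x, hx, hnx, B, hB, a, fun i => by rw [hxa]; ring, ?_⟩
        rw [Finset.disjoint_right]
        intro i hi
        simp only [Finset.mem_insert, Finset.mem_singleton] at hi
        rcases hi with rfl | rfl | rfl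
        · exact hp
        · exact fun h => hp (hB1.2 h)
        · exact fun h => hp (hB1.2 (hB2.2 h))
    by_cases hB0 : B.Nonempty
    · apply hdone
      refine e8_of_even h2 hpq hqk hpk hR hx' (c := fun i => chi B i + 2 * a i)
        (fun i => by rw [hxa]; ring) (fun i => ?_) hB hB0 hBP p
      unfold chi
      by_cases hi : i ∈ B
      · simp only [hi, if_true, iff_true]; exact ⟨a i, by ring⟩
      · simp only [hi, if_false, iff_false, Int.not_odd_iff_even]; exact ⟨a i, by ring⟩
    rw [Finset.not_nonempty_iff_eq_empty] at hB0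
    subst hB0
    have hxa' : ∀ i, (x' : GolayPt → ℤ) i = 4 * a i := fun i => by
      rw [hxa, chi_not_mem (Finset.notMem_empty i)]; ring
    let A : Finset GolayPt := Finset.univ.filter fun i => Odd (a i)
    have hA : ∀ i, Odd (a i) ↔ i ∈ A := fun i => by simp [A]
    by_cases hex : ∃ D ∈ Words, Disjoint D {p, q, k} ∧ ¬ Even (A ∩ D).card
    · obtain ⟨D, hD, hDP, hodd⟩ := hex
      apply hdone
      refine e8_of_odd h2 (b := fun i => if i ∈ D then a i else 0) (hR D hD hDP x' hx') (fun i => ?_) ?_ p
      · rw [res_coe, hxa']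
        split_ifs <;> ring
      · rw [Finset.sum_ite_mem, Finset.univ_inter, even_sum_iff hA]
        exact hodd
    push Not at hex
    obtain ⟨s, hs, hW⟩ := exists_word_of_even {p, q, k} (by rw [card_P hpq hqk hpk]; norm_num) A
      (fun D hD hDP => hex D hD hDP)
    -- the sum of `a` is even
    have hsum : Even (∑ i, a i) := by
      have hl' : IsLeech 0 (x' : GolayPt → ℤ) := by
        rcases isLeech_zero_or_one x'.2 with h | h
        · exact h
        · exfalso
          have := h.par p
          rw [hxa'] at this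
          unfold Int.ModEq at this
          omega
      have h3 := hl'.sum
      simp only [hxa'] at h3
      rw [← Finset.mul_sum] at h3
      unfold Int.ModEq at h3
      rw [Int.even_iff]
      omega
    have hAe : Even A.card := by
      have := even_sum_iff hA Finset.univ
      rw [Finset.inter_univ] at this
      exact this.1 hsum
    have hse : Even s.card := by
      have h3 := Cfsg.Agent.SporadicA.GolayBase.card_symmDiff_add A s
      have h4 := four_dvd_card hW
      rw [Nat.even_iff] at hAe ⊢
      omega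
    -- the vector `u`
    obtain ⟨u, hu1, b, hub, hbs, hutri⟩ : ∃ u : leechLattice, (∀ g, Fix p q k g → g • u = u) ∧
        ∃ b : GolayPt → ℤ, (∀ i, (u : GolayPt → ℤ) i = 4 * b i) ∧ (∀ i, Odd (b i) ↔ i ∈ s) ∧
        ∀ y, y - u ∈ tw → Tri p q k y := by
      have hdd : ∀ l m : GolayPt, l ≠ m → ∀ i, Odd ((if i = l then (1 : ℤ) else 0) - (if i = m then 1 else 0)) ↔
          i ∈ ({l, m} : Finset GolayPt) := by
        intro l m hlm i
        simp only [Finset.mem_insert, Finset.mem_singleton]
        by_cases h3 : i = l <;> by_cases h4 : i = m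
        · exact absurd (h3.symm.trans h4) hlm
        · simp only [h3, h4, if_true, if_false]
          rw [if_neg hlm]; simp
        · rw [if_neg h3, if_pos h4]; simp [h4]
        · rw [if_neg h3, if_neg h4]; simp [h3, h4]
      have hs' : s = ∅ ∨ s = {p, q} ∨ s = {q, k} ∨ s = {p, k} := by
        have hmem : ∀ i ∈ s, i = p ∨ i = q ∨ i = k := fun i hi => by
          simpa using hs hi
        by_cases h3 : p ∈ s <;> by_cases h4 : q ∈ s <;> by_cases h5 : k ∈ s
        · exfalso
          have e : s = {p, q, k} := Finset.Subset.antisymm hs fun i hi => by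
            simp only [Finset.mem_insert, Finset.mem_singleton] at hi
            rcases hi with rfl | rfl | rfl <;> assumption
          rw [e, card_P hpq hqk hpk] at hse
          exact absurd hse (by decide)
        · right; left
          ext i
          simp only [Finset.mem_insert, Finset.mem_singleton]
          constructor
          · intro hi
            rcases hmem i hi with h | h | h
            · exact Or.inl h
            · exact Or.inr h
            · exact absurd (h ▸ hi) h5
          · rintro (rfl | rfl) <;> assumption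
        · right; right; right
          ext i
          simp only [Finset.mem_insert, Finset.mem_singleton]
          constructor
          · intro hi
            rcases hmem i hi with h | h | h
            · exact Or.inl h
            · exact absurd (h ▸ hi) h4
            · exact Or.inr h
          · rintro (rfl | rfl) <;> assumption
        · exfalso
          have e : s = {p} := by
            ext i
            rw [Finset.mem_singleton]
            constructor
            · intro hi
              rcases hmem i hi with h | h | h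
              · exact h
              · exact absurd (h ▸ hi) h4
              · exact absurd (h ▸ hi) h5
            · rintro rfl; assumption
          rw [e, Finset.card_singleton] at hse
          exact absurd hse (by decide)
        · right; right; left
          ext i
          simp only [Finset.mem_insert, Finset.mem_singleton]
          constructor
          · intro hi
            rcases hmem i hi with h | h | h
            · exact absurd (h ▸ hi) h3
            · exact Or.inl h
            · exact Or.inr h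
          · rintro (rfl | rfl) <;> assumption
        · exfalso
          have e : s = {q} := by
            ext i
            rw [Finset.mem_singleton]
            constructor
            · intro hi
              rcases hmem i hi with h | h | h
              · exact absurd (h ▸ hi) h3
              · exact h
              · exact absurd (h ▸ hi) h5
            · rintro rfl; assumption
          rw [e, Finset.card_singleton] at hse
          exact absurd hse (by decide)
        · exfalso
          have e : s = {k} := by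
            ext i
            rw [Finset.mem_singleton]
            constructor
            · intro hi
              rcases hmem i hi with h | h | h
              · exact absurd (h ▸ hi) h3
              · exact absurd (h ▸ hi) h4
              · exact h
            · rintro rfl; assumption
          rw [e, Finset.card_singleton] at hse
          exact absurd hse (by decide)
        · left
          rw [Finset.eq_empty_iff_forall_notMem]
          intro i hi
          rcases hmem i hi with rfl | rfl | rfl
          · exact h3 hi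
          · exact h4 hi
          · exact h5 hi
      rcases hs' with rfl | rfl | rfl | rfl
      · exact ⟨0, fun g _ => h0 g, 0, fun i => by simp, fun i => by simp, fun y hy => by
          rw [sub_zero] at hy; exact Or.inl hy⟩
      · exact ⟨dd p q, fun g hg => hg.1, _, fun i => dd_coe p q i, hdd p q hpq, fun y hy => Or.inr (Or.inl hy)⟩
      · exact ⟨dd q k, fun g hg => hg.2, _, fun i => dd_coe q k i, hdd q k hqk,
          fun y hy => Or.inr (Or.inr (Or.inl hy))⟩
      · refine ⟨dd p k, fun g hg => ?_, _, fun i => dd_coe p k i, hdd p k hpk,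
          fun y hy => Or.inr (Or.inr (Or.inr hy))⟩
        have e : dd p k = dd p q + dd q k := by
          apply ext_coe
          intro i
          rw [add_coe, dd_coe, dd_coe, dd_coe]; ring
        rw [e, smul_add_co0, hg.1, hg.2]
    -- `x' - u - 4 χ_W = 8 c`
    have hWe : Even (∑ i, chi (symmDiff A s) i) := by
      rw [sum_chi]
      obtain ⟨r, hr⟩ := four_dvd_card hW
      exact ⟨2 * r, by rw [hr]; push_cast; ring⟩
    have hc : ∀ i, ∃ c : ℤ, a i - b i - chi (symmDiff A s) i = 2 * c := by
      intro i
      have h3 := hA i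
      have h4 := hbs i
      rw [← even_iff_exists_two_mul]
      unfold chi
      by_cases h5 : i ∈ A <;> by_cases h6 : i ∈ s
      · rw [if_neg (by rw [Finset.mem_symmDiff]; tauto), sub_zero]
        exact (h3.2 h5).sub_odd (h4.2 h6)
      · rw [if_pos (by rw [Finset.mem_symmDiff]; tauto)]
        have h7 : Even (b i) := Int.not_odd_iff_even.1 fun h => h6 (h4.1 h)
        exact ((h3.2 h5).sub_even h7).sub_odd odd_one
      · rw [if_pos (by rw [Finset.mem_symmDiff]; tauto)]
        have h7 : Even (a i) := Int.not_odd_iff_even.1 fun h => h5 (h3.1 h)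
        exact (h7.sub_odd (h4.2 h6)).sub_odd odd_one
      · rw [if_neg (by rw [Finset.mem_symmDiff]; tauto), sub_zero]
        have h7 : Even (a i) := Int.not_odd_iff_even.1 fun h => h5 (h3.1 h)
        have h8 : Even (b i) := Int.not_odd_iff_even.1 fun h => h6 (h4.1 h)
        exact h7.sub h8
    choose c hc using hc
    have hxc : ∀ i, ((x' - u - four _ hWe : leechLattice) : GolayPt → ℤ) i = 8 * c i := fun i => by
      rw [sub_coe, sub_coe, hxa', hub, four_coe]
      linear_combination 4 * hc i
    by_cases hce : Even (∑ i, c i)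
    · exfalso
      apply hnx'
      apply hutri
      have h3 : x' - u - four _ hWe ∈ tw := eight_mem two_mem_tw hxc hce
      have h4 : four _ hWe ∈ tw := word_mem two_mem_tw hW fun i => rfl
      have := tw.add_mem h3 h4
      rwa [sub_add_cancel] at this
    · refine ⟨u, hu1, ?_⟩
      have h3 := odd_sub h2 hxc hce p
      have h4 : four _ hWe ∈ U := word_mem h2 hW fun i => rfl
      have h5 := U.sub_mem (U.sub_mem hx' h3) h4
      have e : x' - (x' - u - four _ hWe - e8 p) - four _ hWe = e8 p + u := by abel
      rwa [e] at h5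
  · obtain ⟨C, hC, hC0, hCP⟩ := exists_word_disj hpq hqk hpk
    apply hdone
    refine e8_of_even h2 hpq hqk hpk hR (hR C hC hCP x hx)
      (c := fun i => if i ∈ C then (x : GolayPt → ℤ) i else 0)
      (fun i => by rw [res_coe]; split_ifs <;> ring) (fun i => ?_) hC hC0 hCP p
    have h3 := hl.par i
    by_cases hi : i ∈ C
    · simp only [hi, if_true, iff_true]
      rw [Int.odd_iff]; unfold Int.ModEq at h3; omega
    · simp only [hi, if_false, iff_false]; simp

/-- **Subgroups modulo which `Fix` acts trivially on `{v, w}^⊥`.** -/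
theorem le_of_trivial (hpq : p ≠ q) (hqk : q ≠ k) (hpk : p ≠ k)
    (hT : ∀ g, Fix p q k g → ∀ y, Perp p q k y → y - g • y ∈ U) :
    ∀ y, Perp p q k y → y ∈ U := by
  have hperp4 : ∀ (y : leechLattice) (a : GolayPt → ℤ), (∀ i, (y : GolayPt → ℤ) i = 4 * a i) → Perp p q k y := by
    intro y a h
    constructor
    · rw [h, h]; unfold Int.ModEq; omega
    · rw [h, h]; unfold Int.ModEq; omega
  obtain ⟨h8, hd⟩ : (∀ i, e8 i ∈ U) ∧ ∀ i j, dd i j ∈ U := by
    apply four_mem h2 hpq hqk hpk
    · intro l hl y hy
      obtain ⟨g, hg, hg1, hg2⟩ := exists_xi_fix hpq hqk hpk hl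
      have h3 := hT g hg (e8 p) (hperp4 _ (fun i => if i = p then 2 else 0) fun i => rfl)
      have e : y = e8 p - g • e8 p := by
        apply ext_coe
        intro i
        rw [sub_coe, hy]
        simp only [Finset.mem_insert, Finset.mem_singleton, not_or] at hl
        by_cases hi : i ∈ ({p, q, k, l} : Finset GolayPt)
        · rw [hg1 _ i hi, chi_mem hi, e8_coe p p, e8_coe p q, e8_coe p k, e8_coe p l, if_pos rfl,
            if_neg (Ne.symm hpq), if_neg (Ne.symm hpk), if_neg hl.1]
          ring
        · rw [hg2 _ _ i hi, chi_not_mem hi, e8_coe, if_neg]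
          · rfl
          · rintro rfl; exact hi (by simp)
          · intro j hj
            rw [e8_coe, if_neg]
            rintro rfl; exact hj (by simp)
      rw [e]; exact h3
    · intro D hD hDP l m _ _ _
      exact hT _ (sgn_fix hD hDP) _ (hperp4 _ _ fun i => dd_coe l m i)
  -- vectors divisible by 4
  have hfour : ∀ (y : leechLattice) (a : GolayPt → ℤ), (∀ i, (y : GolayPt → ℤ) i = 4 * a i) → y ∈ U := by
    intro y a ha
    have hl' : IsLeech 0 (y : GolayPt → ℤ) := by
      rcases isLeech_zero_or_one y.2 with h | h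
      · exact h
      · exfalso
        have := h.par p
        rw [ha] at this
        unfold Int.ModEq at this
        omega
    have h3 := hl'.sum
    simp only [ha] at h3
    rw [← Finset.mul_sum] at h3
    have h4 : y - ∑ i, a i • dd i p ∈ U := by
      apply eight_mem' h2 (h8 p) (b := fun j => if j = p then (∑ i, a i) / 2 else 0)
      intro j
      have e2 : ((∑ i, a i • dd i p : leechLattice) : GolayPt → ℤ) j =
          4 * (a j - (if j = p then ∑ i, a i else 0)) := by
        rw [AddSubgroup.val_finsetSum, Finset.sum_apply]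
        have e3 : ∀ i, ((a i • dd i p : leechLattice) : GolayPt → ℤ) j =
            4 * ((if j = i then a i else 0) - (if j = p then a i else 0)) := by
          intro i
          rw [AddSubgroup.coe_zsmul, Pi.smul_apply, dd_coe, smul_eq_mul]
          split_ifs <;> ring
        simp only [e3]
        rw [← Finset.mul_sum, Finset.sum_sub_distrib, Finset.sum_ite_eq Finset.univ j, if_pos (Finset.mem_univ j)]
        split_ifs <;> simp
      rw [sub_coe, ha, e2]
      unfold Int.ModEq at h3
      split_ifs <;> omega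
    have h5 : ∑ i, a i • dd i p ∈ U := U.sum_mem fun i _ => U.zsmul_mem (hd i p) (a i)
    have := U.add_mem h4 h5
    rwa [sub_add_cancel] at this
  -- even vectors
  have hodv : Perp p q k (odv p) := by
    constructor
    · rw [odv_coe, odv_coe, if_pos rfl, if_neg (Ne.symm hpq)]; decide
    · rw [odv_coe, odv_coe, if_neg (Ne.symm hpq), if_neg (Ne.symm hpk)]
  have heven : ∀ y : leechLattice, IsLeech 0 (y : GolayPt → ℤ) → Perp p q k y → y ∈ U := by
    intro y hy hP
    have hodd : ∀ i, ∃ b, (odv p : GolayPt → ℤ) i = 2 * b + 1 := fun i => by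
      have := (odv_isLeech p).par i
      exact ⟨(odv p : GolayPt → ℤ) i / 2, by unfold Int.ModEq at this; omega⟩
    choose b hb using hodd
    have key : ∀ (y : leechLattice) (B : Finset GolayPt) (_ : B ∈ Words) (a : GolayPt → ℤ),
        (∀ i, (y : GolayPt → ℤ) i = 2 * chi B i + 4 * a i) → Disjoint B {p, q, k} → y ∈ U := by
      intro y B hB a hya hBP
      have h3 : res B hB (odv p) ∈ U := hT _ (sgn_fix hB hBP) _ hodv
      have h4 : y - res B hB (odv p) ∈ U := by
        apply hfour _ (fun i => a i - (if i ∈ B then b i else 0))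
        intro i
        rw [sub_coe, res_coe, hya, hb]
        unfold chi
        split_ifs <;> ring
      have := U.add_mem h4 h3
      rwa [sub_add_cancel] at this
    obtain ⟨B, hB, a, hxa, ha⟩ := exists_form hy (Or.inl rfl)
    have hB1 : p ∈ B ↔ q ∈ B := by
      have h1 := hP.1
      rw [hxa, hxa] at h1
      unfold Int.ModEq chi at h1
      by_cases hp : p ∈ B <;> by_cases hq : q ∈ B <;> simp only [hp, hq, if_true, if_false] at h1 ⊢ <;> omega
    have hB2 : q ∈ B ↔ k ∈ B := by
      have h1 := hP.2
      rw [hxa, hxa] at h1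
      unfold Int.ModEq chi at h1
      by_cases hp : q ∈ B <;> by_cases hq : k ∈ B <;> simp only [hp, hq, if_true, if_false] at h1 ⊢ <;> omega
    by_cases hp : p ∈ B
    · have h3 : y - 2 • odv p ∈ U := by
        apply key _ Bᶜ (compl_mem hB) (fun i => a i - b i + (if i ∈ B then 0 else -1))
        · intro i
          rw [sub_coe, two_coe, hxa, hb]
          show _ = 2 * chi Bᶜ i + 4 * (a i - b i + if i ∈ B then 0 else -1)
          unfold chi
          by_cases hi : i ∈ B
          · rw [if_pos hi, if_neg (by simpa using hi), if_pos hi]; ring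
          · rw [if_neg hi, if_pos (by simpa using hi), if_neg hi]; ring
        · rw [Finset.disjoint_right]
          intro i hi
          simp only [Finset.mem_insert, Finset.mem_singleton] at hi
          rw [Finset.mem_compl, not_not]
          rcases hi with rfl | rfl | rfl
          · exact hp
          · exact hB1.1 hp
          · exact hB2.1 (hB1.1 hp)
      have := U.add_mem h3 (h2 (odv p))
      rwa [sub_add_cancel] at this
    · apply key y B hB a (fun i => by rw [hxa]; ring)
      rw [Finset.disjoint_right]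
      intro i hi
      simp only [Finset.mem_insert, Finset.mem_singleton] at hi
      rcases hi with rfl | rfl | rfl
      · exact hp
      · exact fun h => hp (hB1.2 h)
      · exact fun h => hp (hB1.2 (hB2.2 h))
  -- an odd vector
  have hP3 := card_P hpq hqk hpk
  obtain ⟨l, hl⟩ := exists_notMem {p, q, k} (by omega)
  obtain ⟨D, hD, hlD, hDs⟩ := exists_word l {p, q, k} (by omega) hl
  have hDP : Disjoint D {p, q, k} := Finset.disjoint_right.2 hDs
  obtain ⟨g, hg, hg1, -⟩ := exists_xi_fix hpq hqk hpk hl
  have hl' := hl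
  simp only [Finset.mem_insert, Finset.mem_singleton, not_or] at hl'
  have hpD : p ∉ D := hDs p (by simp)
  have hqD : q ∉ D := hDs q (by simp)
  have hkD : k ∉ D := hDs k (by simp)
  let o : leechLattice := sgn D hD • odv p
  have ho : ∀ i, (o : GolayPt → ℤ) i = if i ∈ D then -(odv p : GolayPt → ℤ) i else (odv p : GolayPt → ℤ) i :=
    fun i => rfl
  have hop : (o : GolayPt → ℤ) p = -3 := by rw [ho, if_neg hpD, odv_coe, if_pos rfl]
  have hoq : (o : GolayPt → ℤ) q = 1 := by rw [ho, if_neg hqD, odv_coe, if_neg (Ne.symm hpq)]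
  have hok : (o : GolayPt → ℤ) k = 1 := by rw [ho, if_neg hkD, odv_coe, if_neg (Ne.symm hpk)]
  have hol : (o : GolayPt → ℤ) l = -1 := by rw [ho, if_pos hlD, odv_coe, if_neg hl'.1]
  have hgi : ∀ i ∈ ({p, q, k, l} : Finset GolayPt), ((g • o : leechLattice) : GolayPt → ℤ) i =
      (o : GolayPt → ℤ) i + 1 := by
    intro i hi
    rw [hg1 o i hi, hop, hoq, hok, hol]
    norm_num
  have hgo : g • o ∈ U := by
    apply heven
    · rcases isLeech_zero_or_one (g • o).2 with h | h
      · exact h
      · exfalso
        have := h.par p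
        rw [hgi p (by simp), hop] at this
        exact absurd this (by decide)
    · constructor
      · rw [hgi p (by simp), hgi q (by simp), hop, hoq]; decide
      · rw [hgi q (by simp), hgi k (by simp), hok, hoq]
  have hoU : o ∈ U := by
    have h3 := hT g hg o ⟨by rw [hop, hoq]; decide, by rw [hok, hoq]⟩
    have := U.add_mem h3 hgo
    rwa [sub_add_cancel] at this
  intro y hy
  rcases isLeech_zero_or_one y.2 with h | h
  · exact heven y h hy
  · have h3 : y - o ∈ U := by
      apply heven
      · rcases isLeech_zero_or_one (y - o).2 with h' | h'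
        · exact h'
        · exfalso
          have h4 := h'.par p
          have h5 := h.par p
          rw [sub_coe, hop] at h4
          unfold Int.ModEq at h4 h5
          omega
      · have h4 := hy.1
        have h5 := hy.2
        constructor
        · rw [sub_coe, sub_coe, hop, hoq]; unfold Int.ModEq at *; omega
        · rw [sub_coe, sub_coe, hoq, hok]; unfold Int.ModEq at *; omega
    have := U.add_mem h3 hoU
    rwa [sub_add_cancel] at this

end

end Cfsg.Agent.MonsterN.TriLat
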