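import Cfsg.Agent.MonsterN.TriLat
import Cfsg.Agent.MonsterU.Lam2
import Cfsg.Agent.S1577
import Cfsg.Agent.S0283

/-!
# The stabiliser of a triangle of type 222 on `Λ / 2Λ`

`r = cl (4 e_p - 4 e_q)`, `s = cl (4 e_q - 4 e_k)`; `Fix` ≅ `PSU 6 2` (S1577) is simple.

* `le_of_two` : `Fix` has no subgroup of index 2;
* `mk_eq_one` : an element fixing `r`, `s` and acting trivially on `{r, s}^⊥ / ⟨r, s⟩` is `± 1`;
* `perp_perp` : `({r, s}^⊥)^⊥ = ⟨r, s⟩`;
* `mem_of_invariant`, `le_of_trivial` : the invariant subgroups of `{r, s}^⊥`.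
-/

set_option autoImplicit false

namespace Cfsg.Agent.MonsterN.TriSimple

open Cfsg Cfsg.Spor Cfsg.Agent.Leech.Code Cfsg.Agent.Leech.Basic Cfsg.Agent.Leech.Co0Elts
  Cfsg.Agent.Leech.Xi Cfsg.Agent.Leech.Trans Cfsg.Agent.Leech.TransPair
open Cfsg.Agent.MonsterN.TriLat Cfsg.Agent.MonsterU.Lam2

variable {p q k : GolayPt}

/-- The group of the elements fixing the two vectors. -/
def FixG (p q k : GolayPt) : Subgroup Co0 :=
  MulAction.stabilizer Co0 (dd p q) ⊓ MulAction.stabilizer Co0 (dd q k)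

theorem mem_FixG {g : Co0} : g ∈ FixG p q k ↔ Fix p q k g := Iff.rfl

theorem sqNorm_dd (h : p ≠ q) : sqNorm (dd p q : GolayPt → ℤ) = 32 := by
  rw [← v0_eq_dd h]; exact sqNorm_v0 h

theorem dot_dd (h : p ≠ q) (x : GolayPt → ℤ) : dotInt (dd p q : GolayPt → ℤ) x = 4 * (x p - x q) := by
  rw [← v0_eq_dd h]; exact dot_v0 h x

theorem isSimple (hpq : p ≠ q) (hqk : q ≠ k) (hpk : p ≠ k) : IsSimpleGroup (FixG p q k) := by
  have _ := hpk
  obtain ⟨e⟩ := Cfsg.Agent.S1577.result (dd p q) (dd q k) (sqNorm_dd hpq) (sqNorm_dd hqk)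
    (by
      rw [dot_dd hpq, dd_coe, dd_coe, if_neg hpq, if_neg hpk, if_pos rfl, if_neg hqk]; norm_num)
    Cfsg.Agent.SporadicA.FieldFour.F4 Cfsg.Agent.SporadicA.FieldFour.F4.card_eq
  have h1 : IsSimpleGroup (Cfsg.PSU 6 Cfsg.Agent.SporadicA.FieldFour.F4 2) :=
    Cfsg.Agent.S0283.result (q := 2) Cfsg.Agent.SporadicA.FieldFour.F4.card_eq 6 (by norm_num) (by norm_num)
  have : Nontrivial (FixG p q k) := e.toEquiv.nontrivial
  exact IsSimpleGroup.isSimpleGroup_of_surjective (e.symm.toMonoidHom) e.symm.surjective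

theorem fix_one : Fix p q k 1 := ⟨one_smul _ _, one_smul _ _⟩

theorem fix_mul {g h : Co0} (hg : Fix p q k g) (hh : Fix p q k h) : Fix p q k (g * h) :=
  (FixG p q k).mul_mem hg hh

theorem fix_inv {g : Co0} (hg : Fix p q k g) : Fix p q k g⁻¹ := (FixG p q k).inv_mem hg

/-- `4` times the characteristic function of a tetrad is not in `⟨v, w⟩ + 2 Λ`. -/
theorem not_tri_xi (hpq : p ≠ q) (hpk : p ≠ k) {l : GolayPt}
    (hl : l ∉ ({p, q, k} : Finset GolayPt)) {x : leechLattice}
    (hx : ∀ i, (x : GolayPt → ℤ) i = 4 * chi {p, q, k, l} i) : ¬ Tri p q k x := by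
  have hlT : l ∈ ({p, q, k, l} : Finset GolayPt) := by simp
  have hl' := hl
  simp only [Finset.mem_insert, Finset.mem_singleton, not_or] at hl'
  -- a vector `z` with `x - u = 2 z` gives a small word
  have key : ∀ u : leechLattice, (∀ i, ∃ b : ℤ, (u : GolayPt → ℤ) i = 4 * b) → (u : GolayPt → ℤ) l = 0 →
      (∀ i, i ∉ ({p, q, k, l} : Finset GolayPt) → (u : GolayPt → ℤ) i = 0) → x - u ∉ tw := by
    intro u hub hul hu0 h
    obtain ⟨z, hz⟩ := mem_tw.1 h
    have hz' : ∀ i, 2 * (z : GolayPt → ℤ) i = (x : GolayPt → ℤ) i - (u : GolayPt → ℤ) i := fun i => by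
      rw [← two_coe, ← hz, sub_coe]
    have hzL : IsLeech 0 (z : GolayPt → ℤ) := by
      rcases isLeech_zero_or_one z.2 with h | h
      · exact h
      · exfalso
        have h1 := h.par l
        have h2 := hz' l
        rw [hul, hx, chi_mem hlT] at h2
        unfold Int.ModEq at h1
        omega
    have hW := compl_mem (cls_mem_of_isLeech hzL)
    have hne : ((cls (z : GolayPt → ℤ) 0)ᶜ).Nonempty := by
      refine ⟨l, ?_⟩
      rw [Finset.mem_compl, mem_cls]
      have h2 := hz' l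
      rw [hul, hx, chi_mem hlT] at h2
      unfold Int.ModEq
      omega
    have h8 := eight_le_card hW hne
    have hsub : (cls (z : GolayPt → ℤ) 0)ᶜ ⊆ {p, q, k, l} := by
      intro i hi
      by_contra hi'
      rw [Finset.mem_compl, mem_cls] at hi
      apply hi
      have h2 := hz' i
      rw [hu0 i hi', hx, chi_not_mem hi'] at h2
      unfold Int.ModEq
      omega
    have h4 := Finset.card_le_card hsub
    have h5 : ({p, q, k, l} : Finset GolayPt).card ≤ 4 := Finset.card_le_four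
    omega
  have hd : ∀ a ∈ ({p, q, k} : Finset GolayPt), ∀ b ∈ ({p, q, k} : Finset GolayPt), x - dd a b ∉ tw := by
    intro a ha b hb
    have hla : l ≠ a := fun h => hl (h ▸ ha)
    have hlb : l ≠ b := fun h => hl (h ▸ hb)
    apply key
    · intro i; exact ⟨_, dd_coe a b i⟩
    · rw [dd_coe, if_neg hla, if_neg hlb]; rfl
    · intro i hi
      rw [dd_coe, if_neg, if_neg]
      · rfl
      · rintro rfl; apply hi; simp only [Finset.mem_insert, Finset.mem_singleton] at hb ⊢; tauto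
      · rintro rfl; apply hi; simp only [Finset.mem_insert, Finset.mem_singleton] at ha ⊢; tauto
  rintro (h | h | h | h)
  · refine key 0 (fun i => ⟨0, rfl⟩) rfl (fun i _ => rfl) ?_
    rwa [sub_zero]
  · exact hd p (by simp) q (by simp) h
  · exact hd q (by simp) k (by simp) h
  · exact hd p (by simp) k (by simp) h

/-- The element `ξ` moves `8 e_p` outside `⟨v, w⟩`. -/
theorem exists_move (hpq : p ≠ q) (hqk : q ≠ k) (hpk : p ≠ k) :
    ∃ g, Fix p q k g ∧ ¬ Tri p q k (e8 p - g • e8 p) := by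
  have hP3 := card_P hpq hqk hpk
  obtain ⟨l, hl⟩ := exists_notMem {p, q, k} (by omega)
  obtain ⟨g, hg, hg1, hg2⟩ := exists_xi_fix hpq hqk hpk hl
  refine ⟨g, hg, not_tri_xi hpq hpk hl fun i => ?_⟩
  rw [sub_coe]
  simp only [Finset.mem_insert, Finset.mem_singleton, not_or] at hl
  by_cases hi : i ∈ ({p, q, k, l} : Finset GolayPt)
  · rw [hg1 _ i hi, chi_mem hi, e8_coe p p, e8_coe p q, e8_coe p k, e8_coe p l, if_pos rfl,
      if_neg (Ne.symm hpq), if_neg (Ne.symm hpk), if_neg hl.1]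
    ring
  · rw [hg2 _ _ i hi, chi_not_mem hi, e8_coe, if_neg]
    · rfl
    · rintro rfl; exact hi (by simp)
    · intro j hj
      rw [e8_coe, if_neg]
      rintro rfl; exact hj (by simp)

/-- **`Fix` has no subgroup of index 2.** -/
theorem le_of_two (hpq : p ≠ q) (hqk : q ≠ k) (hpk : p ≠ k) (H : Subgroup Co0)
    (hH : ∀ A B, Fix p q k A → Fix p q k B → A ∉ H → B ∉ H → A * B ∈ H) :
    ∀ A, Fix p q k A → A ∈ H := by
  by_contra hcon
  push Not at hcon
  obtain ⟨A, hA, hAH⟩ := hcon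
  have := isSimple hpq hqk hpk
  have hn : (H.subgroupOf (FixG p q k)).Normal := by
    refine ⟨fun h hh x => ?_⟩
    rw [Subgroup.mem_subgroupOf] at hh ⊢
    by_cases hx : (x : Co0) ∈ H
    · exact H.mul_mem (H.mul_mem hx hh) (H.inv_mem hx)
    · refine hH ((x : Co0) * h) _ (fix_mul x.2 h.2) (fix_inv x.2) (fun h1 => hx ?_) (fun h1 => hx ?_)
      · have := H.mul_mem h1 (H.inv_mem hh)
        rwa [mul_inv_cancel_right] at this
      · have := H.inv_mem h1
        rwa [Subgroup.coe_inv, inv_inv] at this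
  rcases hn.eq_bot_or_eq_top with h | h
  · -- at most two elements
    have hbot : ∀ B, Fix p q k B → B ∈ H → B = 1 := by
      intro B hB hBH
      have : (⟨B, hB⟩ : FixG p q k) ∈ H.subgroupOf (FixG p q k) := hBH
      rw [h, Subgroup.mem_bot] at this
      exact congrArg Subtype.val this
    have key : ∀ B C, Fix p q k B → Fix p q k C → B ≠ 1 → C ≠ 1 → B = C := by
      intro B C hB hC hB1 hC1
      have hBH : B ∉ H := fun h => hB1 (hbot B hB h)
      have hCH : C ∉ H := fun h => hC1 (hbot C hC h)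
      have h1 := hbot _ (fix_mul hB hC) (hH B C hB hC hBH hCH)
      have h2 := hbot _ (fix_mul hC hC) (hH C C hC hC hCH hCH)
      exact mul_right_cancel (h1.trans h2.symm)
    obtain ⟨C, hC, hC0, hCP⟩ := exists_word_disj hpq hqk hpk
    obtain ⟨g, hg, hgt⟩ := exists_move hpq hqk hpk
    have h1 : sgn C hC • e8 p = e8 p := by
      apply ext_coe
      intro i
      rw [sgn_coe, sgnMap_apply]
      split_ifs with hi
      · rw [e8_coe, if_neg]
        · rfl
        · rintro rfl
          exact Finset.disjoint_left.1 hCP hi (by simp)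
      · rfl
    have h2 : sgn C hC ≠ 1 := by
      intro e
      obtain ⟨i, hi⟩ := hC0
      have h3 : ((sgn C hC • odv p : leechLattice) : GolayPt → ℤ) i = (odv p : GolayPt → ℤ) i := by
        rw [e, one_smul]
      rw [sgn_coe, sgnMap_apply, if_pos hi] at h3
      have h4 : (odv p : GolayPt → ℤ) i = 1 := by
        rw [odv_coe, if_neg]
        rintro rfl
        exact Finset.disjoint_left.1 hCP hi (by simp)
      omega
    have h3 : g ≠ 1 := by
      rintro rfl
      apply hgt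
      left
      rw [one_smul, sub_self]
      exact tw.zero_mem
    have h4 := key _ g (sgn_fix hC hCP) hg h2 h3
    apply hgt
    left
    rw [← h4, h1, sub_self]
    exact tw.zero_mem
  · apply hAH
    have : (⟨A, hA⟩ : FixG p q k) ∈ H.subgroupOf (FixG p q k) := by rw [h]; trivial
    exact this

/-! ### The action on `Λ / 2Λ` -/

/-- `⟨r, s⟩` -/
def InE (p q k : GolayPt) (x : L2) : Prop :=
  x = 0 ∨ x = cl (dd p q) ∨ x = cl (dd q k) ∨ x = cl (dd p q) + cl (dd q k)

theorem dd_add : dd p q + dd q k = dd p k := by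
  apply ext_coe
  intro i
  rw [add_coe, dd_coe, dd_coe, dd_coe]; ring

theorem mem_tw_iff {x : leechLattice} : x ∈ tw ↔ cl x = 0 := by
  rw [mem_tw, cl_eq_zero]

theorem inE_cl {x : leechLattice} : InE p q k (cl x) ↔ Tri p q k x := by
  unfold InE Tri
  rw [mem_tw_iff, mem_tw_iff, mem_tw_iff, mem_tw_iff, cl_sub, cl_sub, cl_sub, ← map_add, dd_add]
  have h : ∀ a b : L2, a + b = 0 ↔ a = b := fun a b =>
    ⟨fun h => eq_of_add_eq_zero h, fun h => by rw [h, add_self]⟩
  rw [h, h, h]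

theorem InE.add {x y : L2} (hx : InE p q k x) (hy : InE p q k y) : InE p q k (x + y) := by
  have h2 : ∀ a b : L2, a + (a + b) = b := fun a b => by rw [← add_assoc, add_self, zero_add]
  have h3 : ∀ a b : L2, b + (a + b) = a := fun a b => by rw [add_comm a, ← add_assoc, add_self, zero_add]
  have h4 : ∀ a b : L2, a + b + a = b := fun a b => by rw [add_comm a, add_assoc, add_self, add_zero]
  have h5 : ∀ a b : L2, a + b + b = a := fun a b => by rw [add_assoc, add_self, add_zero]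
  unfold InE
  rcases hx with rfl | rfl | rfl | rfl <;> rcases hy with rfl | rfl | rfl | rfl <;>
    first
    | simp only [zero_add, add_zero, add_self, h2, h3, h4, h5, true_or, or_true]; done
    | (right; right; right; exact add_comm _ _)

theorem fix_inE {g : Co0} (h1 : g • cl (dd p q) = cl (dd p q)) (h2 : g • cl (dd q k) = cl (dd q k))
    {x : L2} (hx : InE p q k x) : g • x = x := by
  rcases hx with rfl | rfl | rfl | rfl
  · exact smul_zero g
  · exact h1
  · exact h2
  · rw [smul_add, h1, h2]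

/-- orthogonality of classes -/
def Pp (p q k : GolayPt) (x : L2) : Prop := bf x (cl (dd p q)) = 0 ∧ bf x (cl (dd q k)) = 0

theorem pp_cl (hpq : p ≠ q) (hqk : q ≠ k) {x : leechLattice} : Pp p q k (cl x) ↔ Perp p q k x := by
  unfold Pp Perp
  rw [bf_cl_eq_zero, bf_cl_eq_zero, dotInt_comm, dot_dd hpq, dotInt_comm, dot_dd hqk]
  unfold Int.ModEq
  constructor
  · rintro ⟨h1, h2⟩
    constructor <;> omega
  · rintro ⟨h1, h2⟩
    constructor <;> omega

theorem fix_cl {g : Co0} (h : Fix p q k g) : g • cl (dd p q) = cl (dd p q) ∧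
    g • cl (dd q k) = cl (dd q k) := by
  rw [smul_cl, smul_cl, h.1, h.2]
  exact ⟨rfl, rfl⟩

theorem Pp.smul {g : Co0} (h1 : g • cl (dd p q) = cl (dd p q)) (h2 : g • cl (dd q k) = cl (dd q k))
    {x : L2} (hx : Pp p q k x) : Pp p q k (g • x) := by
  constructor
  · rw [← h1, bf_smul]; exact hx.1
  · rw [← h2, bf_smul]; exact hx.2

theorem Pp.add {x y : L2} (hx : Pp p q k x) (hy : Pp p q k y) : Pp p q k (x + y) :=
  ⟨by rw [bf_add_left, hx.1, hy.1, add_zero], by rw [bf_add_left, hx.2, hy.2, add_zero]⟩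

/-- Congruent minimal vectors are equal up to sign. -/
theorem eq_or_neg {v w : leechLattice} (hv : sqNorm (v : GolayPt → ℤ) = 32)
    (hw : sqNorm (w : GolayPt → ℤ) = 32) (h : cl v = cl w) : v = w ∨ v = -w := by
  obtain ⟨u, hu⟩ := cl_eq.1 h
  by_contra hcon
  rw [not_or] at hcon
  have hu0 : (u : GolayPt → ℤ) ≠ 0 := by
    intro h0
    apply hcon.1
    have : u = 0 := Subtype.ext h0
    rw [this, smul_zero, sub_eq_zero] at hu
    exact hu
  have hu1 : ((u + w : leechLattice) : GolayPt → ℤ) ≠ 0 := by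
    intro h0
    apply hcon.2
    have h1 : u + w = 0 := Subtype.ext h0
    have h2 : v + w = 2 • (u + w) := by
      rw [smul_add, ← hu, two_smul]; abel
    rw [h1, smul_zero] at h2
    exact eq_neg_of_add_eq_zero_left h2
  have n1 := Cfsg.Agent.S0391.result _ u.2 hu0
  have n2 := Cfsg.Agent.S0391.result _ (u + w).2 hu1
  have e1 : sqNorm ((v - w : leechLattice) : GolayPt → ℤ) = 4 * sqNorm (u : GolayPt → ℤ) := by
    rw [hu, two_smul, AddSubgroup.coe_add, sqNorm_add, dotInt_self]; ring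
  have e2 : sqNorm ((v + w : leechLattice) : GolayPt → ℤ) = 4 * sqNorm ((u + w : leechLattice) : GolayPt → ℤ) := by
    have h2 : v + w = 2 • (u + w) := by
      rw [smul_add, ← hu, two_smul]; abel
    rw [h2, two_smul]
    generalize u + w = t
    rw [AddSubgroup.coe_add, sqNorm_add, dotInt_self]; ring
  rw [AddSubgroup.coe_sub, sqNorm_sub, hv, hw] at e1
  rw [show ((v + w : leechLattice) : GolayPt → ℤ) = v + w from rfl, sqNorm_add, hv, hw] at e2
  omega

open Cfsg.Agent.SporadicA.Co0Basic in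
/-- An element fixing both classes fixes both vectors up to sign. -/
theorem pm_fix (hpq : p ≠ q) (hqk : q ≠ k) (hpk : p ≠ k) {g : Co0} (h1 : g • cl (dd p q) = cl (dd p q))
    (h2 : g • cl (dd q k) = cl (dd q k)) : Fix p q k g ∨ Fix p q k (negCo0 * g) := by
  rw [smul_cl] at h1 h2
  have hneg : ∀ x : leechLattice, negCo0 • x = -x := fun x => rfl
  have hdot := dotInt_smul g (dd p q) (dd q k)
  have hd : dotInt (dd p q : GolayPt → ℤ) (dd q k : GolayPt → ℤ) = -16 := by
    rw [dot_dd hpq, dd_coe, dd_coe, if_neg hpq, if_neg hpk, if_pos rfl, if_neg hqk]; norm_num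
  rcases eq_or_neg ((sqNorm_smul g _).trans (sqNorm_dd hpq)) (sqNorm_dd hpq) h1 with e1 | e1 <;>
    rcases eq_or_neg ((sqNorm_smul g _).trans (sqNorm_dd hqk)) (sqNorm_dd hqk) h2 with e2 | e2
  · exact Or.inl ⟨e1, e2⟩
  · exfalso
    rw [e1, e2, hd, AddSubgroup.coe_neg, dotInt_neg_right, hd] at hdot
    omega
  · exfalso
    rw [e1, e2, hd, AddSubgroup.coe_neg, dotInt_neg_left, hd] at hdot
    omega
  · right
    constructor
    · rw [mul_smul, e1, hneg, neg_neg]
    · rw [mul_smul, e2, hneg, neg_neg]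

/-- An element of `Fix` acting trivially on `{v, w}^⊥ / ⟨v, w⟩` is trivial. -/
theorem eq_one_of_fix (hpq : p ≠ q) (hqk : q ≠ k) (hpk : p ≠ k) {A : Co0} (hA : Fix p q k A)
    (h : ∀ x : L2, Pp p q k x → InE p q k (x + A • x)) : A = 1 := by
  have := isSimple hpq hqk hpk
  let T : Subgroup (FixG p q k) :=
    { carrier := {A | ∀ x : L2, Pp p q k x → InE p q k (x + (A : Co0) • x)}
      one_mem' := fun x _ => by
        rw [Subgroup.coe_one, one_smul, add_self]; exact Or.inl rfl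
      mul_mem' := by
        intro a b ha hb x hx
        have h1 := ha x hx
        have h2 := hb x hx
        have h3 := fix_inE (fix_cl a.2).1 (fix_cl a.2).2 h2
        rw [smul_add] at h3
        have h4 := h1.add h2
        rw [← h3] at h4
        rw [Subgroup.coe_mul, mul_smul]
        have e : x + (a : Co0) • x + ((a : Co0) • x + (a : Co0) • (b : Co0) • x) =
            x + (a : Co0) • (b : Co0) • x := by
          rw [add_assoc, ← add_assoc ((a : Co0) • x) ((a : Co0) • x), add_self, zero_add]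
        rwa [e] at h4
      inv_mem' := by
        intro a ha x hx
        have hx' : Pp p q k ((a : Co0)⁻¹ • x) := hx.smul (fix_cl (fix_inv a.2)).1 (fix_cl (fix_inv a.2)).2
        have h1 := ha _ hx'
        rw [smul_inv_smul, add_comm] at h1
        exact h1 }
  have hn : T.Normal := by
    refine ⟨fun a ha g x hx => ?_⟩
    have hx' : Pp p q k ((g : Co0)⁻¹ • x) := hx.smul (fix_cl (fix_inv g.2)).1 (fix_cl (fix_inv g.2)).2
    have h1 := ha _ hx'
    have h2 := fix_inE (fix_cl g.2).1 (fix_cl g.2).2 h1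
    rw [← h2, smul_add, smul_inv_smul] at h1
    have e : ((g * a * g⁻¹ : FixG p q k) : Co0) • x = (g : Co0) • (a : Co0) • (g : Co0)⁻¹ • x := by
      rw [Subgroup.coe_mul, Subgroup.coe_mul, Subgroup.coe_inv, mul_smul, mul_smul]
    rw [e]
    exact h1
  rcases hn.eq_bot_or_eq_top with h1 | h1
  · have h2 : (⟨A, hA⟩ : FixG p q k) ∈ T := h
    rw [h1, Subgroup.mem_bot] at h2
    exact congrArg Subtype.val h2
  · exfalso
    obtain ⟨g, hg, hgt⟩ := exists_move hpq hqk hpk
    have h2 : (⟨g, hg⟩ : FixG p q k) ∈ T := by rw [h1]; trivial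
    have h3 : InE p q k (cl (e8 p) + g • cl (e8 p)) := h2 _ ((pp_cl hpq hqk).2 (by
      constructor
      · rw [e8_coe, e8_coe, if_pos rfl, if_neg (Ne.symm hpq)]; decide
      · rw [e8_coe, e8_coe, if_neg (Ne.symm hpq), if_neg (Ne.symm hpk)]))
    rw [smul_cl, ← cl_sub, inE_cl] at h3
    exact hgt h3

open Cfsg.Agent.SporadicA.Co0Basic in
/-- **The kernel of the action on `{r, s}^⊥ / ⟨r, s⟩`.** -/
theorem mk_eq_one (hpq : p ≠ q) (hqk : q ≠ k) (hpk : p ≠ k) {A : Co0} (h1 : A • cl (dd p q) = cl (dd p q))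
    (h2 : A • cl (dd q k) = cl (dd q k)) (h : ∀ x : L2, Pp p q k x → InE p q k (x + A • x)) :
    (QuotientGroup.mk A : Co1) = 1 := by
  rcases pm_fix hpq hqk hpk h1 h2 with h3 | h3
  · rw [eq_one_of_fix hpq hqk hpk h3 h]; rfl
  · have h4 := eq_one_of_fix hpq hqk hpk h3 (fun x hx => by rw [mul_smul, negCo0_smul]; exact h x hx)
    have h5 : A = negCo0⁻¹ := eq_inv_of_mul_eq_one_right h4
    rw [QuotientGroup.eq_one_iff, h5]
    exact (Subgroup.center Co0).inv_mem negCo0_mem_center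

/-! ### Orthogonal complements -/

/-- Elements separating `r` and `s`. -/
theorem exists_sep (hpq : p ≠ q) (hqk : q ≠ k) (hpk : p ≠ k) (a b : ZMod 2) :
    ∃ c : L2, bf c (cl (dd p q)) = a ∧ bf c (cl (dd q k)) = b := by
  have key : ∀ O ∈ Words, ∃ x : leechLattice, ∀ i, (x : GolayPt → ℤ) i = 2 * chi O i :=
    fun O hO => ⟨⟨_, (isLeech_two_chi hO).mem⟩, fun i => rfl⟩
  have hbf : ∀ (x : leechLattice) (a' b' : GolayPt) (h : a' ≠ b') (m : ℤ),
      (x : GolayPt → ℤ) a' - (x : GolayPt → ℤ) b' = 2 * m → bf (cl x) (cl (dd a' b')) = (m : ZMod 2) := by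
    intro x a' b' h m hm
    rw [bf_cl, b0, dotInt_comm, dot_dd h, hm, show (4 : ℤ) * (2 * m) = 8 * m by ring,
      Int.mul_ediv_cancel_left _ (by norm_num)]
  -- `O` contains `p`, not `q` and `k`; `O'` contains `k`, not `p`, `q`
  obtain ⟨O, hO, hpO, hOs⟩ := exists_word p {q, k} (Finset.card_le_two.trans (by norm_num))
    (by simp only [Finset.mem_insert, Finset.mem_singleton, not_or]; exact ⟨hpq, hpk⟩)
  obtain ⟨O', hO', hkO, hOs'⟩ := exists_word k {p, q} (Finset.card_le_two.trans (by norm_num))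
    (by simp only [Finset.mem_insert, Finset.mem_singleton, not_or]; exact ⟨Ne.symm hpk, Ne.symm hqk⟩)
  obtain ⟨x, hx⟩ := key O hO
  obtain ⟨y, hy⟩ := key O' hO'
  have x1 : bf (cl x) (cl (dd p q)) = 1 := by
    rw [hbf x p q hpq 1 (by rw [hx, hx, chi_mem hpO, chi_not_mem (hOs q (by simp))]; rfl)]; rfl
  have x2 : bf (cl x) (cl (dd q k)) = 0 := by
    rw [hbf x q k hqk 0 (by rw [hx, hx, chi_not_mem (hOs q (by simp)), chi_not_mem (hOs k (by simp))]; rfl)]; rfl
  have y1 : bf (cl y) (cl (dd p q)) = 0 := by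
    rw [hbf y p q hpq 0 (by rw [hy, hy, chi_not_mem (hOs' p (by simp)), chi_not_mem (hOs' q (by simp))]; rfl)]; rfl
  have y2 : bf (cl y) (cl (dd q k)) = 1 := by
    rw [hbf y q k hqk (-1) (by rw [hy, hy, chi_not_mem (hOs' q (by simp)), chi_mem hkO]; rfl)]; rfl
  have hz : ∀ a : ZMod 2, a = 0 ∨ a = 1 := by decide
  rcases hz a with rfl | rfl <;> rcases hz b with rfl | rfl
  · exact ⟨0, bf_zero_left _, bf_zero_left _⟩
  · exact ⟨cl y, y1, y2⟩
  · exact ⟨cl x, x1, x2⟩
  · exact ⟨cl x + cl y, by rw [bf_add_left, x1, y1, add_zero], by rw [bf_add_left, x2, y2, zero_add]⟩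

/-- **`({r, s}^⊥)^⊥ = ⟨r, s⟩`.** -/
theorem perp_perp (hpq : p ≠ q) (hqk : q ≠ k) (hpk : p ≠ k) {y : L2}
    (h : ∀ c, Pp p q k c → bf c y = 0) : InE p q k y := by
  obtain ⟨u1, h11, h12⟩ := exists_sep hpq hqk hpk 1 0
  obtain ⟨u2, h21, h22⟩ := exists_sep hpq hqk hpk 0 1
  have hz : ∀ a : ZMod 2, a = 0 ∨ a = 1 := by decide
  have hsm : ∀ (a : ZMod 2) (x z : L2), bf (a • x) z = a * bf x z := by
    intro a x z
    rcases hz a with rfl | rfl
    · rw [zero_smul, bf_zero_left, zero_mul]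
    · rw [one_smul, one_mul]
  have hsm' : ∀ (a : ZMod 2) (x z : L2), bf z (a • x) = a * bf z x := by
    intro a x z
    rw [bf_comm, hsm, bf_comm]
  have h2 : ∀ a : ZMod 2, a + a = 0 := by decide
  have key : ∀ c : L2, bf c (y + (bf u1 y • cl (dd p q) + bf u2 y • cl (dd q k))) = 0 := by
    intro c
    have h3 := h (c + (bf c (cl (dd p q)) • u1 + bf c (cl (dd q k)) • u2)) (by
      constructor
      · rw [bf_add_left, bf_add_left, hsm, hsm, h11, h21, mul_one, mul_zero, add_zero, h2]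
      · rw [bf_add_left, bf_add_left, hsm, hsm, h12, h22, mul_one, mul_zero, zero_add, h2])
    rw [bf_add_left, bf_add_left, hsm, hsm] at h3
    rw [bf_add_right, bf_add_right, hsm', hsm', mul_comm (bf u1 y), mul_comm (bf u2 y)]
    exact h3
  have h4 : y + (bf u1 y • cl (dd p q) + bf u2 y • cl (dd q k)) = 0 :=
    bf_nondeg fun c => by rw [bf_comm]; exact key c
  rw [eq_of_add_eq_zero h4]
  unfold InE
  rcases hz (bf u1 y) with e | e <;> rcases hz (bf u2 y) with e' | e' <;> rw [e, e'] <;>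
    simp only [zero_smul, one_smul, zero_add, add_zero, true_or, or_true]

/-! ### Invariant subgroups -/

/-- **A `Fix`-invariant subgroup of `{r, s}^⊥` not contained in `⟨r, s⟩`.** -/
theorem mem_of_invariant (hpq : p ≠ q) (hqk : q ≠ k) (hpk : p ≠ k) (U : AddSubgroup L2)
    (hU : ∀ g, Fix p q k g → ∀ x ∈ U, g • x ∈ U) (hperp : ∀ x ∈ U, Pp p q k x)
    {x : L2} (hx : x ∈ U) (hnx : ¬ InE p q k x) :
    cl (dd p q) ∈ U ∧ cl (dd q k) ∈ U ∧ cl (e8 p) ∈ U := by
  obtain ⟨v, rfl⟩ := cl_surjective x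
  have h := TriLat.mem_of_not_tri (U := U.comap cl) (p := p) (q := q) (k := k)
    (fun z => by
      show cl (2 • z) ∈ U
      rw [cl_two]; exact U.zero_mem) hpq hqk hpk
    (fun g hg x hx => hU g hg _ hx) (fun x hx => (pp_cl hpq hqk).1 (hperp _ hx)) (x := v) hx
    (fun h => hnx (inE_cl.2 h))
  exact ⟨h.2 p q, h.2 q k, h.1 p⟩

/-- **Subgroups modulo which `Fix` acts trivially on `{r, s}^⊥`.** -/
theorem le_of_trivial (hpq : p ≠ q) (hqk : q ≠ k) (hpk : p ≠ k) (U : AddSubgroup L2)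
    (hT : ∀ g, Fix p q k g → ∀ y, Pp p q k y → y + g • y ∈ U) : ∀ y, Pp p q k y → y ∈ U := by
  intro y hy
  obtain ⟨v, rfl⟩ := cl_surjective y
  exact TriLat.le_of_trivial (U := U.comap cl) (p := p) (q := q) (k := k)
    (fun z => by
      show cl (2 • z) ∈ U
      rw [cl_two]; exact U.zero_mem) hpq hqk hpk
    (fun g hg x hx => by
      show cl (x - g • x) ∈ U
      rw [cl_sub, ← smul_cl]
      exact hT g hg _ ((pp_cl hpq hqk).2 hx)) v ((pp_cl hpq hqk).1 hy)

end Cfsg.Agent.MonsterN.TriSimple
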