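import Mathlib

/-!
# The class of `f₁` in `2.B` is determined by the order of the centraliser; the exchange of `t` and `f₁`

* `uniq`: `X = C_M(t)`; every involution `u ≠ t` of `X` is conjugate to `a`, or `u` or `t u` is conjugate in the
  Monster to `z`; the prime `p` (`= 19`) does not divide the order of the centraliser of `z`, but it divides the order
  of the centraliser of `f`.  Then the involutions `u` of `X` with `|C_X(u)| = |C_X(f)|` are conjugate to `f`.
* `exists_swap`: if `C_G(t) ≅ X` and `t` is conjugate to `f` then some element of `G` exchanges `t` and `f`.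
-/

set_option autoImplicit false

namespace Cfsg.Agent.MonsterN.Uniq

open Subgroup

section

variable {G X : Type*} [Group G] [Group X]

theorem card_centralizer_conj {x y : G} (h : IsConj x y) :
    Nat.card (centralizer {x} : Subgroup G) = Nat.card (centralizer {y} : Subgroup G) := by
  obtain ⟨c, rfl⟩ := isConj_iff.1 h
  refine Nat.card_congr ((MulAut.conj c).toEquiv.subtypeEquiv fun g => ?_)
  rw [mem_centralizer_singleton_iff, mem_centralizer_singleton_iff]
  show g * x = x * g ↔ c * g * c⁻¹ * (c * x * c⁻¹) = c * x * c⁻¹ * (c * g * c⁻¹)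
  have e1 : c * g * c⁻¹ * (c * x * c⁻¹) = c * (g * x) * c⁻¹ := by group
  have e2 : c * x * c⁻¹ * (c * g * c⁻¹) = c * (x * g) * c⁻¹ := by group
  rw [e1, e2]
  constructor
  · intro h; rw [h]
  · intro h; exact mul_left_cancel (mul_right_cancel h)

/-- The order of a centraliser divides the order of the centraliser of the image. -/
theorem card_dvd [Finite G] {φ : X →* G} (hφ : Function.Injective φ) (u : X) {v : G}
    (hv : ∀ x : X, x * u = u * x → φ x * v = v * φ x) :
    Nat.card (centralizer {u} : Subgroup X) ∣ Nat.card (centralizer {v} : Subgroup G) := by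
  have h1 : (centralizer {u} : Subgroup X).map φ ≤ centralizer {v} := by
    rintro _ ⟨x, hx, rfl⟩
    rw [SetLike.mem_coe, mem_centralizer_singleton_iff] at hx
    rw [mem_centralizer_singleton_iff]
    exact hv x hx
  have h2 : Nat.card ((centralizer {u} : Subgroup X).map φ) = Nat.card (centralizer {u} : Subgroup X) :=
    Nat.card_congr ((centralizer {u} : Subgroup X).equivMapOfInjective φ hφ).toEquiv.symm
  rw [← h2]
  exact card_dvd_of_le h1

/-- **The class of `f` is determined by the order of the centraliser.** -/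
theorem uniq [Finite G] {φ : X →* G} (hφ : Function.Injective φ) {p : ℕ} {z : G}
    (hz : ¬ p ∣ Nat.card (centralizer {z} : Subgroup G)) {t a f : X} (ht : ∀ x : X, x * t = t * x)
    (cls : ∀ u : X, u * u = 1 → u ≠ 1 → u ≠ t → IsConj a u ∨ IsConj z (φ u) ∨ IsConj z (φ (t * u)))
    (hf : p ∣ Nat.card (centralizer {f} : Subgroup X)) (hf2 : f * f = 1) (hfc : ∃ x : X, x * f ≠ f * x)
    (u : X) (hu : u * u = 1) (hcard : Nat.card (centralizer {u} : Subgroup X) =
      Nat.card (centralizer {f} : Subgroup X)) : IsConj f u := by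
  have : Finite X := Finite.of_injective φ hφ
  have key : ∀ w : X, w * w = 1 → (∃ x : X, x * w ≠ w * x) →
      p ∣ Nat.card (centralizer {w} : Subgroup X) → IsConj a w := by
    intro w hw hwc hp
    have hw1 : w ≠ 1 := by
      rintro rfl
      obtain ⟨x, hx⟩ := hwc
      exact hx (by rw [mul_one, one_mul])
    have hwt : w ≠ t := by
      rintro rfl
      obtain ⟨x, hx⟩ := hwc
      exact hx (ht x)
    rcases cls w hw hw1 hwt with h | h | h
    · exact h
    · exfalso
      apply hz
      rw [card_centralizer_conj h]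
      exact hp.trans (card_dvd hφ w fun x hx => by rw [← map_mul, ← map_mul, hx])
    · exfalso
      apply hz
      rw [card_centralizer_conj h]
      refine hp.trans (card_dvd hφ w fun x hx => ?_)
      rw [← map_mul, ← map_mul]
      congr 1
      rw [← mul_assoc, ht, mul_assoc, hx, mul_assoc]
  have hne : (centralizer {u} : Subgroup X) ≠ ⊤ := by
    intro htop
    obtain ⟨x, hx⟩ := hfc
    apply hx
    have h1 : (centralizer {f} : Subgroup X) = ⊤ := by
      apply eq_top_of_card_eq
      rw [← hcard, htop, card_top]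
    have h2 : x ∈ (centralizer {f} : Subgroup X) := by rw [h1]; trivial
    exact mem_centralizer_singleton_iff.1 h2
  have huc : ∃ x : X, x * u ≠ u * x := by
    by_contra hcon
    push Not at hcon
    apply hne
    rw [eq_top_iff]
    intro x _
    exact mem_centralizer_singleton_iff.2 (hcon x)
  exact (key f hf2 hfc hf).symm.trans (key u hu huc (by rw [hcard]; exact hf))

/-- **The exchange.** -/
theorem exists_swap {φ : X →* G} (hφ : Function.Injective φ) {t f : X} (ht : ∀ x : X, x * t = t * x)
    (t2 : t * t = 1) (hr : ∀ x : G, x * φ t = φ t * x → ∃ u, φ u = x)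
    (huniq : ∀ u : X, u * u = 1 → Nat.card (centralizer {u} : Subgroup X) =
      Nat.card (centralizer {f} : Subgroup X) → IsConj f u)
    (h : IsConj (φ t) (φ f)) : ∃ n : G, n * φ t * n⁻¹ = φ f ∧ n * φ f * n⁻¹ = φ t := by
  obtain ⟨g, hg⟩ := isConj_iff.1 h
  have hc : φ t * φ f = φ f * φ t := by rw [← map_mul, ← map_mul, ← ht f]
  have hs : g⁻¹ * φ t * g * φ t = φ t * (g⁻¹ * φ t * g) := by
    calc g⁻¹ * φ t * g * φ t = g⁻¹ * (φ t * (g * φ t * g⁻¹)) * g := by group
      _ = g⁻¹ * ((g * φ t * g⁻¹) * φ t) * g := by rw [hg, hc]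
      _ = _ := by group
  obtain ⟨u, hu⟩ := hr _ hs
  have hu2 : u * u = 1 := by
    apply hφ
    rw [map_mul, hu, map_one]
    calc g⁻¹ * φ t * g * (g⁻¹ * φ t * g) = g⁻¹ * (φ t * φ t) * g := by group
      _ = 1 := by rw [← map_mul, t2, map_one]; group
  have mem : ∀ x : X, x * u = u * x ↔ (g * φ x * g⁻¹) * φ t = φ t * (g * φ x * g⁻¹) := by
    intro x
    rw [← hφ.eq_iff, map_mul, map_mul, hu]
    constructor
    · intro hx
      calc g * φ x * g⁻¹ * φ t = g * (φ x * (g⁻¹ * φ t * g)) * g⁻¹ := by group
        _ = g * (g⁻¹ * φ t * g * φ x) * g⁻¹ := by rw [hx]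
        _ = _ := by group
    · intro hx
      calc φ x * (g⁻¹ * φ t * g) = g⁻¹ * (g * φ x * g⁻¹ * φ t) * g := by group
        _ = g⁻¹ * (φ t * (g * φ x * g⁻¹)) * g := by rw [hx]
        _ = _ := by group
  have hfx : ∀ x : X, (g * φ x * g⁻¹) * φ f = φ f * (g * φ x * g⁻¹) := by
    intro x
    rw [← hg]
    calc g * φ x * g⁻¹ * (g * φ t * g⁻¹) = g * (φ x * φ t) * g⁻¹ := by group
      _ = g * (φ t * φ x) * g⁻¹ := by rw [← map_mul, ← map_mul, ht]
      _ = _ := by group
  -- the centralisers of `u` and `f` in `X`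
  have hcard : Nat.card (centralizer {u} : Subgroup X) = Nat.card (centralizer {f} : Subgroup X) := by
    have hto : ∀ x : (centralizer {u} : Subgroup X), ∃ w : (centralizer {f} : Subgroup X),
        φ w = g * φ x * g⁻¹ := by
      intro x
      obtain ⟨w, hw⟩ := hr _ ((mem x).1 (mem_centralizer_singleton_iff.1 x.2))
      refine ⟨⟨w, mem_centralizer_singleton_iff.2 ?_⟩, hw⟩
      apply hφ
      rw [map_mul, map_mul, hw]
      exact hfx x
    choose F hF using hto
    refine Nat.card_congr (Equiv.ofBijective F ⟨?_, ?_⟩)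
    · intro x x' hxx
      apply Subtype.ext
      apply hφ
      have h1 : φ (F x) = φ (F x') := by rw [hxx]
      rw [hF, hF] at h1
      exact mul_left_cancel (mul_right_cancel h1)
    · intro w
      have h1 : g⁻¹ * φ w * g * φ t = φ t * (g⁻¹ * φ w * g) := by
        have h2 : (w : X) * f = f * w := mem_centralizer_singleton_iff.1 w.2
        have h3 : φ w * φ f = φ f * φ w := by rw [← map_mul, h2, map_mul]
        rw [← hg] at h3
        calc g⁻¹ * φ w * g * φ t = g⁻¹ * (φ w * (g * φ t * g⁻¹)) * g := by group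
          _ = g⁻¹ * (g * φ t * g⁻¹ * φ w) * g := by rw [h3]
          _ = _ := by group
      obtain ⟨x, hx⟩ := hr _ h1
      have hxw : g * φ x * g⁻¹ = φ w := by rw [hx]; group
      have hxu : x ∈ (centralizer {u} : Subgroup X) := by
        rw [mem_centralizer_singleton_iff, mem, hxw, ← map_mul, ← map_mul, ht]
      refine ⟨⟨x, hxu⟩, Subtype.ext (hφ ?_)⟩
      rw [hF]; exact hxw
  obtain ⟨c, hc'⟩ := isConj_iff.1 (huniq u hu2 hcard)
  refine ⟨g * φ c, ?_, ?_⟩
  · calc g * φ c * φ t * (g * φ c)⁻¹ = g * (φ c * φ t) * (φ c)⁻¹ * g⁻¹ := by group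
      _ = g * (φ t * φ c) * (φ c)⁻¹ * g⁻¹ := by rw [← map_mul, ← map_mul, ht]
      _ = g * φ t * g⁻¹ := by group
      _ = φ f := hg
  · calc g * φ c * φ f * (g * φ c)⁻¹ = g * (φ c * φ f * (φ c)⁻¹) * g⁻¹ := by group
      _ = g * φ u * g⁻¹ := by rw [← hc', map_mul, map_mul, map_inv]
      _ = φ t := by rw [hu]; group

end

end Cfsg.Agent.MonsterN.Uniq
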